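import Groth.Agent.MilnorKLambda.Tame1.Data

/-!
# The laws of the tame symbol
-/

set_option autoImplicit false
universe u

open IsLocalRing Finset

namespace Groth.MilnorKLambda.Amb

variable {R : Type u} [CommRing R] [IsNoetherianRing R] [IsLocalRing R] [Ring.KrullDimLE 1 R]

attribute [local instance] isLocalHom_atPrime

/-- Common data for finitely many nonzerodivisors, one of which is in the maximal ideal. -/
theorem exists_common {a : R} {Q : Type u} [CommRing Q] [Algebra R Q] (hQ : IsAmb Q a) (l : Finset R)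
    (hl : ∀ g ∈ l, g ∈ nonZeroDivisors R) :
    ∃ (T : Subalgebra R Q), T.toSubmodule.FG ∧ ∀ (M : Ideal T) [M.IsMaximal],
      ∃ γ ∈ nonZeroDivisors (Localization.AtPrime M), ∀ g ∈ l, Nonempty (Fact γ (algebraMap R (Localization.AtPrime M) g)) := by
  classical
  obtain ⟨T, hle, hT, h⟩ := hQ.exists_local_base ⊥ fg_bot (l.image (algebraMap R Q)) (fun z hz => by
    obtain ⟨g, hg, rfl⟩ := Finset.mem_image.1 hz
    exact ⟨(⊥ : Subalgebra R Q).algebraMap_mem g, hQ.isUnit_of_nzd (hl g hg)⟩)
  refine ⟨T, hT, fun M _ => ?_⟩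
  obtain ⟨γ, hγ, hf⟩ := h M
  refine ⟨γ, hγ, fun g hg => ?_⟩
  obtain ⟨F⟩ := hf _ (Finset.mem_image_of_mem _ hg)
  exact ⟨F.cast (IsScalarTower.algebraMap_apply R T (Localization.AtPrime M) g).symm⟩

theorem Fact.val_unit_left' {L : Type u} [CommRing L] [IsLocalRing L] {π x y : L} (F : Fact π x) (G : Fact π y)
    (hx : IsUnit x) : F.val G = residue L x ^ (G.e * (Ring.ord L π).toNat) := by
  by_cases hu : IsUnit π
  · rw [Fact.val_of_isUnit hu, Ring.ord_of_isUnit hu]; simp
  · exact Fact.val_unit_left F (fact_eq_zero hu hx F) G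

theorem Fact.steinberg' {L : Type u} [CommRing L] [IsLocalRing L] {A : Type u} [CommRing A] (φ : A →+* L) {π : L}
    (hπ : π ∈ nonZeroDivisors L) {x y : A} (F : Fact π (φ x)) (G : Fact π (φ y)) (H : Fact π (φ (y - x))) :
    F.val H * G.val G = G.val H * F.val G :=
  Fact.steinberg hπ F G (H.cast (map_sub φ y x))

variable {a : R} {Q : Type u} [CommRing Q] [Algebra R Q]

/-- The data built from a common base. -/
noncomputable def datBase {T : Subalgebra R Q} {x y : R}
    (γ : ∀ M : MaximalSpectrum T, Localization.AtPrime M.asIdeal)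
    (hγ : ∀ M, γ M ∈ nonZeroDivisors (Localization.AtPrime M.asIdeal))
    (hx : ∀ M, Nonempty (Fact (γ M) (algebraMap R (Localization.AtPrime M.asIdeal) x)))
    (hy : ∀ M, Nonempty (Fact (γ M) (algebraMap R (Localization.AtPrime M.asIdeal) y))) : Dat T x y :=
  ⟨γ, hγ, fun M => (hx M).some, fun M => (hy M).some⟩

theorem tameSymbol_ne_zero {x y : R} (hx : x ∈ nonZeroDivisors R) (hy : y ∈ nonZeroDivisors R) :
    CycAlg.tameSymbol R x y ≠ 0 := by
  classical
  by_cases hu : IsUnit x ∧ IsUnit y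
  · rw [tameSymbol_units hu.1 hu.2]; exact one_ne_zero
  obtain ⟨c, hc, hcxy⟩ : ∃ c ∈ maximalIdeal R, c = x ∨ c = y := by
    simp only [not_and_or] at hu
    rcases hu with h | h
    exacts [⟨x, h, Or.inl rfl⟩, ⟨y, h, Or.inr rfl⟩]
  have hcn : c ∈ nonZeroDivisors R := by rcases hcxy with rfl | rfl <;> assumption
  have hQ : IsAmb (Localization.Away c) c := isAmb_away hcn hc
  obtain ⟨T, hT, h⟩ := exists_common hQ {x, y} (by simp [hx, hy])
  have : Module.Finite R T := Module.Finite.iff_fg.2 hT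
  have := finite_maximalSpectrum (R := R) (S := T)
  have := Fintype.ofFinite (MaximalSpectrum T)
  choose γ hγ hf using fun M : MaximalSpectrum T => h M.asIdeal
  rw [tameSymbol_eq_val hQ hx hy T.val Subtype.val_injective
    (datBase γ hγ (fun M => hf M x (by simp)) (fun M => hf M y (by simp)))]
  exact Dat.val_ne_zero _

theorem tameSymbol_mul {x x' y : R} (hx : x ∈ nonZeroDivisors R) (hx' : x' ∈ nonZeroDivisors R)
    (hy : y ∈ nonZeroDivisors R) :
    CycAlg.tameSymbol R (x * x') y = CycAlg.tameSymbol R x y * CycAlg.tameSymbol R x' y ∧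
      CycAlg.tameSymbol R y (x * x') = CycAlg.tameSymbol R y x * CycAlg.tameSymbol R y x' := by
  classical
  by_cases hu : IsUnit x ∧ IsUnit x' ∧ IsUnit y
  · simp [tameSymbol_units, hu.1, hu.2.1, hu.2.2, hu.1.mul hu.2.1]
  obtain ⟨c, hc, hcn⟩ : ∃ c ∈ maximalIdeal R, c ∈ nonZeroDivisors R := by
    simp only [not_and_or] at hu
    rcases hu with h | h | h
    exacts [⟨x, h, hx⟩, ⟨x', h, hx'⟩, ⟨y, h, hy⟩]
  have hQ : IsAmb (Localization.Away c) c := isAmb_away hcn hc
  obtain ⟨T, hT, h⟩ := exists_common hQ {x, x', y} (by simp [hx, hx', hy])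
  have : Module.Finite R T := Module.Finite.iff_fg.2 hT
  have := finite_maximalSpectrum (R := R) (S := T)
  have := Fintype.ofFinite (MaximalSpectrum T)
  choose γ hγ hf using fun M : MaximalSpectrum T => h M.asIdeal
  let A := fun M => (hf M x (by simp)).some
  let A' := fun M => (hf M x' (by simp)).some
  let B := fun M => (hf M y (by simp)).some
  let P := fun M => ((A M).mul (A' M)).cast (map_mul (algebraMap R (Localization.AtPrime M.asIdeal)) x x').symm
  have e1 := tameSymbol_eq_val hQ hx hy T.val Subtype.val_injective ⟨γ, hγ, A, B⟩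
  have e2 := tameSymbol_eq_val hQ hx' hy T.val Subtype.val_injective ⟨γ, hγ, A', B⟩
  have e3 := tameSymbol_eq_val hQ (mul_mem hx hx') hy T.val Subtype.val_injective ⟨γ, hγ, P, B⟩
  have e1' := tameSymbol_eq_val hQ hy hx T.val Subtype.val_injective ⟨γ, hγ, B, A⟩
  have e2' := tameSymbol_eq_val hQ hy hx' T.val Subtype.val_injective ⟨γ, hγ, B, A'⟩
  have e3' := tameSymbol_eq_val hQ hy (mul_mem hx hx') T.val Subtype.val_injective ⟨γ, hγ, B, P⟩
  rw [e1, e2, e3, e1', e2', e3', Dat.val, Dat.val, Dat.val, Dat.val, Dat.val, Dat.val, ← Finset.prod_mul_distrib,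
    ← Finset.prod_mul_distrib]
  refine ⟨Finset.prod_congr rfl fun M _ => ?_, Finset.prod_congr rfl fun M _ => ?_⟩
  · rw [← map_mul]
    exact congrArg _ (Fact.val_mul_left (A M) (A' M) (B M))
  · rw [← map_mul]
    refine congrArg _ ?_
    change (B M).val (P M) = (B M).val (A M) * (B M).val (A' M)
    rw [Fact.val_swap_inv (B M) (P M), Fact.val_swap_inv (B M) (A M), Fact.val_swap_inv (B M) (A' M),
      ← mul_inv]
    exact congrArg (·⁻¹) (Fact.val_mul_left (A M) (A' M) (B M))

theorem sum_deg_eq_ord (hQ : IsAmb Q a) {T : Subalgebra R Q} (hT : T.toSubmodule.FG) {b : R}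
    (hb : b ∈ nonZeroDivisors R) [Module.Finite R T] [Fintype (MaximalSpectrum T)]
    (γ : ∀ M : MaximalSpectrum T, Localization.AtPrime M.asIdeal)
    (hγ : ∀ M, γ M ∈ nonZeroDivisors (Localization.AtPrime M.asIdeal))
    (F : ∀ M, Fact (γ M) (algebraMap R (Localization.AtPrime M.asIdeal) b)) :
    (Module.length R (R ⧸ Ideal.span {b})).toNat =
      ∑ M : MaximalSpectrum T, deg R M.asIdeal * ((F M).e * (Ring.ord _ (γ M)).toNat) := by
  have hb' : IsUnit (T.val (algebraMap R T b)) := by rw [AlgHom.commutes]; exact hQ.isUnit_of_nzd hb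
  have h1 := length_quot_eq_ell hQ T.val Subtype.val_injective hb' T hT (le_of_eq T.range_val)
  rw [AlgHom.commutes, hQ.ell_algebraMap hT hb] at h1
  have h2 := length_quot_sum hQ T.val Subtype.val_injective hb'
  rw [h1] at h2
  rw [show Module.length R (R ⧸ Ideal.span {b}) = Ring.ord R b from rfl, h2]
  refine Finset.sum_congr rfl fun M _ => ?_
  rw [← IsScalarTower.algebraMap_apply]
  conv_lhs => rw [(F M).fac]
  rw [Ring.ord_mul_of_isUnit_left (Units.isUnit _),
    Ring.ord_pow (hγ M), nsmul_eq_mul, ENat.toNat_mul, ENat.toNat_coe]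

theorem length_quot_unit {b : R} (hb : IsUnit b) : (Module.length R (R ⧸ Ideal.span {b})).toNat = 0 := by
  rw [show Module.length R (R ⧸ Ideal.span {b}) = Ring.ord R b from rfl, Ring.ord_of_isUnit hb, ENat.toNat_zero]

theorem tameSymbol_self {b : R} (hb : b ∈ nonZeroDivisors R) :
    CycAlg.tameSymbol R b b = (-1) ^ (Module.length R (R ⧸ Ideal.span {b})).toNat := by
  classical
  by_cases hu : IsUnit b
  · rw [tameSymbol_units hu hu, length_quot_unit hu, pow_zero]
  have hQ : IsAmb (Localization.Away b) b := isAmb_away hb hu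
  obtain ⟨T, hT, h⟩ := exists_common hQ {b} (by simp [hb])
  have : Module.Finite R T := Module.Finite.iff_fg.2 hT
  have := finite_maximalSpectrum (R := R) (S := T)
  have := Fintype.ofFinite (MaximalSpectrum T)
  choose γ hγ hf using fun M : MaximalSpectrum T => h M.asIdeal
  let B := fun M => (hf M b (by simp)).some
  rw [tameSymbol_eq_val hQ hb hb T.val Subtype.val_injective ⟨γ, hγ, B, B⟩, sum_deg_eq_ord hQ hT hb γ hγ B,
    ← Finset.prod_pow_eq_pow_sum]
  refine Finset.prod_congr rfl fun M _ => ?_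
  rw [Fact.val_self, pow_mul (-1 : ResidueField R) (deg R M.asIdeal), map_pow]
  congr 1
  rw [← nrm_algebraMap M.asIdeal (-1 : ResidueField R), map_neg (algebraMap (ResidueField R) _), map_one]

theorem tameSymbol_unit_left (c : Rˣ) {b : R} (hb : b ∈ nonZeroDivisors R) :
    CycAlg.tameSymbol R (c : R) b = residue R (c : R) ^ (Module.length R (R ⧸ Ideal.span {b})).toNat := by
  classical
  by_cases hu : IsUnit b
  · rw [tameSymbol_units c.isUnit hu, length_quot_unit hu, pow_zero]
  have hQ : IsAmb (Localization.Away b) b := isAmb_away hb hu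
  obtain ⟨T, hT, h⟩ := exists_common hQ {(c : R), b} (by simp [hb, c.isUnit.mem_nonZeroDivisors])
  have : Module.Finite R T := Module.Finite.iff_fg.2 hT
  have := finite_maximalSpectrum (R := R) (S := T)
  have := Fintype.ofFinite (MaximalSpectrum T)
  choose γ hγ hf using fun M : MaximalSpectrum T => h M.asIdeal
  let C := fun M => (hf M c (by simp)).some
  let B := fun M => (hf M b (by simp)).some
  rw [tameSymbol_eq_val hQ c.isUnit.mem_nonZeroDivisors hb T.val Subtype.val_injective ⟨γ, hγ, C, B⟩,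
    sum_deg_eq_ord hQ hT hb γ hγ B, ← Finset.prod_pow_eq_pow_sum]
  refine Finset.prod_congr rfl fun M _ => ?_
  rw [Fact.val_unit_left' (C M) (B M) (c.isUnit.map _), pow_mul (residue R (c : R)) (deg R M.asIdeal),
    map_pow, ← nrm_algebraMap M.asIdeal, IsLocalRing.ResidueField.algebraMap_residue]

theorem tameSymbol_steinberg {x y : R} (hx : x ∈ nonZeroDivisors R) (hy : y ∈ nonZeroDivisors R)
    (hxy : y - x ∈ nonZeroDivisors R) :
    CycAlg.tameSymbol R x (y - x) * CycAlg.tameSymbol R y y =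
      CycAlg.tameSymbol R y (y - x) * CycAlg.tameSymbol R x y := by
  classical
  by_cases hu : IsUnit x ∧ IsUnit y ∧ IsUnit (y - x)
  · simp [tameSymbol_units, hu.1, hu.2.1, hu.2.2]
  obtain ⟨c, hc, hcn⟩ : ∃ c ∈ maximalIdeal R, c ∈ nonZeroDivisors R := by
    simp only [not_and_or] at hu
    rcases hu with h | h | h
    exacts [⟨x, h, hx⟩, ⟨y, h, hy⟩, ⟨y - x, h, hxy⟩]
  have hQ : IsAmb (Localization.Away c) c := isAmb_away hcn hc
  obtain ⟨T, hT, h⟩ := exists_common hQ {x, y, y - x} (by simp [hx, hy, hxy])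
  have : Module.Finite R T := Module.Finite.iff_fg.2 hT
  have := finite_maximalSpectrum (R := R) (S := T)
  have := Fintype.ofFinite (MaximalSpectrum T)
  choose γ hγ hf using fun M : MaximalSpectrum T => h M.asIdeal
  let A := fun M => (hf M x (by simp)).some
  let B := fun M => (hf M y (by simp)).some
  let C := fun M => (hf M (y - x) (by simp)).some
  rw [tameSymbol_eq_val hQ hx hxy T.val Subtype.val_injective ⟨γ, hγ, A, C⟩,
    tameSymbol_eq_val hQ hy hy T.val Subtype.val_injective ⟨γ, hγ, B, B⟩,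
    tameSymbol_eq_val hQ hy hxy T.val Subtype.val_injective ⟨γ, hγ, B, C⟩,
    tameSymbol_eq_val hQ hx hy T.val Subtype.val_injective ⟨γ, hγ, A, B⟩,
    Dat.val, Dat.val, Dat.val, Dat.val, ← Finset.prod_mul_distrib, ← Finset.prod_mul_distrib]
  refine Finset.prod_congr rfl fun M _ => ?_
  rw [← map_mul, ← map_mul]
  exact congrArg _ (Fact.steinberg' _ (hγ M) (A M) (B M) (C M))

end Groth.MilnorKLambda.Amb
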