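import Groth.Agent.MilnorKLambda.Tame1.Laws

/-!
# Tame symbols when one parameter suffices
-/

set_option autoImplicit false
universe u

open IsLocalRing Finset

namespace Groth.MilnorKLambda.Amb

variable {L : Type u} [CommRing L] [IsNoetherianRing L] [IsLocalRing L] [Ring.KrullDimLE 1 L]

attribute [local instance] isLocalHom_atPrime

/-- If both elements are units times powers of one element, the symbol is the displayed expression. -/
theorem tameSymbol_eq_fact {π x y : L} (hπ : π ∈ nonZeroDivisors L) (F : Fact π x) (G : Fact π y) :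
    CycAlg.tameSymbol L x y = F.val G := by
  classical
  by_cases hu : IsUnit x ∧ IsUnit y
  · rw [tameSymbol_units hu.1 hu.2]
    by_cases hπu : IsUnit π
    · rw [Fact.val_of_isUnit hπu]
    · rw [Fact.val_unit_left' F G hu.1, fact_eq_zero hπu hu.2 G, zero_mul, pow_zero]
  have hxn : x ∈ nonZeroDivisors L := by
    have := mul_mem (Units.isUnit F.u).mem_nonZeroDivisors (pow_mem hπ F.e); rwa [← F.fac] at this
  have hyn : y ∈ nonZeroDivisors L := by
    have := mul_mem (Units.isUnit G.u).mem_nonZeroDivisors (pow_mem hπ G.e); rwa [← G.fac] at this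
  obtain ⟨c, hc, hcn⟩ : ∃ c ∈ maximalIdeal L, c ∈ nonZeroDivisors L := by
    simp only [not_and_or] at hu
    rcases hu with h | h
    exacts [⟨x, h, hxn⟩, ⟨y, h, hyn⟩]
  have hQ : IsAmb (Localization.Away c) c := isAmb_away hcn hc
  have : Module.Finite L L := inferInstance
  have := finite_maximalSpectrum (R := L) (S := L)
  have := Fintype.ofFinite (MaximalSpectrum L)
  let ι : L →ₐ[L] Localization.Away c := Algebra.ofId L _
  let f := fun M : MaximalSpectrum L => algebraMap L (Localization.AtPrime M.asIdeal)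
  let D : Dat L x y :=
    { π := fun M => f M π
      nzd := fun M => IsLocalization.map_nonZeroDivisors_le M.asIdeal.primeCompl _ ⟨π, hπ, rfl⟩
      F := fun M => F.map (f M)
      G := fun M => G.map (f M) }
  rw [tameSymbol_eq_val hQ hxn hyn ι hQ.inj D]
  let M₀ : MaximalSpectrum L := ⟨maximalIdeal L, maximalIdeal.isMaximal L⟩
  have huniq : ∀ M : MaximalSpectrum L, M = M₀ := fun M => MaximalSpectrum.ext (eq_maximalIdeal M.isMaximal)
  have hlen := length_quot_sum hQ ι hQ.inj (g := π) (hQ.isUnit_of_nzd hπ)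
  rw [Finset.sum_eq_single M₀ (fun M _ h => absurd (huniq M) h) fun h => absurd (mem_univ _) h] at hlen
  have hdeg : deg L M₀.asIdeal = 1 := by
    have h := length_quot_maximal (R := L) M₀.asIdeal
    have : IsSimpleModule L (L ⧸ M₀.asIdeal) := isSimpleModule_iff_quot_maximal.2 ⟨_, M₀.isMaximal, ⟨LinearEquiv.refl _ _⟩⟩
    rw [Module.length_eq_one] at h
    exact_mod_cast h.symm
  rw [hdeg, one_mul] at hlen
  rw [Dat.val, Finset.prod_eq_single M₀ (fun M _ h => absurd (huniq M) h) fun h => absurd (mem_univ _) h]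
  change nrm L M₀.asIdeal (((F.map (f M₀)).expr (G.map (f M₀))) ^ (Ring.ord _ (f M₀ π)).toNat) = _
  have : IsLocalHom (f M₀) := isLocalHom_atPrime (R := L) M₀.asIdeal
  rw [Fact.expr_map (f M₀), ← hlen, map_pow, Fact.val]
  congr 1
  exact (nrm_algebraMap M₀.asIdeal (F.expr G)).trans (by rw [hdeg, pow_one])

theorem tameSymbol_swap {x y : L} (hx : x ∈ nonZeroDivisors L) (hy : y ∈ nonZeroDivisors L) :
    CycAlg.tameSymbol L x y * CycAlg.tameSymbol L y x = 1 := by
  classical
  by_cases hu : IsUnit x ∧ IsUnit y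
  · rw [tameSymbol_units hu.1 hu.2, tameSymbol_units hu.2 hu.1, one_mul]
  obtain ⟨c, hc, hcn⟩ : ∃ c ∈ maximalIdeal L, c ∈ nonZeroDivisors L := by
    simp only [not_and_or] at hu
    rcases hu with h | h
    exacts [⟨x, h, hx⟩, ⟨y, h, hy⟩]
  have hQ : IsAmb (Localization.Away c) c := isAmb_away hcn hc
  obtain ⟨T, hT, h⟩ := exists_common hQ {x, y} (by simp [hx, hy])
  have : Module.Finite L T := Module.Finite.iff_fg.2 hT
  have := finite_maximalSpectrum (R := L) (S := T)
  have := Fintype.ofFinite (MaximalSpectrum T)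
  choose γ hγ hf using fun M : MaximalSpectrum T => h M.asIdeal
  let A := fun M => (hf M x (by simp)).some
  let B := fun M => (hf M y (by simp)).some
  rw [tameSymbol_eq_val hQ hx hy T.val Subtype.val_injective ⟨γ, hγ, A, B⟩,
    tameSymbol_eq_val hQ hy hx T.val Subtype.val_injective ⟨γ, hγ, B, A⟩, Dat.val, Dat.val, ← Finset.prod_mul_distrib]
  refine Finset.prod_eq_one fun M _ => ?_
  rw [← map_mul, show (A M).val (B M) = ((B M).val (A M))⁻¹ from Fact.val_swap_inv _ _,
    inv_mul_cancel₀ (Fact.val_ne_zero _ _), map_one]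

end Groth.MilnorKLambda.Amb
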