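import Groth.Agent.MilnorKLambda.Tame1.Tensor
import Groth.Prelude.Def_CycAlg
import Mathlib.RingTheory.Localization.Away.Basic
import Mathlib.RingTheory.Localization.Integral
import Mathlib.RingTheory.IntegralClosure.IsIntegralClosure.Basic
import Mathlib.RingTheory.KrullDimension.Basic
import Mathlib.RingTheory.Ideal.Height
import Mathlib.RingTheory.Noetherian.Basic
import Mathlib.RingTheory.Localization.Submodule

/-!
# Gluing finite extensions given at finitely many primes of height one
-/

set_option autoImplicit false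
universe u

open IsLocalRing

namespace Groth.MilnorKLambda.Amb

variable {A : Type u} [CommRing A] [IsNoetherianRing A] [IsLocalRing A]

omit [IsNoetherianRing A] in
/-- In dimension two the non-maximal primes containing a nonzerodivisor are incomparable. -/
theorem not_le_of_dim_two (hA : ringKrullDim A = 2) {t : A} (ht : t ∈ nonZeroDivisors A)
    {p q : Ideal A} [p.IsPrime] [q.IsPrime] (htp : t ∈ p) (hq : q ≠ maximalIdeal A) (hpq : p ≠ q) : ¬ p ≤ q := by
  intro hle
  obtain ⟨P, hP, hPp⟩ := Ideal.exists_minimalPrimes_le (bot_le : ⊥ ≤ p)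
  have hP' : P.IsPrime := hP.1.1
  have h1 : P < p := hPp.lt_of_ne fun h => notMem_nonZeroDivisors_of_mem_mem_minimalPrimes (h ▸ htp) hP ht
  have h2 : p < q := hle.lt_of_ne hpq
  have h3 : q < maximalIdeal A := (le_maximalIdeal Ideal.IsPrime.ne_top').lt_of_ne hq
  let s : LTSeries (PrimeSpectrum A) :=
    (((RelSeries.singleton _ (⟨P, hP'⟩ : PrimeSpectrum A)).snoc ⟨p, inferInstance⟩ h1).snoc ⟨q, inferInstance⟩
      (by rw [RelSeries.last_snoc]; exact h2)).snoc ⟨maximalIdeal A, inferInstance⟩ (by rw [RelSeries.last_snoc]; exact h3)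
  have : ((s.length : ℕ) : WithBot ℕ∞) ≤ ringKrullDim A := Order.LTSeries.length_le_krullDim s
  rw [hA] at this
  simp [s] at this
  norm_cast at this

variable {t : A} (L : Type u) [CommRing L] [Algebra A L]

/-- Embedding of a finite extension killed by a power of `t` into `L[1/t]`. -/
theorem exists_embed_away (B : Type u) [CommRing B] [Algebra L B]
    (hB : CycAlg.IsFinExt L B (Ideal.span {algebraMap A L t})) (htB : IsSMulRegular B (algebraMap A L t)) :
    ∃ ι : B →ₐ[L] Localization.Away (algebraMap A L t), Function.Injective ι := by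
  set τ := algebraMap A L t
  let B' := Localization.Away (algebraMap L B τ)
  have hu : IsUnit (algebraMap L B' τ) := by
    rw [IsScalarTower.algebraMap_apply L B B']; exact IsLocalization.Away.algebraMap_isUnit _
  let φ : Localization.Away τ →ₐ[L] B' :=
    { IsLocalization.Away.lift τ (S := Localization.Away τ) hu with
      commutes' := fun r => IsLocalization.Away.lift_eq τ hu r }
  obtain ⟨hinj, -, n, hn⟩ := hB
  have hreg : ∀ (k : ℕ) (b : B), algebraMap L B τ ^ k * b = 0 → b = 0 := fun k b h => htB.pow k (by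
    simpa [Algebra.smul_def] using h)
  have hB' : Function.Injective (algebraMap B B') := IsLocalization.injective B' (Submonoid.powers_le.2
    (mem_nonZeroDivisors_iff_right.2 fun b hb => hreg 1 b (by rw [pow_one, mul_comm]; exact hb)))
  have hbij : Function.Bijective φ := by
    refine ⟨(injective_iff_map_eq_zero φ).2 fun z hz => ?_, fun z => ?_⟩
    · obtain ⟨r, ⟨_, k, rfl⟩, rfl⟩ := IsLocalization.exists_mk'_eq (Submonoid.powers τ) z
      have h := congrArg φ (IsLocalization.mk'_spec (Localization.Away τ) r (⟨τ ^ k, k, rfl⟩ : Submonoid.powers τ))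
      rw [map_mul, hz, zero_mul, AlgHom.commutes, eq_comm, IsScalarTower.algebraMap_apply L B B'] at h
      have hr : r = 0 := hinj ((hB' (h.trans (map_zero _).symm)).trans (map_zero _).symm)
      rw [hr, IsLocalization.mk'_zero]
    · obtain ⟨b, ⟨_, k, rfl⟩, rfl⟩ := IsLocalization.exists_mk'_eq (Submonoid.powers (algebraMap L B τ)) z
      obtain ⟨r, hr⟩ := hn (τ ^ n) (Ideal.pow_mem_pow (Ideal.mem_span_singleton_self τ) n) b
      refine ⟨IsLocalization.mk' _ r (⟨τ ^ (n + k), n + k, rfl⟩ : Submonoid.powers τ), ?_⟩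
      refine (hu.pow (n + k)).mul_left_cancel ?_
      have e1 : φ (IsLocalization.mk' _ r (⟨τ ^ (n + k), n + k, rfl⟩ : Submonoid.powers τ)) *
          algebraMap L B' (τ ^ (n + k)) = algebraMap L B' r := by
        rw [← AlgHom.commutes φ, ← map_mul]
        exact (congrArg φ (IsLocalization.mk'_spec _ r _)).trans (AlgHom.commutes φ r)
      have e2 : IsLocalization.mk' B' b (⟨algebraMap L B τ ^ k, k, rfl⟩ : Submonoid.powers (algebraMap L B τ)) *
          algebraMap B B' (algebraMap L B τ ^ k) = algebraMap B B' b := IsLocalization.mk'_spec B' b _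
      rw [← map_pow, mul_comm, e1, IsScalarTower.algebraMap_apply L B B' r, hr, Algebra.smul_def, map_mul, ← e2,
        IsScalarTower.algebraMap_apply L B B' (τ ^ (n + k))]
      simp only [map_pow]
      ring
  exact ⟨(AlgEquiv.ofBijective φ hbij).symm.toAlgHom.comp (IsScalarTower.toAlgHom L B B'),
    (AlgEquiv.ofBijective φ hbij).symm.injective.comp hB'⟩

/-- Gluing finite extensions given at the non-maximal primes over a nonzerodivisor. -/
theorem exists_glue_maps (hA : ringKrullDim A = 2) (ht : t ∈ maximalIdeal A) (htnz : t ∈ nonZeroDivisors A) (r : ℕ)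
    (q : Fin r → Ideal A) [∀ i, (q i).IsPrime] (hinj : Function.Injective q) (hqm : ∀ i, q i ≠ maximalIdeal A)
    (htq : ∀ i, t ∈ q i) (B : Fin r → Type u) [∀ i, CommRing (B i)] [∀ i, Algebra (Localization.AtPrime (q i)) (B i)]
    (hB : ∀ i, CycAlg.IsFinExt (Localization.AtPrime (q i)) (B i)
      (Ideal.span {algebraMap A (Localization.AtPrime (q i)) t}))
    (htB : ∀ i, IsSMulRegular (B i) (algebraMap A (Localization.AtPrime (q i)) t)) :
    ∃ (C : Type u) (_ : CommRing C) (_ : Algebra A C), CycAlg.IsFinExt A C (Ideal.span {t}) ∧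
      IsSMulRegular C t ∧
      ∀ i, ∃ ψ : C →+* B i,
        (∀ x : A, ψ (algebraMap A C x) = algebraMap (Localization.AtPrime (q i)) (B i) (algebraMap A _ x)) ∧
        (∀ y : B i, ∃ s ∈ (q i).primeCompl, ∃ c : C, ψ c = algebraMap (Localization.AtPrime (q i)) (B i) (algebraMap A _ s) * y) ∧
        ∀ c : C, ψ c = 0 → ∃ s ∈ (q i).primeCompl, algebraMap A C s * c = 0 := by
  classical
  let L := fun i => Localization.AtPrime (q i)
  let Q := Localization.Away t
  let P := fun i => Localization.Away (algebraMap A (L i) t)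
  choose ι hι using fun i => exists_embed_away (A := A) (t := t) (L i) (B i) (hB i) (htB i)
  have hgu : ∀ i, IsUnit (algebraMap A (P i) t) := fun i => by
    rw [IsScalarTower.algebraMap_apply A (L i) (P i)]; exact IsLocalization.Away.algebraMap_isUnit _
  let g : ∀ i, Q →ₐ[A] P i := fun i =>
    { IsLocalization.Away.lift t (S := Q) (hgu i) with
      commutes' := fun a => IsLocalization.Away.lift_eq t (hgu i) a }
  have htreg : ∀ i, (algebraMap A (L i) t) ∈ nonZeroDivisors (L i) := fun i =>
    IsLocalization.map_nonZeroDivisors_le (q i).primeCompl (L i) ⟨t, htnz, rfl⟩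
  have hPinj : ∀ i, Function.Injective (algebraMap (L i) (P i)) := fun i =>
    IsLocalization.injective (P i) (Submonoid.powers_le.2 (htreg i))
  have hQinj : Function.Injective (algebraMap A Q) := IsLocalization.injective Q (Submonoid.powers_le.2 htnz)
  have hker : ∀ i (x : Q), g i x = 0 → ∃ s ∈ (q i).primeCompl, algebraMap A Q s * x = 0 := by
    intro i x hx
    obtain ⟨α, ⟨_, k, rfl⟩, rfl⟩ := IsLocalization.exists_mk'_eq (Submonoid.powers t) x
    have h := congrArg (g i) (IsLocalization.mk'_spec Q α (⟨t ^ k, k, rfl⟩ : Submonoid.powers t))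
    rw [map_mul, hx, zero_mul, AlgHom.commutes, eq_comm, IsScalarTower.algebraMap_apply A (L i) (P i)] at h
    obtain ⟨⟨s, hs⟩, hsα⟩ := (IsLocalization.map_eq_zero_iff (q i).primeCompl (L i) _).1
      ((hPinj i) (h.trans (map_zero _).symm))
    refine ⟨s, hs, ?_⟩
    rw [IsLocalization.mul_mk'_eq_mk'_of_mul, show s * α = 0 from hsα, IsLocalization.mk'_zero]
  have hlam2 : ∀ i (x : Q), ∃ s ∈ (q i).primeCompl, ∀ j, j ≠ i → g j (algebraMap A Q s * x) ∈ (ι j).range := by
    intro i x
    obtain ⟨α, ⟨_, k, rfl⟩, rfl⟩ := IsLocalization.exists_mk'_eq (Submonoid.powers t) x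
    have hN : ∀ j, ∃ N, ∀ a ∈ q j ^ N, ∃ d, algebraMap A (L j) a = algebraMap A (L j) t ^ k * d := fun j => by
      have hrad : maximalIdeal (L j) ≤ (Ideal.span {algebraMap A (L j) t ^ k}).radical := by
        rw [Ideal.radical_eq_sInf]
        refine le_sInf fun p hp => ?_
        have hpprime : p.IsPrime := hp.2
        have htp : algebraMap A (L j) t ∈ p := hpprime.mem_of_pow_mem k (hp.1 (Ideal.mem_span_singleton_self _))
        have hle : p.comap (algebraMap A (L j)) ≤ q j := fun z hz => by
          by_contra hzq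
          exact hpprime.ne_top (Ideal.eq_top_of_isUnit_mem _ hz ((IsLocalization.AtPrime.isUnit_to_map_iff (L j) (q j) z).2 hzq))
        have heq : p.comap (algebraMap A (L j)) = q j := by
          by_contra hne
          exact not_le_of_dim_two hA htnz (Ideal.mem_comap.2 htp) (hqm j) hne hle
        rw [← IsLocalization.map_comap (q j).primeCompl (L j) p, show p.under A = q j from heq,
          Localization.AtPrime.map_eq_maximalIdeal]
      have : IsNoetherianRing (L j) := IsLocalization.isNoetherianRing (q j).primeCompl _ inferInstance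
      obtain ⟨N, hN⟩ := Ideal.exists_pow_le_of_le_radical_of_fg hrad (IsNoetherian.noetherian _)
      refine ⟨N, fun a ha => ?_⟩
      have : algebraMap A (L j) a ∈ maximalIdeal (L j) ^ N := by
        rw [← Localization.AtPrime.map_eq_maximalIdeal, ← Ideal.map_pow]
        exact Ideal.mem_map_of_mem _ ha
      obtain ⟨d, hd⟩ := Ideal.mem_span_singleton.1 (hN this)
      exact ⟨d, hd⟩
    choose N hN using hN
    have hne : ∀ j, j ≠ i → ∃ a ∈ q j ^ N j, a ∉ q i := fun j hj => by
      obtain ⟨z, hz, hzi⟩ := Set.not_subset.1 (not_le_of_dim_two hA htnz (htq j) (hqm i) fun h => hj (hinj h))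
      exact ⟨z ^ N j, Ideal.pow_mem_pow hz _, fun h => hzi (Ideal.IsPrime.mem_of_pow_mem inferInstance _ h)⟩
    choose a ha hai using hne
    refine ⟨∏ j : {j // j ≠ i}, a j.1 j.2, prod_mem fun j _ => hai j.1 j.2, fun j hj => ?_⟩
    obtain ⟨d, hd⟩ := hN j _ (Ideal.mem_of_dvd _ (Finset.dvd_prod_of_mem (fun j : {j // j ≠ i} => a j.1 j.2)
      (Finset.mem_univ ⟨j, hj⟩)) (ha j hj))
    refine ⟨algebraMap (L j) (B j) (d * algebraMap A (L j) α), ?_⟩
    change ι j (algebraMap (L j) (B j) _) = _
    rw [AlgHom.commutes]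
    refine ((hgu j).pow k).mul_left_cancel ?_
    rw [← map_pow, ← AlgHom.commutes (g j), ← map_mul, AlgHom.commutes,
      show algebraMap A Q (t ^ k) * (algebraMap A Q (∏ j : {j // j ≠ i}, a j.1 j.2) *
        IsLocalization.mk' Q α (⟨t ^ k, k, rfl⟩ : Submonoid.powers t)) =
        algebraMap A Q ((∏ j : {j // j ≠ i}, a j.1 j.2) * α) from by
        rw [map_mul, mul_left_comm, mul_comm (algebraMap A Q (t ^ k)), IsLocalization.mk'_spec],
      AlgHom.commutes, IsScalarTower.algebraMap_apply A (L j) (P j), IsScalarTower.algebraMap_apply A (L j) (P j),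
      ← map_mul, map_mul (algebraMap A (L j)), hd, map_pow, mul_assoc]
  choose G hG using fun i => (hB i).2.1.fg_top
  have hlift : ∀ i (b : B i), ∃ (c : Q) (s : A), s ∈ (q i).primeCompl ∧ IsIntegral A c ∧
      g i c = algebraMap A (P i) s * ι i b ∧ ∀ j, g j c ∈ (ι j).range := by
    intro i b
    have hLB : Module.Finite (L i) (B i) := (hB i).2.1
    obtain ⟨⟨s₀, hs₀⟩, hint⟩ := IsIntegral.exists_multiple_integral_of_isLocalization (q i).primeCompl
      (Rₘ := L i) (R := A) (ι i b) ((IsIntegral.of_finite (L i) b).map (ι i))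
    obtain ⟨z, ⟨_, k, rfl⟩, hz⟩ := IsLocalization.exists_mk'_eq (Submonoid.powers (algebraMap A (L i) t)) (ι i b)
    obtain ⟨α, ⟨s₁, hs₁⟩, rfl⟩ := IsLocalization.exists_mk'_eq (q i).primeCompl z
    set x : Q := IsLocalization.mk' Q α (⟨t ^ k, k, rfl⟩ : Submonoid.powers t)
    have hx : g i x = algebraMap A (P i) s₁ * ι i b := by
      refine ((hgu i).pow k).mul_left_cancel ?_
      rw [← map_pow, ← AlgHom.commutes (g i), ← map_mul, mul_comm, IsLocalization.mk'_spec, AlgHom.commutes,
        AlgHom.commutes, mul_left_comm, ← hz, IsScalarTower.algebraMap_apply A (L i) (P i) (t ^ k),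
        map_pow (algebraMap A (L i)), mul_comm (algebraMap (L i) (P i) _) (IsLocalization.mk' _ _ _),
        IsLocalization.mk'_spec, IsScalarTower.algebraMap_apply A (L i) (P i) s₁, ← map_mul,
        show algebraMap A (L i) s₁ * IsLocalization.mk' (L i) α ⟨s₁, hs₁⟩ = algebraMap A (L i) α from
          IsLocalization.mk'_spec' (L i) α ⟨s₁, hs₁⟩, ← IsScalarTower.algebraMap_apply]
    rw [Submonoid.smul_def, Algebra.smul_def] at hint
    set x' : Q := algebraMap A Q s₀ * x
    have hint' : IsIntegral A (g i x') := by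
      rw [map_mul, AlgHom.commutes, hx, mul_left_comm]
      exact (isIntegral_algebraMap).mul hint
    obtain ⟨p, hp, hpx⟩ := hint'
    rw [← Polynomial.aeval_def, Polynomial.aeval_algHom_apply] at hpx
    obtain ⟨μ, hμ, hμx⟩ := hker i _ hpx
    have hx'' : IsIntegral A (algebraMap A Q μ * x') := by
      refine ⟨p.scaleRoots μ, (Polynomial.monic_scaleRoots_iff μ).2 hp, ?_⟩
      rcases Nat.eq_zero_or_pos p.natDegree with hdeg | hdeg
      · rw [hp.natDegree_eq_zero.1 hdeg, map_one, mul_one] at hμx
        have h0 : μ = 0 := hQinj (hμx.trans (map_zero _).symm)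
        exact absurd (h0 ▸ (q i).zero_mem) hμ
      obtain ⟨e, he⟩ : ∃ e, p.natDegree = e + 1 := ⟨p.natDegree - 1, by omega⟩
      rw [Polynomial.scaleRoots_eval₂_mul, he, pow_succ, mul_assoc, ← Polynomial.aeval_def, hμx, mul_zero]
    obtain ⟨s₂, hs₂, hj⟩ := hlam2 i (algebraMap A Q μ * x')
    refine ⟨algebraMap A Q s₂ * (algebraMap A Q μ * x'), s₂ * (μ * (s₀ * s₁)),
      mul_mem hs₂ (mul_mem hμ (mul_mem hs₀ hs₁)), isIntegral_algebraMap.mul hx'', ?_, fun j => ?_⟩
    · simp only [x', map_mul, AlgHom.commutes, hx]; ring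
    · by_cases hji : j = i
      · subst hji
        refine ⟨algebraMap A (L j) (s₂ * (μ * (s₀ * s₁))) • b, ?_⟩
        change ι j (_ • b) = _
        rw [map_smul, Algebra.smul_def, ← IsScalarTower.algebraMap_apply]
        simp only [x', map_mul, AlgHom.commutes, hx]; ring
      · exact hj j hji
  choose c sc hsc hcint hcb hcr using hlift
  let gens : Set Q := ⋃ i, (fun b => c i b) '' (G i : Set (B i))
  set C := Algebra.adjoin A gens
  have hgens : gens.Finite := Set.finite_iUnion fun i => (G i).finite_toSet.image _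
  have hCfg : C.toSubmodule.FG := fg_adjoin_of_finite hgens fun y hy => by
    obtain ⟨i, b, -, rfl⟩ := Set.mem_iUnion.1 hy
    exact hcint i b
  have hCfin : Module.Finite A C := Module.Finite.iff_fg.2 hCfg
  have hreg : IsSMulRegular C t := fun p p' h => by
    refine Subtype.ext (IsUnit.mul_left_cancel (IsLocalization.Away.algebraMap_isUnit (S := Q) t) ?_)
    simpa [Algebra.smul_def] using congrArg Subtype.val h
  refine ⟨C, inferInstance, inferInstance, ⟨fun p p' h => hQinj (congrArg Subtype.val h), hCfin, ?_⟩, hreg,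
    fun i => ?_⟩
  · obtain ⟨T, hT⟩ := hCfg
    have hclear : ∀ y : Q, ∃ k α, algebraMap A Q t ^ k * y = algebraMap A Q α := fun y => by
      obtain ⟨α, ⟨_, k, rfl⟩, rfl⟩ := IsLocalization.exists_mk'_eq (Submonoid.powers t) y
      exact ⟨k, α, by rw [← map_pow, mul_comm]; exact IsLocalization.mk'_spec _ _ _⟩
    choose k α hk using hclear
    refine ⟨T.sup k, fun a ha y => ?_⟩
    rw [Ideal.span_singleton_pow, Ideal.mem_span_singleton'] at ha
    obtain ⟨d, rfl⟩ := ha
    have hy : (y : Q) ∈ Submodule.span A (T : Set Q) := hT ▸ y.2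
    have : ∃ β, algebraMap A Q t ^ (T.sup k) * (y : Q) = algebraMap A Q β := by
      generalize (y : Q) = w at hy ⊢
      induction hy using Submodule.span_induction with
      | mem z hz => exact ⟨t ^ (T.sup k - k z) * α z, by
          rw [map_mul, map_pow, ← hk z, ← mul_assoc, ← pow_add, Nat.sub_add_cancel (Finset.le_sup hz)]⟩
      | zero => exact ⟨0, by simp⟩
      | add z z' _ _ hz hz' =>
        obtain ⟨β, hβ⟩ := hz; obtain ⟨β', hβ'⟩ := hz'
        exact ⟨β + β', by rw [mul_add, hβ, hβ', map_add]⟩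
      | smul a z _ hz =>
        obtain ⟨β, hβ⟩ := hz
        exact ⟨a * β, by rw [Algebra.smul_def, mul_left_comm, hβ, map_mul]⟩
    obtain ⟨β, hβ⟩ := this
    refine ⟨d * β, Subtype.ext ?_⟩
    rw [Subalgebra.coe_algebraMap, Subalgebra.coe_smul, Algebra.smul_def, map_mul, map_mul, map_pow, ← hβ, mul_assoc]
  · let : Algebra A (B i) := ((algebraMap (L i) (B i)).comp (algebraMap A (L i))).toAlgebra
    have : IsScalarTower A (L i) (B i) := IsScalarTower.of_algebraMap_eq fun _ => rfl
    have hmem : ∀ y ∈ C, g i y ∈ ((ι i).range.restrictScalars A) := fun y hy => by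
      refine (Algebra.adjoin_le ?_ : C ≤ (((ι i).range.restrictScalars A).comap (g i))) hy
      intro z hz
      obtain ⟨j, b, -, rfl⟩ := Set.mem_iUnion.1 hz
      exact hcr j b i
    choose ψ hψ using fun y : C => hmem y.1 y.2
    have hψ' : ∀ y, ι i (ψ y) = g i y.1 := hψ
    let ψ' : C →ₐ[A] B i :=
      { toFun := ψ
        map_one' := hι i (by rw [hψ', map_one]; exact map_one _)
        map_zero' := hι i (by rw [hψ', map_zero]; exact map_zero _)
        map_add' := fun p p' => hι i (by rw [map_add, hψ', hψ', hψ']; exact map_add _ _ _)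
        map_mul' := fun p p' => hι i (by rw [map_mul, hψ', hψ', hψ']; exact map_mul _ _ _)
        commutes' := fun a => hι i (by
          rw [hψ', Subalgebra.coe_algebraMap, AlgHom.commutes, IsScalarTower.algebraMap_apply A (L i) (B i),
            AlgHom.commutes, ← IsScalarTower.algebraMap_apply]) }
    refine ⟨ψ'.toRingHom, ψ'.commutes, fun b => ?_, fun y hy => ?_⟩
    · change ∃ s ∈ (q i).primeCompl, ∃ c : C, ψ' c = algebraMap A (B i) s * b
      have hb : b ∈ Submodule.span (L i) (G i : Set (B i)) := by rw [hG i]; exact Submodule.mem_top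
      induction hb using Submodule.span_induction with
      | mem z hz =>
        refine ⟨sc i z, hsc i z, ⟨c i z, Algebra.subset_adjoin (Set.mem_iUnion.2 ⟨i, z, hz, rfl⟩)⟩, hι i ?_⟩
        change ι i (ψ _) = _
        rw [hψ', map_mul, IsScalarTower.algebraMap_apply A (L i) (B i), AlgHom.commutes,
          ← IsScalarTower.algebraMap_apply, hcb i z]
      | zero => exact ⟨1, one_mem _, 0, by simp⟩
      | add z z' _ _ hz hz' =>
        obtain ⟨s, hs, y, hy⟩ := hz; obtain ⟨s', hs', y', hy'⟩ := hz'
        refine ⟨s * s', mul_mem hs hs', algebraMap A C s' * y + algebraMap A C s * y', ?_⟩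
        rw [map_add, map_mul, map_mul, AlgHom.commutes, AlgHom.commutes, hy, hy', map_mul]
        ring
      | smul l z _ hz =>
        obtain ⟨s, hs, y, hy⟩ := hz
        obtain ⟨a, ⟨s', hs'⟩, rfl⟩ := IsLocalization.exists_mk'_eq (q i).primeCompl l
        refine ⟨s' * s, mul_mem hs' hs, algebraMap A C a * y, ?_⟩
        rw [map_mul, AlgHom.commutes, hy, Algebra.smul_def, map_mul, IsScalarTower.algebraMap_apply A (L i) (B i) a,
          IsScalarTower.algebraMap_apply A (L i) (B i) s', ← IsLocalization.mk'_spec (L i) a ⟨s', hs'⟩, map_mul]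
        ring
    · obtain ⟨s, hs, h⟩ := hker i y.1 (by rw [← hψ']; exact (congrArg (ι i) hy).trans (map_zero _))
      exact ⟨s, hs, Subtype.ext h⟩

/-- Gluing, with the localisations identified as tensor products. -/
theorem exists_glue (hA : ringKrullDim A = 2) (ht : t ∈ maximalIdeal A) (htnz : t ∈ nonZeroDivisors A) (r : ℕ)
    (q : Fin r → Ideal A) [∀ i, (q i).IsPrime] (hinj : Function.Injective q) (hqm : ∀ i, q i ≠ maximalIdeal A)
    (htq : ∀ i, t ∈ q i) (B : Fin r → Type u) [∀ i, CommRing (B i)] [∀ i, Algebra (Localization.AtPrime (q i)) (B i)]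
    (hB : ∀ i, CycAlg.IsFinExt (Localization.AtPrime (q i)) (B i)
      (Ideal.span {algebraMap A (Localization.AtPrime (q i)) t}))
    (htB : ∀ i, IsSMulRegular (B i) (algebraMap A (Localization.AtPrime (q i)) t)) :
    ∃ (C : Type u) (_ : CommRing C) (_ : Algebra A C), CycAlg.IsFinExt A C (Ideal.span {t}) ∧
      IsSMulRegular C t ∧
      ∀ i, Nonempty (TensorProduct A (Localization.AtPrime (q i)) C ≃ₐ[Localization.AtPrime (q i)] B i) := by
  obtain ⟨C, i1, i2, h, hreg, hψ⟩ := exists_glue_maps hA ht htnz r q hinj hqm htq B hB htB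
  refine ⟨C, i1, i2, h, hreg, fun i => ?_⟩
  obtain ⟨ψ, hc, hs, hk⟩ := hψ i
  let : Algebra A (B i) := ((algebraMap (Localization.AtPrime (q i)) (B i)).comp (algebraMap A _)).toAlgebra
  have : IsScalarTower A (Localization.AtPrime (q i)) (B i) := IsScalarTower.of_algebraMap_eq fun _ => rfl
  exact tensor_equiv_of_localized (q i).primeCompl _ { ψ with commutes' := hc } hs hk

end Groth.MilnorKLambda.Amb
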