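import Groth.Agent.MilnorKLambda.Tame1.DetLoc
import Groth.Agent.MilnorKLambda.Tame1.Single
import Groth.Agent.UnramNorm.Quotient

/-!
# Tame symbols and norms over a discrete valuation ring
-/

set_option autoImplicit false
universe u

open IsLocalRing Finset Polynomial

namespace Groth.MilnorKLambda.Amb

attribute [local instance] isLocalHom_atPrime

theorem ord_uniformizer {L : Type u} [CommRing L] [IsLocalRing L] {π : L} (h : maximalIdeal L = Ideal.span {π}) :
    Ring.ord L π = 1 := by
  have : IsSimpleModule L (L ⧸ Ideal.span {π}) := by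
    rw [isSimpleModule_iff_isCoatom, ← Ideal.isMaximal_def, ← h]
    exact maximalIdeal.isMaximal L
  exact Module.length_eq_one L _

/-- Change to a parameter of the same order. -/
noncomputable def Fact.unpush {L : Type u} [CommRing L] {ϖ q z : L} (G : Fact ϖ z) (P : Fact ϖ q) (hP : P.e = 1) :
    Fact q z :=
  ⟨G.u * (P.u ^ G.e)⁻¹, G.e, by
    have key : ∀ v : Lˣ, q = (v : L) * ϖ → z = ((G.u * (v ^ G.e)⁻¹ : Lˣ) : L) * q ^ G.e := by
      rintro v rfl
      rw [mul_pow, ← mul_assoc, ← Units.val_pow_eq_pow_val, ← Units.val_mul, inv_mul_cancel_right]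
      exact G.fac
    exact key P.u (by conv_lhs => rw [P.fac, hP, pow_one])⟩

theorem krullDimLE_atPrime {T : Type u} [CommRing T] [Ring.KrullDimLE 1 T] (P : Ideal T) [P.IsPrime] :
    Ring.KrullDimLE 1 (Localization.AtPrime P) :=
  (Ring.krullDimLE_iff).2 ((IsLocalization.AtPrime.ringKrullDim_eq_height P (Localization.AtPrime P)).le.trans
    (P.height_le_ringKrullDim_of_isPrime.trans ((Ring.krullDimLE_iff).1 ‹_›)))

section

variable {A : Type u} [CommRing A] [IsLocalRing A] {T : Type u} [CommRing T] [Algebra A T] [Module.Finite A T]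
  [Module.Free A T]

/-- The residue of the norm. -/
theorem residue_norm [Fintype (MaximalSpectrum T)] (x : T) :
    residue A (Algebra.norm A x) = ∏ P : MaximalSpectrum T, nrm A P.asIdeal
      (residue _ (algebraMap T (Localization.AtPrime P.asIdeal) x)) ^
        (Module.length (Localization.AtPrime P.asIdeal) (Localization.AtPrime P.asIdeal ⧸
          (maximalIdeal A).map (algebraMap A (Localization.AtPrime P.asIdeal)))).toNat := by
  let J := (maximalIdeal A).map (algebraMap A T)
  let : Algebra (ResidueField A) (T ⧸ J) := Ideal.Quotient.algebraQuotientMapQuotient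
  have : IsScalarTower A (ResidueField A) (T ⧸ J) := IsScalarTower.of_algebraMap_eq fun _ => rfl
  have : Module.Finite (ResidueField A) (T ⧸ J) := Module.Finite.of_restrictScalars_finite A _ _
  have h := det_eq_prod (R := A) (T := T) x (T ⧸ J)
    (LinearMap.mul (ResidueField A) (T ⧸ J) (Ideal.Quotient.mk J x)) fun v => by
      obtain ⟨v, rfl⟩ := Ideal.Quotient.mk_surjective v
      rfl
  have hn : residue A (Algebra.norm A x) = Algebra.norm (ResidueField A) (Ideal.Quotient.mk J x) := by
    refine (Groth.UnramNorm.norm_quotient_mk x).symm.trans ?_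
    exact Algebra.norm_eq_of_equiv_equiv (RingEquiv.refl _) (RingEquiv.refl _) (RingHom.ext fun z => by
      obtain ⟨z, rfl⟩ := residue_surjective z
      rfl) _
  rw [hn, Algebra.norm_apply]
  refine h.trans (Finset.prod_congr rfl fun P _ => ?_)
  rw [locLen_quot, Ideal.map_map, ← IsScalarTower.algebraMap_eq]

theorem exists_charpoly (p : T) :
    ∃ P : A[X], aeval p P = 0 ∧ ∀ l : A, P.eval l = Algebra.norm A (algebraMap A T l - p) := by
  classical
  let b := Module.Free.chooseBasis A T
  refine ⟨(Algebra.leftMulMatrix b p).charpoly, Algebra.leftMulMatrix_injective b ?_, fun l => ?_⟩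
  · rw [← aeval_algHom_apply, Matrix.aeval_self_charpoly, map_zero]
  · rw [Matrix.eval_charpoly, Algebra.norm_eq_matrix_det b, map_sub, AlgHom.commutes, Matrix.algebraMap_eq_diagonal]
    rfl

end

variable {A : Type u} [CommRing A] [IsDomain A] [IsDiscreteValuationRing A] {T : Type u} [CommRing T] [IsDomain T]
  [IsPrincipalIdealRing T] [Algebra A T] [Module.Finite A T] [Module.Free A T] [Fintype (MaximalSpectrum T)]

open Classical in
/-- Norm compatibility for residue degree one. -/
theorem tameSymbol_norm [Infinite (ResidueField A)] (hAT : Function.Injective (algebraMap A T))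
    (hdeg : ∀ M : MaximalSpectrum T, deg A M.asIdeal = 1) {f : T} (hf : f ≠ 0) {g : A} (hg : g ≠ 0) :
    ∏ M : MaximalSpectrum T, nrm A M.asIdeal (CycAlg.tameSymbol (Localization.AtPrime M.asIdeal)
      (algebraMap T _ f) (algebraMap A _ g)) = CycAlg.tameSymbol A (Algebra.norm A f) g := by
  have hdimA : Ring.KrullDimLE 1 A := inferInstance
  have hdimT : Ring.KrullDimLE 1 T := inferInstance
  have hdim : ∀ M : MaximalSpectrum T, Ring.KrullDimLE 1 (Localization.AtPrime M.asIdeal) := fun M =>
    krullDimLE_atPrime M.asIdeal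
  have hnoe : ∀ M : MaximalSpectrum T, IsNoetherianRing (Localization.AtPrime M.asIdeal) := fun M =>
    IsLocalization.isNoetherianRing M.asIdeal.primeCompl _ inferInstance
  have hN : ∀ {x : T}, x ≠ 0 → Algebra.norm A x ≠ 0 := fun {x} hx h => hx (Algebra.norm_eq_zero_iff.1 h)
  have nzT : ∀ (M : MaximalSpectrum T) {x : T}, x ≠ 0 →
      algebraMap T (Localization.AtPrime M.asIdeal) x ∈ nonZeroDivisors (Localization.AtPrime M.asIdeal) :=
    fun M {x} hx => IsLocalization.map_nonZeroDivisors_le M.asIdeal.primeCompl _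
      ⟨x, mem_nonZeroDivisors_of_ne_zero hx, rfl⟩
  have nzA : ∀ (M : MaximalSpectrum T) {a : A}, a ≠ 0 →
      algebraMap A (Localization.AtPrime M.asIdeal) a ∈ nonZeroDivisors (Localization.AtPrime M.asIdeal) :=
    fun M {a} ha => by
      rw [IsScalarTower.algebraMap_apply A T]
      exact nzT M fun h => ha (hAT (h.trans (map_zero _).symm))
  let Φ : T → A → ResidueField A := fun x a => ∏ M : MaximalSpectrum T, nrm A M.asIdeal
    (CycAlg.tameSymbol (Localization.AtPrime M.asIdeal) (algebraMap T _ x) (algebraMap A _ a))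
  change Φ f g = _
  have mulL : ∀ {x y : T} {a : A}, x ≠ 0 → y ≠ 0 → a ≠ 0 → Φ (x * y) a = Φ x a * Φ y a := fun {x y a} hx hy ha => by
    simp only [Φ, ← Finset.prod_mul_distrib, ← map_mul]
    exact Finset.prod_congr rfl fun M _ => by rw [map_mul, (tameSymbol_mul (nzT M hx) (nzT M hy) (nzA M ha)).1]
  have mulR : ∀ {x : T} {a b : A}, x ≠ 0 → a ≠ 0 → b ≠ 0 → Φ x (a * b) = Φ x a * Φ x b := fun {x a b} hx ha hb => by
    simp only [Φ, ← Finset.prod_mul_distrib, ← map_mul]
    exact Finset.prod_congr rfl fun M _ => by rw [map_mul, (tameSymbol_mul (nzA M ha) (nzA M hb) (nzT M hx)).2]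
  obtain ⟨π, hπ⟩ := IsDiscreteValuationRing.exists_irreducible A
  have hπm : maximalIdeal A = Ideal.span {π} := (IsDiscreteValuationRing.irreducible_iff_uniformizer π).1 hπ
  have hπn : π ∈ nonZeroDivisors A := mem_nonZeroDivisors_of_ne_zero hπ.ne_zero
  have hπ1 : Ring.ord A π = 1 := ord_uniformizer hπm
  have hone : ∀ (M : MaximalSpectrum T) (z : ResidueField A),
      nrm A M.asIdeal (algebraMap (ResidueField A) _ z) = z := fun M z => by rw [nrm_algebraMap, hdeg M, pow_one]
  -- uniformisers upstairs
  have hdvr : ∀ M : MaximalSpectrum T, ∃ ϖ : Localization.AtPrime M.asIdeal,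
      ϖ ∈ nonZeroDivisors (Localization.AtPrime M.asIdeal) ∧ maximalIdeal (Localization.AtPrime M.asIdeal) = Ideal.span {ϖ} := fun M => by
    obtain ⟨⟨m, hm⟩⟩ := IsPrincipalIdealRing.principal M.asIdeal
    refine ⟨algebraMap T _ m, nzT M fun h => ?_, ?_⟩
    · obtain ⟨r, hr, hr'⟩ : ∃ r ∈ M.asIdeal, r ≠ 0 := by
        refine ⟨algebraMap A T π, ?_, fun h => hπ.ne_zero (hAT (h.trans (map_zero _).symm))⟩
        exact (Ideal.mem_comap (f := algebraMap A T)).1 (by rw [comap_eq_maximalIdeal M.asIdeal]; exact hπ.not_isUnit)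
      rw [hm, h, Ideal.submodule_span_eq] at hr
      exact hr' (by simpa using hr)
    · rw [← Localization.AtPrime.map_eq_maximalIdeal, congrArg (Ideal.map (algebraMap T (Localization.AtPrime M.asIdeal))) hm,
        Ideal.submodule_span_eq, Ideal.map_span, Set.image_singleton]
  choose ϖ hϖn hϖm using hdvr
  have hfac : ∀ (M : MaximalSpectrum T) (z : Localization.AtPrime M.asIdeal), z ≠ 0 → Nonempty (Fact (ϖ M) z) := by
    intro M z hz
    have : IsDomain (Localization.AtPrime M.asIdeal) := IsLocalization.isDomain_localization M.asIdeal.primeCompl_le_nonZeroDivisors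
    have hM : M.asIdeal ≠ ⊥ := fun h => nonZeroDivisors.ne_zero (hϖn M) (Ideal.span_singleton_eq_bot.1 (by
      rw [← hϖm M, ← Localization.AtPrime.map_eq_maximalIdeal,
        congrArg (Ideal.map (algebraMap T (Localization.AtPrime M.asIdeal))) h, Ideal.map_bot]))
    have : IsDiscreteValuationRing (Localization.AtPrime M.asIdeal) :=
      IsLocalization.AtPrime.isDiscreteValuationRing_of_dedekind_domain T hM _
    obtain ⟨n, v, hv⟩ := IsDiscreteValuationRing.eq_unit_mul_pow_irreducible hz
      ((IsDiscreteValuationRing.irreducible_iff_uniformizer (ϖ M)).2 (hϖm M))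
    exact ⟨⟨v, n, hv⟩⟩
  let G := fun M : MaximalSpectrum T => (hfac M _ (nonZeroDivisors.ne_zero (nzA M hπ.ne_zero))).some
  let e : MaximalSpectrum T → ℕ := fun M => (G M).e
  have he : ∀ M : MaximalSpectrum T, (Module.length (Localization.AtPrime M.asIdeal) (Localization.AtPrime M.asIdeal ⧸
      (maximalIdeal A).map (algebraMap A (Localization.AtPrime M.asIdeal)))).toNat = e M := fun M => by
    rw [hπm, Ideal.map_span, Set.image_singleton]
    change (Ring.ord _ (algebraMap A (Localization.AtPrime M.asIdeal) π)).toNat = _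
    conv_lhs => rw [(G M).fac]
    rw [Ring.ord_mul_of_isUnit_left (Units.isUnit _), Ring.ord_pow (hϖn M), ord_uniformizer (hϖm M), nsmul_one,
      ENat.toNat_coe]
  let c : T → MaximalSpectrum T → ResidueField A := fun x M =>
    nrm A M.asIdeal (residue _ (algebraMap T (Localization.AtPrime M.asIdeal) x))
  have hnorm : ∀ x : T, residue A (Algebra.norm A x) = ∏ M, c x M ^ e M := fun x => by
    rw [residue_norm]
    exact Finset.prod_congr rfl fun M _ => by rw [he]
  have hcs : ∀ (l : A) (x : T) M, c (algebraMap A T l - x) M = residue A l - c x M := fun l x M => by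
    obtain ⟨z, hz⟩ : ∃ z, algebraMap (ResidueField A) (ResidueField (Localization.AtPrime M.asIdeal)) z =
        residue _ (algebraMap T (Localization.AtPrime M.asIdeal) x) := by
      have := finite_residueField (R := A) M.asIdeal
      refine (LinearMap.injective_iff_surjective_of_finrank_eq_finrank (f := Algebra.linearMap (ResidueField A)
        (ResidueField (Localization.AtPrime M.asIdeal))) ?_).1 (RingHom.injective _) _
      rw [Module.finrank_self]; exact (hdeg M).symm
    simp only [c, map_sub, ← IsScalarTower.algebraMap_apply A T, ← hz]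
    rw [← ResidueField.algebraMap_residue, ← map_sub, hone, hone]
  -- units, and prime elements
  have hunitL : ∀ (x : T) (M : MaximalSpectrum T), IsUnit (algebraMap T (Localization.AtPrime M.asIdeal) x) →
      CycAlg.tameSymbol (Localization.AtPrime M.asIdeal) (algebraMap T _ x) (algebraMap A _ π) =
        residue _ (algebraMap T (Localization.AtPrime M.asIdeal) x) ^ e M := fun x M hx => by
    rw [tameSymbol_eq_fact (hϖn M) ⟨hx.unit, 0, by simp⟩ (G M), Fact.val_unit_left _ rfl, ord_uniformizer (hϖm M),
      ENat.toNat_one, mul_one]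
  have caseUπ : ∀ {x : T}, IsUnit x → Φ x π = CycAlg.tameSymbol A (Algebra.norm A x) π := fun {x} hx => by
    have hNx : IsUnit (Algebra.norm A x) := hx.map _
    rw [tameSymbol_eq_fact hπn ⟨hNx.unit, 0, by simp⟩ (⟨1, 1, by simp⟩ : Fact π π), Fact.val_unit_left _ rfl,
      hπ1, ENat.toNat_one, mul_one, pow_one, hnorm]
    exact Finset.prod_congr rfl fun M _ => by rw [hunitL x M (hx.map _), map_pow]
  have caseUU : ∀ {x : T} {a : A}, IsUnit x → IsUnit a → Φ x a = CycAlg.tameSymbol A (Algebra.norm A x) a :=
    fun {x a} hx ha => by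
      rw [tameSymbol_units (hx.map _) ha]
      exact Finset.prod_eq_one fun M _ => by rw [tameSymbol_units (hx.map _) (ha.map _), map_one]
  have prime : ∀ {p : T}, Prime p → (Φ p π = CycAlg.tameSymbol A (Algebra.norm A p) π) ∧
      ∀ {a : A}, IsUnit a → Φ p a = CycAlg.tameSymbol A (Algebra.norm A p) a := by
    intro p hp
    have hmax : (Ideal.span {p} : Ideal T).IsMaximal := PrincipalIdealRing.isMaximal_of_irreducible hp.irreducible
    let M₀ : MaximalSpectrum T := ⟨_, hmax⟩
    set L := Localization.AtPrime M₀.asIdeal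
    set q := algebraMap T L p
    have hq : q ∈ nonZeroDivisors L := nzT M₀ hp.ne_zero
    have hqm : maximalIdeal L = Ideal.span {q} := by
      rw [← Localization.AtPrime.map_eq_maximalIdeal, Ideal.map_span, Set.image_singleton]
    have hq1 : Ring.ord L q = 1 := ord_uniformizer hqm
    have hunit : ∀ M, M ≠ M₀ → IsUnit (algebraMap T (Localization.AtPrime M.asIdeal) p) := fun M hM =>
      (IsLocalization.AtPrime.isUnit_to_map_iff _ M.asIdeal p).2 fun hmem => hM (MaximalSpectrum.ext
        (hmax.eq_of_le M.isMaximal.ne_top ((Ideal.span_singleton_le_iff_mem _).2 hmem)).symm)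
    obtain ⟨⟨P⟩⟩ : Nonempty (Nonempty (Fact (ϖ M₀) q)) := ⟨hfac M₀ q (nonZeroDivisors.ne_zero hq)⟩
    have hPe : P.e = 1 := by
      have := hq1
      rw [P.fac, Ring.ord_mul_of_isUnit_left (Units.isUnit _), Ring.ord_pow (hϖn M₀), ord_uniformizer (hϖm M₀),
        nsmul_one] at this
      exact_mod_cast this
    let Gq : Fact q (algebraMap A L π) := (G M₀).unpush P hPe
    obtain ⟨P', hP', hP'eval⟩ := exists_charpoly (A := A) p
    let R : (ResidueField A)[X] := ∏ M ∈ univ.erase M₀, (X - C (c p M)) ^ e M
    have hc0 : c p M₀ = 0 := by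
      change nrm A M₀.asIdeal (residue L q) = 0
      rw [(residue_eq_zero_iff q).2 (hqm ▸ Ideal.mem_span_singleton_self q), ← map_zero (algebraMap (ResidueField A) _), hone]
    have hPbar : P'.map (residue A) = X ^ e M₀ * R := by
      refine Polynomial.funext fun z => ?_
      obtain ⟨l, rfl⟩ := residue_surjective z
      rw [eval_map_apply, hP'eval, hnorm, ← Finset.mul_prod_erase univ _ (mem_univ M₀), eval_mul, eval_pow, eval_X,
        eval_prod, hcs, hc0, sub_zero]
      refine congrArg _ (Finset.prod_congr rfl fun M _ => ?_)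
      rw [eval_pow, eval_sub, eval_X, eval_C, hcs]
    have hlow : ∀ i < e M₀, residue A (P'.coeff i) = 0 := fun i hi => by
      rw [← coeff_map, hPbar, coeff_X_pow_mul', if_neg (by omega)]
    have hmid : residue A (P'.coeff (e M₀)) = R.eval 0 := by
      rw [← coeff_map, hPbar, coeff_X_pow_mul', if_pos le_rfl, Nat.sub_self, coeff_zero_eq_eval_zero]
    have he0 : 1 ≤ e M₀ := by
      by_contra h
      have h0 : IsUnit (algebraMap A L π) := by
        rw [(G M₀).fac, show (G M₀).e = 0 by change e M₀ = 0; omega, pow_zero, mul_one]; exact Units.isUnit _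
      exact hπ.not_isUnit (isUnit_of_map_unit (algebraMap A L) π h0)
    -- evaluate at `p`
    have hcoef : ∀ i < e M₀, ∃ b : A, P'.coeff i = π * b := fun i hi => by
      obtain ⟨b, hb⟩ := Ideal.mem_span_singleton'.1 (hπm ▸ (residue_eq_zero_iff _).1 (hlow i hi))
      exact ⟨b, by rw [← hb, mul_comm]⟩
    choose b hb using hcoef
    set u₀ : L := ((Gq.u : Lˣ) : L)
    have hsum : ∃ s : L, algebraMap A L (P'.coeff 0) + q ^ e M₀ * (algebraMap A L (P'.coeff (e M₀)) + q * s) = 0 := by
      have h0 : aeval q P' = 0 := by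
        change aeval (algebraMap T L p) P' = 0
        rw [aeval_algebraMap_apply, hP', map_zero]
      rw [aeval_eq_sum_range' (n := P'.natDegree + 1 + (e M₀ + 1)) (by omega)] at h0
      rw [← Finset.sum_erase_add _ _ (mem_range.2 (by omega : e M₀ < P'.natDegree + 1 + (e M₀ + 1))),
        ← Finset.sum_erase_add (a := 0) _ _ (by simp; omega), pow_zero, Algebra.smul_def, Algebra.smul_def, mul_one] at h0
      obtain ⟨s, hs⟩ : q ^ (e M₀ + 1) ∣
          ∑ i ∈ ((range (P'.natDegree + 1 + (e M₀ + 1))).erase (e M₀)).erase 0, P'.coeff i • q ^ i := by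
        refine Finset.dvd_sum fun i hi => ?_
        simp only [mem_erase, mem_range] at hi
        rw [Algebra.smul_def]
        rcases lt_or_gt_of_ne hi.2.1 with hlt | hlt
        · rw [hb i hlt, map_mul, Gq.fac, show Gq.e = e M₀ from rfl, show q ^ i = q ^ (i - 1) * q by
            rw [← pow_succ, Nat.sub_add_cancel (by omega)], pow_succ]
          exact Dvd.intro ((Gq.u : L) * algebraMap A L (b i hlt) * q ^ (i - 1)) (by ring)
        · exact dvd_mul_of_dvd_right (pow_dvd_pow _ (by omega)) _
      exact ⟨s, by rw [hs] at h0; linear_combination h0⟩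
    obtain ⟨s, hs⟩ := hsum
    -- the norm of `p`
    set E : ResidueField A := ∏ M ∈ univ.erase M₀, (-1) ^ e M
    set C' : ResidueField A := ∏ M ∈ univ.erase M₀, c p M ^ e M
    have hR0 : R.eval 0 = E * C' := by
      simp only [R, E, C', ← Finset.prod_mul_distrib, eval_prod]
      refine Finset.prod_congr rfl fun M _ => ?_
      rw [eval_pow, eval_sub, eval_X, eval_C, zero_sub, neg_pow]
    have hneg : residue A (Algebra.norm A (-1 : T)) = (-1) ^ e M₀ * E := by
      have h1 : ∀ M, c (-1 : T) M = -1 := fun M => by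
        simp only [c, map_neg, map_one]
        rw [← map_one (algebraMap (ResidueField A) _), ← map_neg (algebraMap (ResidueField A) _), hone]
      rw [hnorm, ← Finset.mul_prod_erase univ _ (mem_univ M₀)]
      simp only [h1]
      rfl
    have hCne : C' ≠ 0 := Finset.prod_ne_zero_iff.2 fun M hM => pow_ne_zero _
      (nrm_ne_zero M.asIdeal ((residue_ne_zero_iff_isUnit _).2 (hunit M (Finset.ne_of_mem_erase hM))))
    have hEne : E ≠ 0 := Finset.prod_ne_zero_iff.2 fun M _ => pow_ne_zero _ (neg_ne_zero.2 one_ne_zero)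
    obtain ⟨a', ha'⟩ : ∃ a', P'.coeff 0 = π * a' := ⟨_, hb 0 he0⟩
    have hres : algebraMap (ResidueField A) (ResidueField L) (residue A a') * residue L u₀ +
        algebraMap (ResidueField A) (ResidueField L) (E * C') = 0 := by
      rw [ha', map_mul, Gq.fac, show Gq.e = e M₀ from rfl] at hs
      have h1 : u₀ * algebraMap A L a' + (algebraMap A L (P'.coeff (e M₀)) + q * s) = 0 := by
        refine (mem_nonZeroDivisors_iff.1 (pow_mem hq (e M₀))).2 _ ?_
        linear_combination hs
      have h2 := congrArg (residue L) h1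
      rw [map_add, map_add, map_mul, map_mul, map_zero, (residue_eq_zero_iff q).2 (hqm ▸ Ideal.mem_span_singleton_self q),
        zero_mul, add_zero, ← ResidueField.algebraMap_residue, ← ResidueField.algebraMap_residue, hmid, hR0] at h2
      rw [mul_comm]; exact h2
    have ha'u : IsUnit a' := (residue_ne_zero_iff_isUnit _).1 fun h => by
      rw [h, map_zero, zero_mul, zero_add, map_eq_zero] at hres
      exact mul_ne_zero hEne hCne hres
    have hn1 : IsUnit (Algebra.norm A (-1 : T)) := (isUnit_one.neg : IsUnit (-1 : T)).map _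
    let W : Fact π (Algebra.norm A p) := ⟨hn1.unit * ha'u.unit, 1, by
      rw [Units.val_mul, IsUnit.unit_spec, IsUnit.unit_spec, pow_one, mul_assoc, mul_comm a', ← ha',
        coeff_zero_eq_eval_zero, hP'eval, map_zero, zero_sub, ← map_mul, mul_neg, neg_one_mul, neg_neg]⟩
    refine ⟨?_, fun {a} ha => ?_⟩
    · rw [tameSymbol_eq_fact hπn W (⟨1, 1, by simp⟩ : Fact π π)]
      change ∏ M, _ = _
      rw [← Finset.mul_prod_erase univ _ (mem_univ M₀),
        Finset.prod_congr rfl fun M hM => by rw [hunitL p M (hunit M (Finset.ne_of_mem_erase hM)), map_pow],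
        tameSymbol_eq_fact hq (⟨1, 1, by simp⟩ : Fact q q) Gq]
      obtain ⟨z, hz⟩ : ∃ z : ResidueField A, algebraMap _ (ResidueField L) z = residue L u₀ := by
        refine ⟨-(E * C') / residue A a', ?_⟩
        have hne : algebraMap (ResidueField A) (ResidueField L) (residue A a') ≠ 0 :=
          (_root_.map_ne_zero _).2 ((residue_ne_zero_iff_isUnit _).2 ha'u)
        rw [map_div₀, map_neg, div_eq_iff hne]
        linear_combination (-1 : ResidueField L) * hres
      have hz0 : z * residue A a' = -(E * C') := by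
        refine (algebraMap (ResidueField A) (ResidueField L)).injective ?_
        rw [map_mul, hz, map_neg]
        linear_combination hres
      have hzne : z ≠ 0 := fun h => by
        rw [h, zero_mul, zero_eq_neg] at hz0
        exact mul_ne_zero hEne hCne hz0
      simp only [Fact.val, Fact.expr, Fact.res, W, hq1, hπ1, ENat.toNat_one, pow_one, one_mul, mul_one, Units.val_one,
        map_one, one_pow, inv_one, Units.val_mul, IsUnit.unit_spec, map_mul (residue A), hneg]
      change nrm A M₀.asIdeal ((-1) ^ e M₀ * (residue L u₀)⁻¹) * C' = _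
      rw [← hz, ← map_inv₀, ← map_one (algebraMap (ResidueField A) (ResidueField L)), ← map_neg, ← map_pow, ← map_mul, hone]
      have hEE : E * E = 1 := by
        simp only [E, ← Finset.prod_mul_distrib]
        exact Finset.prod_eq_one fun M _ => by rw [← mul_pow, neg_mul_neg, one_mul, one_pow]
      field_simp
      linear_combination (-C') * hEE + E * hz0
    · rw [tameSymbol_eq_fact hπn W (⟨ha.unit, 0, by simp⟩ : Fact π a)]
      change ∏ M, _ = _
      rw [← Finset.mul_prod_erase univ _ (mem_univ M₀), Finset.prod_eq_one fun M hM => by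
          rw [tameSymbol_units (hunit M (Finset.ne_of_mem_erase hM)) (ha.map _), map_one], mul_one,
        tameSymbol_eq_fact hq (⟨1, 1, by simp⟩ : Fact q q) (⟨(ha.map (algebraMap A L)).unit, 0, by rw [pow_zero, mul_one]; rfl⟩ : Fact q _)]
      simp only [Fact.val, Fact.expr, Fact.res, W, hq1, hπ1, ENat.toNat_one, pow_one, mul_zero, pow_zero, one_mul,
        IsUnit.unit_spec]
      rw [← ResidueField.algebraMap_residue, ← map_inv₀, hone]
  -- conclusion
  have key : ∀ x : T, x ≠ 0 → Φ x π = CycAlg.tameSymbol A (Algebra.norm A x) π ∧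
      ∀ {a : A}, IsUnit a → Φ x a = CycAlg.tameSymbol A (Algebra.norm A x) a := by
    intro x
    induction x using UniqueFactorizationMonoid.induction_on_prime with
    | h₁ => exact fun h => absurd rfl h
    | h₂ x hx => exact fun _ => ⟨caseUπ hx, fun ha => caseUU hx ha⟩
    | h₃ x p hx hp ih =>
      intro _
      obtain ⟨ih1, ih2⟩ := ih hx
      obtain ⟨hp1, hp2⟩ := prime hp
      refine ⟨?_, fun {a} ha => ?_⟩
      · rw [mulL hp.ne_zero hx hπ.ne_zero, map_mul, hp1, ih1,
          (tameSymbol_mul (mem_nonZeroDivisors_of_ne_zero (hN hp.ne_zero)) (mem_nonZeroDivisors_of_ne_zero (hN hx)) hπn).1]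
      · rw [mulL hp.ne_zero hx ha.ne_zero, map_mul, hp2 ha, ih2 ha,
          (tameSymbol_mul (mem_nonZeroDivisors_of_ne_zero (hN hp.ne_zero)) (mem_nonZeroDivisors_of_ne_zero (hN hx))
            ha.mem_nonZeroDivisors).1]
  obtain ⟨n, u, rfl⟩ := IsDiscreteValuationRing.eq_unit_mul_pow_irreducible hg hπ
  clear hg
  induction n with
  | zero => rw [pow_zero, mul_one]; exact (key f hf).2 u.isUnit
  | succ n ih =>
    have h1 : (u : A) * π ^ n ≠ 0 := mul_ne_zero u.ne_zero (pow_ne_zero _ hπ.ne_zero)
    rw [pow_succ, ← mul_assoc, mulR hf h1 hπ.ne_zero, ih, (key f hf).1,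
      (tameSymbol_mul (mem_nonZeroDivisors_of_ne_zero h1) hπn (mem_nonZeroDivisors_of_ne_zero (hN hf))).2]

end Groth.MilnorKLambda.Amb
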