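import Groth.Prelude.Def_CycAlg
import Groth.Agent.MilnorKLambda.RelLen
import Groth.Agent.MilnorKLambda.FinLen
import Mathlib.RingTheory.Localization.Away.Basic
import Mathlib.RingTheory.IntegralClosure.Algebra.Basic
import Mathlib.RingTheory.OrderOfVanishing.Basic
import Mathlib.RingTheory.LocalRing.Quotient
import Mathlib.RingTheory.Ideal.GoingUp
import Mathlib.RingTheory.Ideal.MinimalPrime.Noetherian
import Mathlib.RingTheory.Spectrum.Maximal.Basic
import Mathlib.RingTheory.Ideal.Quotient.Operations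

/-!
# Finite subrings of the total ring of fractions of a one-dimensional local ring
-/

set_option autoImplicit false
universe u v

open IsLocalRing Pointwise

namespace Groth.MilnorKLambda.Amb

variable {R : Type u} [CommRing R] [IsNoetherianRing R] [IsLocalRing R] [Ring.KrullDimLE 1 R]
  {Q : Type u} [CommRing Q] [Algebra R Q]

/-- `Q` is `R[1/a]` for a nonzerodivisor `a` in the maximal ideal. -/
structure IsAmb (Q : Type u) [CommRing Q] [Algebra R Q] (a : R) : Prop where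
  mem : a ∈ maximalIdeal R
  nzd : a ∈ nonZeroDivisors R
  inj : Function.Injective (algebraMap R Q)
  unit : IsUnit (algebraMap R Q a)
  clear : ∀ x : Q, ∃ (k : ℕ) (r : R), algebraMap R Q a ^ k * x = algebraMap R Q r

omit [IsNoetherianRing R] [Ring.KrullDimLE 1 R] in
theorem isAmb_away {a : R} (ha : a ∈ nonZeroDivisors R) (ham : a ∈ maximalIdeal R) :
    IsAmb (Localization.Away a) a where
  mem := ham
  nzd := ha
  inj := IsLocalization.injective (Localization.Away a) (Submonoid.powers_le.2 ha)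
  unit := IsLocalization.Away.algebraMap_isUnit a
  clear x := by
    obtain ⟨r, ⟨_, k, rfl⟩, hr⟩ := IsLocalization.exists_mk'_eq (Submonoid.powers a) x
    exact ⟨k, r, by rw [← hr, ← map_pow, mul_comm]; exact IsLocalization.mk'_spec _ _ _⟩

theorem exists_pow_le_span {b : R} (hb : b ∈ nonZeroDivisors R) : ∃ n, maximalIdeal R ^ n ≤ Ideal.span {b} := by
  have : IsArtinianRing (R ⧸ Ideal.span {b}) :=
    isArtinian_of_tower R (isFiniteLength_iff_isNoetherian_isArtinian.1 (isFiniteLength_quotient_span_singleton R hb)).2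
  exact exists_maximalIdeal_pow_le_of_isArtinianRing_quotient _

variable {a : R} (hQ : IsAmb Q a)
include hQ

theorem IsAmb.isUnit_of_nzd {b : R} (hb : b ∈ nonZeroDivisors R) : IsUnit (algebraMap R Q b) := by
  obtain ⟨n, hn⟩ := exists_pow_le_span hb
  obtain ⟨c, hc⟩ := Ideal.mem_span_singleton'.1 (hn (Ideal.pow_mem_pow hQ.mem n))
  refine isUnit_of_dvd_unit ⟨algebraMap R Q c, ?_⟩ (hQ.unit.pow n)
  rw [← map_pow, ← hc, map_mul, mul_comm]

theorem IsAmb.nonZeroDivisor_of_isUnit {b : R} (hb : IsUnit (algebraMap R Q b)) : b ∈ nonZeroDivisors R :=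
  mem_nonZeroDivisors_iff_right.2 fun x hx => hQ.inj (by
    rw [map_zero]
    exact hb.mul_left_eq_zero.1 (by rw [← map_mul, hx, map_zero]))

omit [IsNoetherianRing R] [Ring.KrullDimLE 1 R] hQ in
theorem isUnit_pow_of_subtype {S : Subalgebra R Q} {g : S} (h : IsUnit g) : IsUnit (g : Q) := h.map S.val

theorem IsAmb.exists_clear {S : Subalgebra R Q} (hS : S.toSubmodule.FG) :
    ∃ k : ℕ, ∀ x ∈ S, ∃ r : R, algebraMap R Q a ^ k * x = algebraMap R Q r := by
  classical
  obtain ⟨T, hT⟩ := hS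
  choose k r hkr using fun x : Q => hQ.clear x
  refine ⟨T.sup k, fun x hx => ?_⟩
  have hx' : x ∈ Submodule.span R (T : Set Q) := hT ▸ hx
  induction hx' using Submodule.span_induction with
  | mem y hy =>
    refine ⟨a ^ (T.sup k - k y) * r y, ?_⟩
    rw [map_mul, map_pow, ← hkr y, ← mul_assoc, ← pow_add, Nat.sub_add_cancel (Finset.le_sup hy)]
  | zero => exact ⟨0, by simp⟩
  | add y z hy hz ihy ihz =>
    obtain ⟨r1, h1⟩ := ihy (hT.le hy)
    obtain ⟨r2, h2⟩ := ihz (hT.le hz)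
    exact ⟨r1 + r2, by rw [mul_add, h1, h2, map_add]⟩
  | smul c y hy ih =>
    obtain ⟨r1, h1⟩ := ih (hT.le hy)
    exact ⟨c * r1, by rw [Algebra.smul_def, mul_left_comm, h1, map_mul]⟩

theorem IsAmb.isFinExt {S : Subalgebra R Q} (hS : S.toSubmodule.FG) : CycAlg.IsFinExt R S (maximalIdeal R) := by
  refine ⟨fun x y h => hQ.inj (congrArg Subtype.val h), Module.Finite.iff_fg.2 hS, ?_⟩
  obtain ⟨k, hk⟩ := hQ.exists_clear hS
  obtain ⟨n, hn⟩ := exists_pow_le_span (pow_mem hQ.nzd k)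
  refine ⟨n, fun r hr x => ?_⟩
  obtain ⟨c, rfl⟩ := Ideal.mem_span_singleton'.1 (hn hr)
  obtain ⟨r', hr'⟩ := hk x.1 x.2
  refine ⟨c * r', Subtype.ext ?_⟩
  rw [Subalgebra.coe_algebraMap, map_mul, ← hr', ← map_pow, Subalgebra.coe_smul, Algebra.smul_def, map_mul, mul_assoc]

theorem IsAmb.pow_dvd_of_isUnit {S : Subalgebra R Q} {g : S} (hg : IsUnit (g : Q)) :
    ∃ k : ℕ, g ∣ algebraMap R S (a ^ k) := by
  obtain ⟨u, hu⟩ := hg
  obtain ⟨k, r, hk⟩ := hQ.clear ((u⁻¹ : Qˣ) : Q)
  refine ⟨k, ⟨algebraMap R S r, Subtype.ext ?_⟩⟩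
  rw [Subalgebra.coe_algebraMap, map_pow, MulMemClass.coe_mul, Subalgebra.coe_algebraMap, ← hk, mul_left_comm,
    ← hu, Units.mul_inv, mul_one]

omit [IsNoetherianRing R] [Ring.KrullDimLE 1 R] hQ in
/-- `length S/gS`. -/
noncomputable def ell (S : Subalgebra R Q) (g : Q) : ℕ∞ :=
  Per.rl S.toSubmodule (S.toSubmodule.map (LinearMap.mulLeft R g))

omit [IsNoetherianRing R] [Ring.KrullDimLE 1 R] hQ in
theorem map_mulLeft_le {S : Subalgebra R Q} {g : Q} (hg : g ∈ S) :
    S.toSubmodule.map (LinearMap.mulLeft R g) ≤ S.toSubmodule := by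
  rintro _ ⟨x, hx, rfl⟩
  exact S.mul_mem hg hx

omit hQ in
theorem length_ne_top_of_killed {M : Type v} [AddCommGroup M] [Module R M] [Module.Finite R M] {b : R}
    (hb : b ∈ nonZeroDivisors R) (h : ∀ x : M, b • x = 0) : Module.length R M ≠ ⊤ := by
  refine Per.length_ne_top_of_forall_isMaximal fun q hq hle => ?_
  obtain ⟨n, hn⟩ := exists_pow_le_span hb
  have hbq : b ∈ q := hle (Module.mem_annihilator.2 h)
  have hm : maximalIdeal R ≤ q := hq.le_of_pow_le (hn.trans ((Ideal.span_singleton_le_iff_mem _).2 hbq))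
  rw [← (maximalIdeal.isMaximal R).eq_of_le hq.ne_top hm]
  exact maximalIdeal.isMaximal R

theorem IsAmb.rl_ne_top_of_mul_mem {P T : Submodule R Q} (hP : P.FG) {k : ℕ}
    (h : ∀ x ∈ P, algebraMap R Q a ^ k * x ∈ T) : Per.rl P T ≠ ⊤ := by
  have : Module.Finite R P := Module.Finite.iff_fg.2 hP
  refine length_ne_top_of_killed (b := a ^ k) (pow_mem hQ.nzd k) fun x => ?_
  obtain ⟨x, rfl⟩ := Submodule.Quotient.mk_surjective _ x
  rw [← Submodule.Quotient.mk_smul, Submodule.Quotient.mk_eq_zero]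
  change a ^ k • (x : Q) ∈ T
  rw [Algebra.smul_def, map_pow]
  exact h x x.2

theorem IsAmb.ell_ne_top {S : Subalgebra R Q} (hS : S.toSubmodule.FG) {g : Q} (hg : g ∈ S) (hu : IsUnit g) :
    ell S g ≠ ⊤ := by
  obtain ⟨k, c, hc⟩ := hQ.pow_dvd_of_isUnit (g := (⟨g, hg⟩ : S)) hu
  refine hQ.rl_ne_top_of_mul_mem hS (k := k) fun x hx => ⟨(c : Q) * x, S.mul_mem c.2 hx, ?_⟩
  rw [LinearMap.mulLeft_apply, ← mul_assoc, ← map_pow]
  exact congrArg (· * x) (congrArg Subtype.val hc).symm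

omit [IsNoetherianRing R] [Ring.KrullDimLE 1 R] hQ in
theorem ell_mul {S : Subalgebra R Q} {g h : Q} (hg : g ∈ S) (hh : h ∈ S) (hu : IsUnit g) :
    ell S (g * h) = ell S g + ell S h := by
  have hinj : Function.Injective (LinearMap.mulLeft R g) := fun x y hxy => hu.mul_left_cancel hxy
  rw [ell, ell, ell, LinearMap.mulLeft_mul, Submodule.map_comp,
    Per.rl_add (Submodule.map_mono (map_mulLeft_le hh)) (map_mulLeft_le hg),
    Per.rl_map_of_injective _ hinj (map_mulLeft_le hh), add_comm]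

theorem IsAmb.ell_eq {S S' : Subalgebra R Q} (hle : S ≤ S') (hS' : S'.toSubmodule.FG) {g : Q}
    (hg : g ∈ S) (hu : IsUnit g) : ell S g = ell S' g := by
  have hinj : Function.Injective (LinearMap.mulLeft R g) := fun x y hxy => hu.mul_left_cancel hxy
  have hle' : S.toSubmodule ≤ S'.toSubmodule := hle
  have e1 : Per.rl S'.toSubmodule (S.toSubmodule.map (LinearMap.mulLeft R g)) =
      ell S g + Per.rl S'.toSubmodule S.toSubmodule := Per.rl_add (map_mulLeft_le hg) hle'
  have e2 : Per.rl S'.toSubmodule (S.toSubmodule.map (LinearMap.mulLeft R g)) =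
      Per.rl S'.toSubmodule S.toSubmodule + ell S' g := by
    rw [Per.rl_add (Submodule.map_mono hle') (map_mulLeft_le (hle hg)), Per.rl_map_of_injective _ hinj hle']
    rfl
  obtain ⟨k, hk⟩ := hQ.exists_clear hS'
  have hfin := hQ.rl_ne_top_of_mul_mem (T := S.toSubmodule) hS' (k := k) fun x hx => by
    obtain ⟨r, hr⟩ := hk x hx
    rw [hr]; exact S.algebraMap_mem r
  rw [e1, add_comm] at e2
  exact (ENat.add_right_injective_of_ne_top hfin) e2

omit [IsNoetherianRing R] [Ring.KrullDimLE 1 R] hQ in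
theorem ell_eq_zero_iff {S : Subalgebra R Q} {g : Q} (hg : g ∈ S) :
    ell S g = 0 ↔ IsUnit (⟨g, hg⟩ : S) := by
  rw [ell, Per.rl, Module.length_eq_zero_iff, Submodule.Quotient.subsingleton_iff, Submodule.submoduleOf_eq_top]
  constructor
  · intro h
    obtain ⟨x, hx, hx'⟩ := h S.one_mem
    exact IsUnit.of_mul_eq_one ⟨x, hx⟩ (Subtype.ext hx')
  · intro h x hx
    obtain ⟨u, hu⟩ := h
    refine ⟨((u⁻¹ : Sˣ) : S) * x, S.mul_mem (Subtype.mem _) hx, ?_⟩
    rw [LinearMap.mulLeft_apply, ← mul_assoc,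
      show g * (((u⁻¹ : Sˣ) : S) : Q) = (((u : S) * ((u⁻¹ : Sˣ) : S) : S) : Q) by rw [hu]; rfl,
      Units.mul_inv, OneMemClass.coe_one, one_mul]

theorem IsAmb.ell_algebraMap {S : Subalgebra R Q} (hS : S.toSubmodule.FG) {r : R} (hr : r ∈ nonZeroDivisors R) :
    ell S (algebraMap R Q r) = Ring.ord R r := by
  rw [← hQ.ell_eq bot_le hS ((⊥ : Subalgebra R Q).algebraMap_mem r) (hQ.isUnit_of_nzd hr), ell, Ring.ord]
  have hb : Subalgebra.toSubmodule (⊥ : Subalgebra R Q) = (⊤ : Submodule R R).map (Algebra.linearMap R Q) := by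
    rw [Algebra.toSubmodule_bot, Submodule.one_eq_range, Submodule.map_top]
  rw [hb, ← Submodule.map_comp, show (LinearMap.mulLeft R (algebraMap R Q r)) ∘ₗ Algebra.linearMap R Q =
      (Algebra.linearMap R Q) ∘ₗ LinearMap.mulLeft R r from LinearMap.ext fun x => by simp,
    Submodule.map_comp, Per.rl_map_of_injective _ hQ.inj le_top, Per.rl_top]
  refine (Submodule.quotEquivOfEq _ _ ?_).length_eq
  ext x
  simp [Ideal.mem_span_singleton', mul_comm, eq_comm]

end Groth.MilnorKLambda.Amb
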