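import Groth.Agent.MilnorKLambda.Tame1.Amb

/-!
# Coprime bases in finite extensions
-/

set_option autoImplicit false
universe u v

open IsLocalRing Pointwise Finset

namespace Groth.MilnorKLambda.Amb

variable {R : Type u} [CommRing R] [IsNoetherianRing R] [IsLocalRing R] [Ring.KrullDimLE 1 R]
  {Q : Type u} [CommRing Q] [Algebra R Q]

omit [IsNoetherianRing R] [IsLocalRing R] [Ring.KrullDimLE 1 R] in
theorem isIntegral_sub {S : Subalgebra R Q} (hS : S.toSubmodule.FG) : Algebra.IsIntegral R S :=
  have : Module.Finite R S := Module.Finite.iff_fg.2 hS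
  inferInstance

omit [Ring.KrullDimLE 1 R] in
theorem finite_maximalSpectrum {S : Type v} [CommRing S] [Algebra R S] [Module.Finite R S] :
    Finite (MaximalSpectrum S) := by
  have : IsNoetherianRing S := Algebra.FiniteType.isNoetherianRing R S
  set I := (maximalIdeal R).map (algebraMap R S)
  have hmem : ∀ M : MaximalSpectrum S, M.asIdeal ∈ I.minimalPrimes := fun M => by
    have hM : (maximalIdeal R) = M.asIdeal.comap (algebraMap R S) :=
      (eq_maximalIdeal (Ideal.isMaximal_comap_of_isIntegral_of_isMaximal M.asIdeal)).symm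
    refine ⟨⟨M.isMaximal.isPrime, Ideal.map_le_iff_le_comap.2 hM.le⟩, fun P hP hPM => ?_⟩
    have := hP.1
    have hPmax : P.IsMaximal := Ideal.isMaximal_of_isIntegral_of_isMaximal_comap (R := R) P (by
      rw [show P.comap (algebraMap R S) = maximalIdeal R from
        ((maximalIdeal.isMaximal R).eq_of_le (Ideal.comap_ne_top _ this.ne_top) (Ideal.map_le_iff_le_comap.1 hP.2)).symm]
      exact maximalIdeal.isMaximal R)
    exact (hPmax.eq_of_le M.isMaximal.ne_top hPM).ge
  have : Finite I.minimalPrimes := (Ideal.finite_minimalPrimes_of_isNoetherianRing S I).to_subtype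
  exact Finite.of_injective (fun M => (⟨M.asIdeal, hmem M⟩ : I.minimalPrimes)) fun M N h =>
    MaximalSpectrum.ext (congrArg Subtype.val h)

omit [IsNoetherianRing R] [IsLocalRing R] [Ring.KrullDimLE 1 R] in
theorem comap_isMaximal {S S' : Subalgebra R Q} (hle : S ≤ S') (hS' : S'.toSubmodule.FG)
    (M : Ideal S') [M.IsMaximal] : (M.comap (Subalgebra.inclusion hle).toRingHom).IsMaximal := by
  have := isIntegral_sub hS'
  have h1 : (M.comap (algebraMap R S')).IsMaximal := Ideal.isMaximal_comap_of_isIntegral_of_isMaximal M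
  refine Ideal.isMaximal_comap_of_isIntegral_of_isMaximal' _ (fun x => ?_) M
  exact RingHom.IsIntegral.tower_top (algebraMap R S) (Subalgebra.inclusion hle).toRingHom
    (fun y => by
      rw [AlgHom.toRingHom_eq_coe, AlgHom.comp_algebraMap]
      exact Algebra.IsIntegral.isIntegral y) x

omit [IsNoetherianRing R] [IsLocalRing R] [Ring.KrullDimLE 1 R] in
theorem exists_maximal_over {S S' : Subalgebra R Q} (hle : S ≤ S') (hS' : S'.toSubmodule.FG)
    (M : Ideal S) [M.IsMaximal] :
    ∃ M' : Ideal S', M'.IsMaximal ∧ M'.comap (Subalgebra.inclusion hle).toRingHom = M := by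
  have := isIntegral_sub hS'
  let : Algebra S S' := (Subalgebra.inclusion hle).toRingHom.toAlgebra
  have : IsScalarTower R S S' := IsScalarTower.of_algebraMap_eq fun r => rfl
  have : Algebra.IsIntegral S S' := Algebra.IsIntegral.tower_top R
  exact Ideal.exists_ideal_over_maximal_of_isIntegral M (by
    rw [(RingHom.injective_iff_ker_eq_bot (algebraMap S S')).1 (Subalgebra.inclusion_injective hle)]; exact bot_le)

omit [IsNoetherianRing R] [IsLocalRing R] [Ring.KrullDimLE 1 R] in
theorem fg_sup_adjoin {S : Subalgebra R Q} (hS : S.toSubmodule.FG) {s : Set Q} (hs : s.Finite)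
    (hi : ∀ x ∈ s, IsIntegral R x) : (S ⊔ Algebra.adjoin R s).toSubmodule.FG := by
  have := fg_adjoin_of_finite hs hi
  obtain ⟨T, hT⟩ := hS
  have hS' : S = Algebra.adjoin R (T : Set Q) := le_antisymm
    (fun x hx => Algebra.span_le_adjoin R _ (hT.ge hx))
    (Algebra.adjoin_le fun x hx => hT.le (Submodule.subset_span hx))
  rw [hS', ← Algebra.adjoin_union]
  refine fg_adjoin_of_finite (T.finite_toSet.union hs) fun x hx => hx.elim (fun hx => ?_) (hi x)
  exact IsIntegral.of_mem_of_fg S ⟨T, hT⟩ x (hT.le (Submodule.subset_span hx))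

omit [IsNoetherianRing R] [IsLocalRing R] [Ring.KrullDimLE 1 R] in
theorem fg_sup {S S' : Subalgebra R Q} (hS : S.toSubmodule.FG) (hS' : S'.toSubmodule.FG) :
    (S ⊔ S').toSubmodule.FG := by
  obtain ⟨T, hT⟩ := hS'
  have hS'' : S' = Algebra.adjoin R (T : Set Q) := le_antisymm
    (fun x hx => Algebra.span_le_adjoin R _ (hT.ge hx))
    (Algebra.adjoin_le fun x hx => hT.le (Submodule.subset_span hx))
  rw [hS'']
  exact fg_sup_adjoin hS T.finite_toSet fun x hx =>
    IsIntegral.of_mem_of_fg S' ⟨T, hT⟩ x (hT.le (Submodule.subset_span hx))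

variable {a : R} (hQ : IsAmb Q a)
include hQ

omit hQ [IsNoetherianRing R] [IsLocalRing R] [Ring.KrullDimLE 1 R] in
/-- `g` and `h` are comparable at every maximal ideal of `S`. -/
def Comparable (S : Subalgebra R Q) (g h : Q) : Prop :=
  ∀ M : Ideal S, M.IsMaximal → ∃ s : S, s ∉ M ∧ ((∃ y ∈ S, (s : Q) * h = g * y) ∨ ∃ y ∈ S, (s : Q) * g = h * y)

omit hQ [IsLocalRing R] [Ring.KrullDimLE 1 R] in
/-- Integrality of an element mapping the span of `1, u, …, u^n` into itself. -/
theorem isIntegral_of_poly {S : Subalgebra R Q} (hS : S.toSubmodule.FG) {x u : Q} (n : ℕ)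
    (h : ∀ i ≤ n, x * u ^ i ∈ S.toSubmodule * Submodule.span R ((fun i => u ^ i) '' Set.Iic n)) :
    IsIntegral R x := by
  set L := S.toSubmodule * Submodule.span R ((fun i => u ^ i) '' Set.Iic n) with hL
  have hLfg : L.FG := hS.mul (Submodule.fg_span ((Set.finite_Iic n).image _))
  have hx : ∀ y ∈ L, x * y ∈ L := by
    intro y hy
    refine Submodule.mul_induction_on hy (fun s hs w hw => ?_) fun y z hy hz => by rw [mul_add]; exact L.add_mem hy hz
    induction hw using Submodule.span_induction with
    | mem w hw =>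
      obtain ⟨i, hi, rfl⟩ := hw
      have hmul : ∀ z ∈ L, s * z ∈ L := fun z hz => by
        refine Submodule.mul_induction_on hz (fun s' hs' w' hw' => ?_) fun y z hy hz => by rw [mul_add]; exact L.add_mem hy hz
        rw [← mul_assoc]; exact Submodule.mul_mem_mul (S.mul_mem hs hs') hw'
      rw [mul_left_comm]
      exact hmul _ (h i hi)
    | zero => simp
    | add y z _ _ hy hz => rw [mul_add, mul_add]; exact L.add_mem hy hz
    | smul c y _ hy => rw [mul_smul_comm, mul_smul_comm]; exact L.smul_mem c hy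
  have h1 : (1 : Q) ∈ L := by
    have := Submodule.mul_mem_mul (M := S.toSubmodule) S.one_mem
      (Submodule.subset_span ⟨0, Set.mem_Iic.2 (Nat.zero_le n), rfl⟩ :
        u ^ 0 ∈ Submodule.span R ((fun i => u ^ i) '' Set.Iic n))
    simpa using this
  let A : Subalgebra R Q :=
    { carrier := {z | ∀ y ∈ L, z * y ∈ L}
      mul_mem' := fun {p q} hp hq y hy => by rw [mul_assoc]; exact hp _ (hq y hy)
      one_mem' := fun y hy => by rwa [one_mul]
      add_mem' := fun {p q} hp hq y hy => by rw [add_mul]; exact L.add_mem (hp y hy) (hq y hy)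
      zero_mem' := fun y hy => by rw [zero_mul]; exact L.zero_mem
      algebraMap_mem' := fun r y hy => by rw [← Algebra.smul_def]; exact L.smul_mem r hy }
  have hA : A.toSubmodule ≤ L := fun z hz => by simpa using hz 1 h1
  exact IsIntegral.of_mem_of_fg A (isNoetherian_submodule.1 (isNoetherian_of_fg_of_noetherian L hLfg) A.toSubmodule hA) x hx

end Groth.MilnorKLambda.Amb
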