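import Groth.Agent.MilnorKLambda.Tame1.Coprime

/-!
# Boundedness of powers dividing an element in finite extensions
-/

set_option autoImplicit false
universe u

open IsLocalRing Pointwise

namespace Groth.MilnorKLambda.Amb

variable {R : Type u} [CommRing R] [IsNoetherianRing R] [IsLocalRing R] [Ring.KrullDimLE 1 R]
  {Q : Type u} [CommRing Q] [Algebra R Q]

omit [IsNoetherianRing R] [IsLocalRing R] [Ring.KrullDimLE 1 R] in
theorem fg_bot : (⊥ : Subalgebra R Q).toSubmodule.FG := by
  rw [Algebra.toSubmodule_bot, Submodule.one_eq_span]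
  exact Submodule.fg_span (Set.finite_singleton _)

omit [IsNoetherianRing R] [Ring.KrullDimLE 1 R] in
theorem ell_pow {S : Subalgebra R Q} {g : Q} (hg : g ∈ S) (hu : IsUnit g) (n : ℕ) :
    ell S (g ^ n) = n * ell S g := by
  induction n with
  | zero => rw [pow_zero, (ell_eq_zero_iff S.one_mem).2 (by exact isUnit_one)]; simp
  | succ n ih => rw [pow_succ, ell_mul (pow_mem hg n) hg (hu.pow n), ih, Nat.cast_succ, add_mul, one_mul]

theorem IsAmb.one_le_ord {a : R} (hQ : IsAmb Q a) : 1 ≤ Ring.ord R a := by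
  rw [Order.one_le_iff_pos, pos_iff_ne_zero, Ring.ord, Ne, Module.length_eq_zero_iff,
    Submodule.Quotient.subsingleton_iff, Ideal.span_singleton_eq_top]
  exact (IsLocalRing.mem_maximalIdeal a).1 hQ.mem

theorem exists_bound_pow_dvd {a b : R} (ha : a ∈ nonZeroDivisors R) (ham : a ∈ maximalIdeal R)
    (hb : b ∈ nonZeroDivisors R) : ∃ n : ℕ, ∀ (R' : Type u) [CommRing R'] [Algebra R R'],
      Function.Injective (algebraMap R R') → Module.Finite R R' → ∀ (m : ℕ) (c : R'),
        algebraMap R R' b = algebraMap R R' a ^ m * c → m ≤ n := by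
  let Q := Localization.Away a
  have hQ : IsAmb Q a := isAmb_away ha ham
  refine ⟨(Ring.ord R b).toNat, fun R' _ _ hinj hfin m c hc => ?_⟩
  let L := Localization.Away (algebraMap R R' a)
  have hunit : IsUnit (algebraMap R L a) := by
    rw [IsScalarTower.algebraMap_apply R R' L]; exact IsLocalization.Away.algebraMap_isUnit _
  let φ : Q →ₐ[R] L :=
    { IsLocalization.Away.lift a (S := Q) hunit with
      commutes' := fun r => IsLocalization.Away.lift_eq a hunit r }
  have hφ : Function.Injective φ := by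
    rw [injective_iff_map_eq_zero]
    intro y hy
    obtain ⟨k, r, hr⟩ := hQ.clear y
    have : algebraMap R' L (algebraMap R R' r) = 0 := by
      have := congrArg φ hr
      rwa [map_mul, hy, mul_zero, AlgHom.commutes, IsScalarTower.algebraMap_apply R R' L, eq_comm] at this
    obtain ⟨⟨_, j, rfl⟩, hj⟩ := (IsLocalization.map_eq_zero_iff (Submonoid.powers (algebraMap R R' a)) L _).1 this
    have hj' : algebraMap R R' (a ^ j * r) = 0 := by
      rw [map_mul, map_pow]; exact hj
    have hr0 : r = 0 :=
      (mem_nonZeroDivisors_iff.1 (pow_mem ha j)).1 r (hinj (hj'.trans (map_zero (algebraMap R R')).symm))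
    rw [hr0, map_zero] at hr
    exact (hQ.unit.pow k).mul_right_eq_zero.1 hr
  set x : Q := algebraMap R Q b * ((hQ.unit.pow m).unit⁻¹ : Qˣ) with hxdef
  have hx : algebraMap R Q a ^ m * x = algebraMap R Q b := by
    rw [hxdef, mul_left_comm, IsUnit.mul_val_inv, mul_one]
  have hφx : φ x = algebraMap R' L c := by
    refine (hunit.pow m).mul_left_cancel ?_
    rw [← AlgHom.commutes φ a, ← map_pow, ← map_mul, hx, AlgHom.commutes, map_pow, AlgHom.commutes,
      IsScalarTower.algebraMap_apply R R' L, IsScalarTower.algebraMap_apply R R' L, ← map_pow, ← map_mul, hc]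
  have hint : IsIntegral R x := by
    rw [← isIntegral_algHom_iff φ hφ, hφx]
    exact (IsIntegral.of_finite R c).algebraMap
  set S : Subalgebra R Q := ⊥ ⊔ Algebra.adjoin R {x}
  have hS : S.toSubmodule.FG := fg_sup_adjoin fg_bot (Set.finite_singleton x) (by simpa using hint)
  have hxS : x ∈ S := le_sup_right (a := (⊥ : Subalgebra R Q)) (Algebra.self_mem_adjoin_singleton R x)
  have e := ell_mul (pow_mem (S.algebraMap_mem a) m) hxS (hQ.unit.pow m)
  rw [hx, ell_pow (S.algebraMap_mem a) hQ.unit, hQ.ell_algebraMap hS hb, hQ.ell_algebraMap hS ha] at e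
  have hfin : Ring.ord R b ≠ ⊤ := by
    rw [← hQ.ell_algebraMap hS hb]; exact hQ.ell_ne_top hS (S.algebraMap_mem b) (hQ.isUnit_of_nzd hb)
  rw [← Nat.cast_le (α := ℕ∞), ENat.natCast_toNat hfin, e]
  exact (le_mul_of_one_le_right (by simp) hQ.one_le_ord).trans le_self_add

end Groth.MilnorKLambda.Amb
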