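import Groth.Agent.MilnorKLambda.Tame1.Local

/-!
# Coprime bases in finite extensions
-/

set_option autoImplicit false
universe u

open IsLocalRing Finset

namespace Groth.MilnorKLambda.Amb

variable {R : Type u} [CommRing R] [IsNoetherianRing R] [IsLocalRing R] [Ring.KrullDimLE 1 R]
  {Q : Type u} [CommRing Q] [Algebra R Q] {a : R} (hQ : IsAmb Q a)
include hQ

/-- Coprime bases exist after a finite extension. -/
theorem IsAmb.exists_base : ∀ (n : ℕ) (S : Subalgebra R Q), S.toSubmodule.FG → ∀ G : Finset Q,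
    (∀ g ∈ G, g ∈ S ∧ IsUnit g) → (∑ g ∈ G, (ell S g).toNat) ≤ n →
    ∃ T : Subalgebra R Q, S ≤ T ∧ T.toSubmodule.FG ∧ ∃ G' : Finset Q, (∀ g ∈ G', g ∈ T ∧ IsUnit g) ∧
      (∀ g ∈ G, g ∈ Submonoid.closure (G' : Set Q)) ∧
      ∀ M : Ideal T, M.IsMaximal → ∀ x y : T, (x : Q) ∈ G' → (y : Q) ∈ G' → x ∈ M → y ∈ M → x = y := by
  classical
  intro n
  induction n using Nat.strong_induction_on with
  | _ n ih =>
  intro S hS G hG hn
  by_cases hcop : ∀ M : Ideal S, M.IsMaximal → ∀ x y : S, (x : Q) ∈ G → (y : Q) ∈ G → x ∈ M → y ∈ M → x = y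
  · exact ⟨S, le_rfl, hS, G, hG, fun g hg => Submonoid.subset_closure hg, hcop⟩
  push Not at hcop
  obtain ⟨M, hM, x, y, hx, hy, hxM, hyM, hxy⟩ := hcop
  have hne : (x : Q) ≠ y := fun h => hxy (Subtype.ext h)
  obtain ⟨S₁, hle, hS₁, hc⟩ := hQ.exists_comparable hS x.2 y.2 (hG _ hx).2
  have : Module.Finite R S₁ := Module.Finite.iff_fg.2 hS₁
  have := finite_maximalSpectrum (R := R) (S := S₁)
  obtain ⟨t, g', h', α, β, ht, hg', hh', hα, hβ, htu, e1, e2, e3⟩ :=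
    exists_gcd (hle x.2) (hle y.2) (hG _ hx).2 hc
  have hg'u : IsUnit g' := isUnit_of_mul_isUnit_right (e1 ▸ (hG _ hx).2 : IsUnit (t * g'))
  have hh'u : IsUnit h' := isUnit_of_mul_isUnit_right (e2 ▸ (hG _ hy).2 : IsUnit (t * h'))
  set G₀ := (G.erase (x : Q)).erase (y : Q) with hG₀
  set G₁ : Finset Q := G₀ ∪ ({t, g', h'} : Finset Q)
  have hG₀G : ∀ g ∈ G₀, g ∈ G := fun g hg => Finset.mem_of_mem_erase (Finset.mem_of_mem_erase hg)
  have hG₁ : ∀ g ∈ G₁, g ∈ S₁ ∧ IsUnit g := by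
    intro g hg
    rcases Finset.mem_union.1 hg with hg | hg
    · exact ⟨hle (hG g (hG₀G g hg)).1, (hG g (hG₀G g hg)).2⟩
    · simp only [Finset.mem_insert, Finset.mem_singleton] at hg
      rcases hg with rfl | rfl | rfl
      exacts [⟨ht, htu⟩, ⟨hg', hg'u⟩, ⟨hh', hh'u⟩]
  have htpos : 1 ≤ (ell S₁ t).toNat := by
    by_contra h0
    obtain ⟨m, hm⟩ := ENat.ne_top_iff_exists.1 (hQ.ell_ne_top hS₁ ht htu)
    rw [← hm, ENat.toNat_coe] at h0
    obtain ⟨v, hv⟩ := (ell_eq_zero_iff ht).1 (hm.symm.trans (by rw [show m = 0 by omega, Nat.cast_zero]))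
    obtain ⟨M', hM', hM'M⟩ := exists_maximal_over hle hS₁ M
    have hgM : (⟨t, ht⟩ : S₁) * ⟨g', hg'⟩ ∈ M' := by
      rw [show (⟨t, ht⟩ : S₁) * ⟨g', hg'⟩ = Subalgebra.inclusion hle x from Subtype.ext e1]
      exact (hM'M ▸ hxM : x ∈ M'.comap (Subalgebra.inclusion hle).toRingHom)
    have hhM : (⟨t, ht⟩ : S₁) * ⟨h', hh'⟩ ∈ M' := by
      rw [show (⟨t, ht⟩ : S₁) * ⟨h', hh'⟩ = Subalgebra.inclusion hle y from Subtype.ext e2]
      exact (hM'M ▸ hyM : y ∈ M'.comap (Subalgebra.inclusion hle).toRingHom)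
    have ht' : (⟨t, ht⟩ : S₁) ∉ M' := fun h => hM'.ne_top (Ideal.eq_top_of_isUnit_mem _ h ⟨v, hv⟩)
    refine hM'.ne_top (Ideal.eq_top_of_isUnit_mem _ (?_ : (⟨α, hα⟩ : S₁) * ⟨g', hg'⟩ + ⟨β, hβ⟩ * ⟨h', hh'⟩ ∈ M') ?_)
    · exact add_mem (Ideal.mul_mem_left _ _ ((hM'.isPrime.mem_or_mem hgM).resolve_left ht'))
        (Ideal.mul_mem_left _ _ ((hM'.isPrime.mem_or_mem hhM).resolve_left ht'))
    · exact (show (⟨α, hα⟩ : S₁) * ⟨g', hg'⟩ + ⟨β, hβ⟩ * ⟨h', hh'⟩ = 1 from Subtype.ext e3) ▸ isUnit_one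
  have hlt : ∑ g ∈ G₁, (ell S₁ g).toNat < ∑ g ∈ G, (ell S g).toNat := by
    have hx' : (ell S x).toNat = (ell S₁ t).toNat + (ell S₁ g').toNat := by
      rw [hQ.ell_eq hle hS₁ x.2 (hG _ hx).2, ← e1, ell_mul ht hg' htu,
        ENat.toNat_add (hQ.ell_ne_top hS₁ ht htu) (hQ.ell_ne_top hS₁ hg' hg'u)]
    have hy' : (ell S y).toNat = (ell S₁ t).toNat + (ell S₁ h').toNat := by
      rw [hQ.ell_eq hle hS₁ y.2 (hG _ hy).2, ← e2, ell_mul ht hh' htu,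
        ENat.toNat_add (hQ.ell_ne_top hS₁ ht htu) (hQ.ell_ne_top hS₁ hh' hh'u)]
    have h0 : ∑ g ∈ G₀, (ell S₁ g).toNat = ∑ g ∈ G₀, (ell S g).toNat := Finset.sum_congr rfl fun g hg => by
      rw [hQ.ell_eq hle hS₁ (hG g (hG₀G g hg)).1 (hG g (hG₀G g hg)).2]
    have h3 : ∑ g ∈ ({t, g', h'} : Finset Q), (ell S₁ g).toNat ≤
        (ell S₁ t).toNat + (ell S₁ g').toNat + (ell S₁ h').toNat := by
      by_cases h1 : t ∈ ({g', h'} : Finset Q)
      · rw [Finset.insert_eq_of_mem h1]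
        by_cases h2 : g' = h'
        · subst h2; simp
        · rw [Finset.sum_pair h2]; omega
      · rw [Finset.sum_insert h1]
        by_cases h2 : g' = h'
        · subst h2; simp
        · rw [Finset.sum_pair h2]; omega
    have hG' : ∑ g ∈ G, (ell S g).toNat = (ell S x).toNat + ((ell S y).toNat + ∑ g ∈ G₀, (ell S g).toNat) := by
      rw [hG₀, Finset.add_sum_erase _ (fun g => (ell S g).toNat) (Finset.mem_erase.2 ⟨hne.symm, hy⟩),
        Finset.add_sum_erase _ (fun g => (ell S g).toNat) hx]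
    have hun : ∑ g ∈ G₁, (ell S₁ g).toNat ≤ _ := le_of_le_of_eq le_self_add (Finset.sum_union_inter (s₁ := G₀) (s₂ := ({t, g', h'} : Finset Q)))
    omega
  obtain ⟨T, hle', hT, G', hG', hcl, hco⟩ := ih _ (lt_of_lt_of_le hlt hn) S₁ hS₁ G₁ hG₁ le_rfl
  refine ⟨T, hle.trans hle', hT, G', hG', fun g hg => ?_, hco⟩
  have h1 : ∀ z ∈ ({t, g', h'} : Finset Q), z ∈ Submonoid.closure (G' : Set Q) := fun z hz =>
    hcl z (Finset.mem_union_right _ hz)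
  by_cases hgx : g = x
  · rw [hgx, ← e1]; exact mul_mem (h1 t (by simp)) (h1 g' (by simp))
  by_cases hgy : g = y
  · rw [hgy, ← e2]; exact mul_mem (h1 t (by simp)) (h1 h' (by simp))
  exact hcl g (Finset.mem_union_left _ (Finset.mem_erase.2 ⟨hgy, Finset.mem_erase.2 ⟨hgx, hg⟩⟩))

/-- At each maximal ideal of a suitable extension, finitely many elements are units times powers of one element. -/
theorem IsAmb.exists_local_base (S : Subalgebra R Q) (hS : S.toSubmodule.FG) (G : Finset Q)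
    (hG : ∀ g ∈ G, g ∈ S ∧ IsUnit g) :
    ∃ (T : Subalgebra R Q) (hle : S ≤ T), T.toSubmodule.FG ∧ ∀ (M : Ideal T) [M.IsMaximal],
      ∃ γ ∈ nonZeroDivisors (Localization.AtPrime M), ∀ (g : Q) (hg : g ∈ G),
        Nonempty (Fact γ (algebraMap T (Localization.AtPrime M) ⟨g, hle (hG g hg).1⟩)) := by
  classical
  obtain ⟨T, hle, hT, G', hG', hcl, hco⟩ := hQ.exists_base _ S hS G hG le_rfl
  refine ⟨T, hle, hT, fun M hM => ?_⟩
  have : Module.Finite R T := Module.Finite.iff_fg.2 hT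
  set f := algebraMap T (Localization.AtPrime M)
  obtain ⟨c, hc, hcM⟩ : ∃ c : T, f c ∈ nonZeroDivisors (Localization.AtPrime M) ∧
      ∀ z : T, (z : Q) ∈ G' → z ∈ M → z = c := by
    by_cases h : ∃ z : T, (z : Q) ∈ G' ∧ z ∈ M
    · obtain ⟨z, hz, hzM⟩ := h
      exact ⟨z, nzd_algebraMap_atPrime hQ T.val Subtype.val_injective M (hG' _ hz).2,
        fun w hw hwM => hco M hM w z hw hz hwM hzM⟩
    · exact ⟨1, by rw [map_one]; exact one_mem _, fun z hz hzM => absurd ⟨z, hz, hzM⟩ h⟩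
  refine ⟨f c, hc, fun g hg => ?_⟩
  suffices key : ∀ z ∈ Submonoid.closure (G' : Set Q), ∃ hz : z ∈ T, Nonempty (Fact (f c) (f ⟨z, hz⟩)) from
    (key g (hcl g hg)).2
  intro z hz
  induction hz using Submonoid.closure_induction with
  | mem z hz =>
    refine ⟨(hG' z hz).1, ?_⟩
    by_cases hzM : (⟨z, (hG' z hz).1⟩ : T) ∈ M
    · rw [hcM _ hz hzM]
      exact ⟨⟨1, 1, by simp⟩⟩
    · exact ⟨⟨((IsLocalization.AtPrime.isUnit_to_map_iff (Localization.AtPrime M) M _).2 hzM).unit, 0, by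
        rw [pow_zero, mul_one, IsUnit.unit_spec]⟩⟩
  | one => exact ⟨T.one_mem, ⟨⟨1, 0, by rw [show (⟨1, T.one_mem⟩ : T) = 1 from rfl, map_one]; simp⟩⟩⟩
  | mul y z _ _ hy hz =>
    obtain ⟨hy1, ⟨Fy⟩⟩ := hy
    obtain ⟨hz1, ⟨Fz⟩⟩ := hz
    refine ⟨T.mul_mem hy1 hz1, ?_⟩
    rw [show (⟨y * z, T.mul_mem hy1 hz1⟩ : T) = ⟨y, hy1⟩ * ⟨z, hz1⟩ from rfl, map_mul]
    exact ⟨Fy.mul Fz⟩

end Groth.MilnorKLambda.Amb
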