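import Groth.Agent.MilnorKLambda.Tame1.Base

/-!
# Splitting common factors; coprime bases
-/

set_option autoImplicit false
universe u

open IsLocalRing Pointwise Finset

namespace Groth.MilnorKLambda.Amb

variable {R : Type u} [CommRing R] [IsNoetherianRing R] [IsLocalRing R] [Ring.KrullDimLE 1 R]
  {Q : Type u} [CommRing Q] [Algebra R Q] {a : R} (hQ : IsAmb Q a)
include hQ

theorem IsAmb.exists_relation {S : Subalgebra R Q} (hS : S.toSubmodule.FG) {g h : Q} (hg : g ∈ S) (hh : h ∈ S)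
    (hu : IsUnit g) (M : Ideal S) [M.IsMaximal] (hgM : (⟨g, hg⟩ : S) ∈ M) :
    ∃ (e : ℕ) (c : Fin (e + 1) → S), (∃ i, c i ∉ M) ∧
      ∑ i : Fin (e + 1), (c i : Q) * g ^ (e - i) * h ^ (i : ℕ) = 0 := by
  obtain ⟨e, he⟩ := ENat.ne_top_iff_exists.1 (hQ.ell_ne_top hS hg hu)
  refine ⟨e, ?_⟩
  by_contra hcon
  push Not at hcon
  let L := S.toSubmodule
  let ev : (Fin (e + 1) → L) →ₗ[R] Q :=
    { toFun := fun c => ∑ i : Fin (e + 1), (c i : Q) * g ^ (e - i) * h ^ (i : ℕ)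
      map_add' := fun c c' => by simp [add_mul, Finset.sum_add_distrib]
      map_smul' := fun r c => by simp [Finset.smul_sum, smul_mul_assoc] }
  set P := LinearMap.range ev
  have hmem : ∀ i : Fin (e + 1), g ^ (e - i) * h ^ (i : ℕ) ∈ S := fun i =>
    S.mul_mem (pow_mem hg _) (pow_mem hh _)
  have hPL : P ≤ L := by
    rintro _ ⟨c, rfl⟩
    change (∑ i : Fin (e + 1), (c i : Q) * g ^ (e - i) * h ^ (i : ℕ)) ∈ S
    refine Subalgebra.sum_mem S fun i _ => ?_
    rw [mul_assoc]; exact S.mul_mem (c i).2 (hmem i)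
  have hgP : P.map (LinearMap.mulLeft R g) ≤ P := by
    rintro _ ⟨_, ⟨c, rfl⟩, rfl⟩
    refine ⟨fun i => ⟨g * c i, S.mul_mem hg (c i).2⟩, ?_⟩
    simp [ev, Finset.mul_sum, mul_assoc]
  have hinj : Function.Injective (LinearMap.mulLeft R g) := fun x y hxy => hu.mul_left_cancel hxy
  obtain ⟨k, d, hd⟩ := hQ.pow_dvd_of_isUnit (g := (⟨g ^ e, pow_mem hg e⟩ : S)) (hu.pow e)
  have hLP : Per.rl L P ≠ ⊤ := by
    refine hQ.rl_ne_top_of_mul_mem hS (k := k) fun x hx => ⟨fun i => if (i : ℕ) = 0 then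
      ⟨(d : Q) * x, S.mul_mem d.2 hx⟩ else 0, ?_⟩
    change ∑ i : Fin (e + 1), _ = _
    rw [Finset.sum_eq_single (0 : Fin (e + 1))]
    · have hd' : algebraMap R Q (a ^ k) = g ^ e * (d : Q) := congrArg Subtype.val hd
      simp only [Fin.val_zero, if_true, Nat.sub_zero, pow_zero, mul_one]
      rw [← map_pow, hd']; ring
    · intro i _ hi
      have hi' : (i : ℕ) ≠ 0 := fun h => hi (Fin.ext h)
      simp [hi']
    · simp
  have e1 : Per.rl L (P.map (LinearMap.mulLeft R g)) = Per.rl L P + ell S g := by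
    rw [Per.rl_add (Submodule.map_mono hPL) (map_mulLeft_le hg), Per.rl_map_of_injective _ hinj hPL]
    rfl
  have e2 : Per.rl L (P.map (LinearMap.mulLeft R g)) = Per.rl P (P.map (LinearMap.mulLeft R g)) + Per.rl L P :=
    Per.rl_add hgP hPL
  rw [e1, add_comm _ (Per.rl L P)] at e2
  have hlen : ell S g = Per.rl P (P.map (LinearMap.mulLeft R g)) := ENat.add_right_injective_of_ne_top hLP e2
  let Φ : (Fin (e + 1) → L) →ₗ[R] (P ⧸ (P.map (LinearMap.mulLeft R g)).submoduleOf P) :=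
    Submodule.mkQ _ ∘ₗ ev.rangeRestrict
  have hΦ : Function.Surjective Φ := (Submodule.mkQ_surjective _).comp ev.surjective_rangeRestrict
  let pr : L →ₗ[R] (S ⧸ M) := (Ideal.Quotient.mkₐ R M).toLinearMap ∘ₗ
    ({ toFun := fun x => (⟨x.1, x.2⟩ : S), map_add' := fun _ _ => rfl, map_smul' := fun _ _ => rfl } : L →ₗ[R] S)
  let Ψ : (Fin (e + 1) → L) →ₗ[R] (Fin (e + 1) → S ⧸ M) := LinearMap.piMap fun _ => pr
  have hΨ : Function.Surjective Ψ := fun y => by
    choose x hx using fun i => Ideal.Quotient.mk_surjective (I := M) (y i)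
    exact ⟨fun i => ⟨(x i).1, (x i).2⟩, funext hx⟩
  have hker : LinearMap.ker Φ ≤ LinearMap.ker Ψ := by
    intro c hc
    rw [LinearMap.mem_ker, LinearMap.comp_apply, Submodule.mkQ_apply, Submodule.Quotient.mk_eq_zero] at hc
    obtain ⟨_, ⟨c', rfl⟩, hc'⟩ := hc
    refine LinearMap.mem_ker.2 (funext fun i => ?_)
    by_contra hne
    refine hcon (fun i => ⟨(c i : Q), (c i).2⟩ - ⟨g, hg⟩ * ⟨(c' i : Q), (c' i).2⟩) ⟨i, fun hmemM => hne ?_⟩ ?_
    · refine Ideal.Quotient.eq_zero_iff_mem.2 ?_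
      simpa using add_mem hmemM (M.mul_mem_right _ hgM : (⟨g, hg⟩ : S) * ⟨(c' i : Q), (c' i).2⟩ ∈ M)
    · have hc'' : g * ev c' = ev c := hc'
      simp only [ev, LinearMap.coe_mk, AddHom.coe_mk, Finset.mul_sum] at hc''
      simp only [AddSubgroupClass.coe_sub, MulMemClass.coe_mul, Pi.sub_apply, sub_mul, Finset.sum_sub_distrib]
      rw [← hc'', sub_eq_zero]
      exact Finset.sum_congr rfl fun j _ => by ring
  have hle : Module.length R (Fin (e + 1) → S ⧸ M) ≤ ell S g := by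
    rw [hlen, Per.rl, ← (Φ.quotKerEquivOfSurjective hΦ).length_eq, ← (Ψ.quotKerEquivOfSurjective hΨ).length_eq]
    exact Module.length_le_of_surjective (Submodule.factor hker) (Submodule.factor_surjective hker)
  rw [Module.length_pi_of_fintype, Finset.sum_const, Finset.card_univ, Fintype.card_fin, nsmul_eq_mul, ← he] at hle
  have : Nontrivial (S ⧸ M) := Ideal.Quotient.nontrivial_iff.2 (Ideal.IsMaximal.ne_top ‹_›)
  have h1 : (1 : ℕ∞) ≤ Module.length R (S ⧸ M) := Order.one_le_iff_pos.2 Module.length_pos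
  have : ((e + 1 : ℕ) : ℕ∞) ≤ e := le_trans (le_mul_of_one_le_right (by simp) h1) hle
  norm_cast at this
  omega

theorem IsAmb.exists_comparable_at {S : Subalgebra R Q} (hS : S.toSubmodule.FG) {g h : Q} (hg : g ∈ S) (hh : h ∈ S)
    (hu : IsUnit g) (M : Ideal S) [M.IsMaximal] :
    ∃ s : Set Q, s.Finite ∧ (∀ x ∈ s, IsIntegral R x) ∧
      ∀ (S' : Subalgebra R Q) (hle : S ≤ S'), s ⊆ S' → ∀ M' : Ideal S',
        M'.comap (Subalgebra.inclusion hle).toRingHom = M → M'.IsPrime →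
        ∃ t : S', t ∉ M' ∧ ((∃ y ∈ S', (t : Q) * h = g * y) ∨ ∃ y ∈ S', (t : Q) * g = h * y) := by
  by_cases hgM : (⟨g, hg⟩ : S) ∈ M
  swap
  · refine ⟨∅, Set.finite_empty, by simp, fun S' hle _ M' hM' _ => ⟨Subalgebra.inclusion hle ⟨g, hg⟩, fun hm => hgM ?_, Or.inl ⟨h, hle hh, rfl⟩⟩⟩
    rw [← hM']; exact hm
  obtain ⟨e, c, ⟨i0, hi0⟩, hrel⟩ := hQ.exists_relation hS hg hh hu M hgM
  obtain ⟨γ, hγ⟩ := hu
  set u : Q := h * ((γ⁻¹ : Qˣ) : Q) with hudef
  have hgu : g * u = h := by rw [hudef, mul_left_comm, ← hγ, Units.mul_inv, mul_one]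
  let C : ℕ → Q := fun i => if hi : i < e + 1 then (c ⟨i, hi⟩ : Q) else 0
  have hC : ∀ i, C i ∈ S := fun i => by
    simp only [C]; split_ifs
    · exact Subtype.mem _
    · exact S.zero_mem
  have hpoly : ∑ i ∈ range (e + 1), C i * u ^ i = 0 := by
    refine (Units.isUnit γ).pow e |>.mul_left_cancel ?_
    rw [mul_zero, hγ, ← hrel, ← Fin.sum_univ_eq_sum_range (fun i => C i * u ^ i), Finset.mul_sum]
    refine Finset.sum_congr rfl fun i _ => ?_
    have hi : (i : ℕ) ≤ e := by omega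
    simp only [C, i.2, dif_pos, Fin.eta]
    rw [← hgu, mul_pow, show g ^ e = g ^ (e - i) * g ^ (i : ℕ) by rw [← pow_add, Nat.sub_add_cancel hi]]
    ring
  let x : ℕ → Q := fun j => ∑ l ∈ range (e + 1 - j), C (l + j) * u ^ l
  have hhorner : ∀ j, j ≤ e → x j = C j + u * x (j + 1) := by
    intro j hj
    simp only [x, show e + 1 - j = (e + 1 - (j + 1)) + 1 by omega, Finset.sum_range_succ', Finset.mul_sum]
    rw [zero_add, pow_zero, mul_one, add_comm]
    congr 1
    refine Finset.sum_congr rfl fun l _ => ?_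
    rw [show l + 1 + j = l + (j + 1) by omega, pow_succ]; ring
  have hx0 : x 0 = 0 := by simpa [x] using hpoly
  have hlow : ∀ j, j ≤ e + 1 → x j * u ^ j = -∑ l ∈ range j, C l * u ^ l := by
    intro j
    induction j with
    | zero => intro _; simp [hx0]
    | succ j ih =>
      intro hj
      have := ih (by omega)
      rw [hhorner j (by omega), add_mul] at this
      rw [Finset.sum_range_succ, neg_add, ← this, pow_succ]
      ring
  have hint : ∀ j, IsIntegral R (x j) := by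
    intro j
    refine isIntegral_of_poly hS (u := u) e fun i hi => ?_
    have hterm : ∀ l, l ≤ e → ∀ m, C m * u ^ l ∈ S.toSubmodule * Submodule.span R ((fun i => u ^ i) '' Set.Iic e) :=
      fun l hl m => Submodule.mul_mem_mul (hC m) (Submodule.subset_span ⟨l, hl, rfl⟩)
    rcases le_or_gt j e with hje | hje
    swap
    · simp [x, show e + 1 - j = 0 by omega]
    rcases le_or_gt i j with hij | hij
    · rw [Finset.sum_mul]
      refine Submodule.sum_mem _ fun l hl => ?_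
      rw [Finset.mem_range] at hl
      rw [mul_assoc, ← pow_add]
      exact hterm _ (by omega) _
    · rw [show i = j + (i - j) by omega, pow_add, ← mul_assoc, hlow j (by omega), neg_mul, Finset.sum_mul]
      refine neg_mem (Submodule.sum_mem _ fun l hl => ?_)
      rw [Finset.mem_range] at hl
      rw [mul_assoc, ← pow_add]
      exact hterm _ (by omega) _
  refine ⟨x '' Set.Iic (e + 1), (Set.finite_Iic _).image x, ?_, fun S' hle hs M' hM' hprime => ?_⟩
  · rintro _ ⟨j, -, rfl⟩; exact hint j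
  have hxS : ∀ j, j ≤ e + 1 → x j ∈ S' := fun j hj => hs ⟨j, hj, rfl⟩
  have hyS : ∀ j, j ≤ e → u * x (j + 1) ∈ S' := fun j hj => by
    have := S'.sub_mem (hxS j (by omega)) (hle (hC j))
    rwa [hhorner j hj, add_sub_cancel_left] at this
  by_contra hcon
  push Not at hcon
  have hX : ∀ j (hj : j ≤ e + 1), (⟨x j, hxS j hj⟩ : S') ∈ M' := by
    intro j hj
    by_contra hne
    rcases Nat.eq_zero_or_pos j with rfl | hpos
    · exact hne (by rw [show (⟨x 0, hxS 0 hj⟩ : S') = 0 from Subtype.ext hx0]; exact M'.zero_mem)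
    obtain ⟨j, rfl⟩ : ∃ k, j = k + 1 := ⟨j - 1, by omega⟩
    refine (hcon _ hne).1 _ (hyS j (by omega)) ?_
    change x (j + 1) * h = g * (u * x (j + 1))
    rw [← mul_assoc, hgu, mul_comm]
  have hY : ∀ j (hj : j ≤ e), (⟨u * x (j + 1), hyS j hj⟩ : S') ∈ M' := by
    intro j hj
    by_contra hne
    refine (hcon _ hne).2 _ (hxS (j + 1) (by omega)) ?_
    change u * x (j + 1) * g = h * x (j + 1)
    rw [← hgu]; ring
  apply hi0
  rw [← hM', Ideal.mem_comap]
  have hj : (i0 : ℕ) ≤ e := by omega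
  have heq : (Subalgebra.inclusion hle).toRingHom (c i0) =
      (⟨x i0, hxS i0 (by omega)⟩ : S') - ⟨u * x ((i0 : ℕ) + 1), hyS i0 hj⟩ := by
    refine Subtype.ext ?_
    change (c i0 : Q) = x i0 - u * x ((i0 : ℕ) + 1)
    rw [hhorner i0 hj, add_sub_cancel_right]
    simp only [C, dif_pos i0.2, Fin.eta]
  rw [heq]
  exact sub_mem (hX _ (by omega)) (hY _ hj)

theorem IsAmb.exists_comparable {S : Subalgebra R Q} (hS : S.toSubmodule.FG) {g h : Q} (hg : g ∈ S) (hh : h ∈ S)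
    (hu : IsUnit g) : ∃ S' : Subalgebra R Q, S ≤ S' ∧ S'.toSubmodule.FG ∧ Comparable S' g h := by
  have : Module.Finite R S := Module.Finite.iff_fg.2 hS
  have := finite_maximalSpectrum (R := R) (S := S)
  choose s hsf hsi hs using fun M : MaximalSpectrum S =>
    have := M.isMaximal
    hQ.exists_comparable_at hS hg hh hu M.asIdeal
  set S' := S ⊔ Algebra.adjoin R (⋃ M, s M)
  have hle : S ≤ S' := le_sup_left
  have hS' : S'.toSubmodule.FG := fg_sup_adjoin hS (Set.finite_iUnion hsf) fun x hx => by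
    obtain ⟨M, hM⟩ := Set.mem_iUnion.1 hx
    exact hsi M x hM
  refine ⟨S', hle, hS', fun M' hM' => ?_⟩
  exact hs ⟨_, comap_isMaximal hle hS' M'⟩ S' hle
    ((Set.subset_iUnion s _).trans (Algebra.subset_adjoin.trans (le_sup_right : _ ≤ S'))) M' rfl hM'.isPrime

omit [IsNoetherianRing R] [Ring.KrullDimLE 1 R] hQ in
theorem exists_gcd {S : Subalgebra R Q} [Finite (MaximalSpectrum S)] {g h : Q} (hg : g ∈ S) (hh : h ∈ S)
    (hug : IsUnit g) (hc : Comparable S g h) :
    ∃ t g' h' α β : Q, t ∈ S ∧ g' ∈ S ∧ h' ∈ S ∧ α ∈ S ∧ β ∈ S ∧ IsUnit t ∧ t * g' = g ∧ t * h' = h ∧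
      α * g' + β * h' = 1 := by
  classical
  have := Fintype.ofFinite (MaximalSpectrum S)
  have hI : Pairwise (Function.onFun IsCoprime fun M : MaximalSpectrum S => M.asIdeal) := fun M N hne =>
    Ideal.isCoprime_iff_sup_eq.2 (M.isMaximal.coprime_of_ne N.isMaximal fun h => hne (MaximalSpectrum.ext h))
  choose ε hε using fun M : MaximalSpectrum S => Ideal.exists_forall_sub_mem_ideal hI (Pi.single M (1 : S))
  have hε1 : ∀ M, ε M ∉ M.asIdeal := fun M hm => M.isMaximal.ne_top (Ideal.eq_top_of_isUnit_mem _ (by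
    have := M.asIdeal.sub_mem hm (hε M M)
    rwa [sub_sub_cancel, Pi.single_eq_same] at this) isUnit_one)
  have hε0 : ∀ M N, N ≠ M → ε M ∈ N.asIdeal := fun M N hne => by
    simpa [Pi.single_eq_of_ne hne] using hε M N
  have key : ∀ M : MaximalSpectrum S, ∃ (γ δ : S) (s y : S), s ∉ M.asIdeal ∧ (s : S) * δ = γ * y ∧
      ((γ = ⟨g, hg⟩ ∧ δ = ⟨h, hh⟩) ∨ (γ = ⟨h, hh⟩ ∧ δ = ⟨g, hg⟩)) := by
    intro M
    obtain ⟨s, hs, ⟨y, hy, e⟩ | ⟨y, hy, e⟩⟩ := hc M.asIdeal M.isMaximal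
    · exact ⟨_, _, s, ⟨y, hy⟩, hs, Subtype.ext e, Or.inl ⟨rfl, rfl⟩⟩
    · exact ⟨_, _, s, ⟨y, hy⟩, hs, Subtype.ext e, Or.inr ⟨rfl, rfl⟩⟩
  choose γ δ s y hs he hor using key
  set G : S := ⟨g, hg⟩
  set H : S := ⟨h, hh⟩
  set t : S := ∑ M, ε M * γ M
  have hw : ∀ M, ∃ w ∉ M.asIdeal, w * γ M = s M * t := by
    intro M
    have hc' : ∀ N, ∃ c, c * γ M = s M * γ N ∧ (N = M → c = s M) := by
      intro N
      by_cases hNM : N = M
      · exact ⟨s M, by rw [hNM], fun _ => rfl⟩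
      by_cases heq : γ N = γ M
      · exact ⟨s M, by rw [heq], fun _ => rfl⟩
      refine ⟨y M, ?_, fun h => absurd h hNM⟩
      rw [mul_comm, ← he M]
      congr 1
      rcases hor M with ⟨h1, h2⟩ | ⟨h1, h2⟩ <;> rcases hor N with ⟨h3, h4⟩ | ⟨h3, h4⟩
      · exact absurd (h3.trans h1.symm) heq
      · rw [h2, h3]
      · rw [h2, h3]
      · exact absurd (h3.trans h1.symm) heq
    choose c hc1 hc2 using hc'
    refine ⟨∑ N, ε N * c N, fun hmem => ?_, ?_⟩
    · rw [← Finset.add_sum_erase _ _ (Finset.mem_univ M), hc2 M rfl] at hmem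
      have hrest : ∑ N ∈ Finset.univ.erase M, ε N * c N ∈ M.asIdeal := Ideal.sum_mem _ fun N hN =>
        Ideal.mul_mem_right _ _ (hε0 N M (Finset.ne_of_mem_erase hN).symm)
      rcases M.isMaximal.isPrime.mem_or_mem ((Ideal.add_mem_iff_left _ hrest).1 hmem) with hh' | hh'
      · exact hε1 M hh'
      · exact hs M hh'
    · rw [Finset.sum_mul, Finset.mul_sum]
      exact Finset.sum_congr rfl fun N _ => by rw [mul_assoc, hc1 N]; ring
  have hdvd : ∀ z : S, z = G ∨ z = H → t ∣ z := by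
    intro z hz
    suffices htop : (Ideal.span {t}).colon {z} = ⊤ by
      have := (Ideal.eq_top_iff_one _).1 htop
      rw [Submodule.mem_colon_singleton, one_smul, Ideal.mem_span_singleton] at this
      exact this
    by_contra hne
    obtain ⟨M, hM, hle⟩ := Ideal.exists_le_maximal _ hne
    obtain ⟨w, hwM, hwe⟩ := hw ⟨M, hM⟩
    have hcase : z = γ ⟨M, hM⟩ ∨ z = δ ⟨M, hM⟩ := by
      rcases hor ⟨M, hM⟩ with ⟨h1, h2⟩ | ⟨h1, h2⟩ <;> rw [h1, h2] <;> tauto
    rcases hcase with rfl | rfl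
    · refine hwM (hle (Submodule.mem_colon_singleton.2 ?_))
      rw [smul_eq_mul, hwe, Ideal.mem_span_singleton]
      exact dvd_mul_left _ _
    · refine hwM ((hM.isPrime.mem_or_mem (hle (Submodule.mem_colon_singleton.2 ?_) : w * s ⟨M, hM⟩ ∈ M)).resolve_right (hs ⟨M, hM⟩))
      rw [smul_eq_mul, mul_assoc, he, ← mul_assoc, hwe, Ideal.mem_span_singleton]
      exact Dvd.dvd.mul_right (dvd_mul_left _ _) _
  obtain ⟨g', hg'⟩ := hdvd G (Or.inl rfl)
  obtain ⟨h', hh'⟩ := hdvd H (Or.inr rfl)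
  have htu : IsUnit (t : Q) := isUnit_of_mul_isUnit_left (y := (g' : Q)) (by
    rw [← MulMemClass.coe_mul, ← hg']; exact hug)
  have hspan : t ∈ Ideal.span ({G, H} : Set S) := Ideal.sum_mem _ fun M _ => Ideal.mul_mem_left _ _ (by
    rcases hor M with ⟨h1, -⟩ | ⟨h1, -⟩ <;> rw [h1] <;> exact Ideal.subset_span (by simp))
  obtain ⟨α, β, hαβ⟩ := Ideal.mem_span_pair.1 hspan
  refine ⟨t, g', h', α, β, t.2, g'.2, h'.2, α.2, β.2, htu, (congrArg Subtype.val hg').symm,
    (congrArg Subtype.val hh').symm, htu.mul_left_cancel ?_⟩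
  rw [mul_one]
  have := congrArg Subtype.val hαβ
  rw [hg', hh'] at this
  simp only [AddMemClass.coe_add, MulMemClass.coe_mul] at this
  linear_combination this

end Groth.MilnorKLambda.Amb
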