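import Groth.Agent.MilnorKLambda.Tame1.Value

/-!
# Independence of the choice of tame data
-/

set_option autoImplicit false
universe u

open IsLocalRing Finset

namespace Groth.MilnorKLambda.Amb

variable {R : Type u} [CommRing R] [IsNoetherianRing R] [IsLocalRing R] [Ring.KrullDimLE 1 R]

attribute [local instance] isLocalHom_atPrime

namespace Fact

variable {L : Type u} [CommRing L] {π x y : L}

/-- change of target along an equality -/
def cast (F : Fact π x) (h : x = y) : Fact π y := ⟨F.u, F.e, h ▸ F.fac⟩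

theorem expr_map [IsLocalRing L] {L' : Type u} [CommRing L'] [IsLocalRing L'] (φ : L →+* L') [IsLocalHom φ] (F : Fact π x)
    (G : Fact π y) : (F.map φ).expr (G.map φ) = ResidueField.map φ (F.expr G) := by
  simp [expr, res, map, ResidueField.map_residue, map_mul, map_pow, map_inv₀]

end Fact

/-- Tame data on a given finite algebra. -/
structure Dat (B : Type u) [CommRing B] [Algebra R B] (x y : R) where
  π : ∀ M : MaximalSpectrum B, Localization.AtPrime M.asIdeal
  nzd : ∀ M, π M ∈ nonZeroDivisors (Localization.AtPrime M.asIdeal)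
  F : ∀ M, Fact (π M) (algebraMap R (Localization.AtPrime M.asIdeal) x)
  G : ∀ M, Fact (π M) (algebraMap R (Localization.AtPrime M.asIdeal) y)

variable {B : Type u} [CommRing B] [Algebra R B] [Module.Finite R B] {x y : R}

/-- The value of data. -/
noncomputable def Dat.val [Fintype (MaximalSpectrum B)] (D : Dat B x y) : ResidueField R :=
  ∏ M : MaximalSpectrum B, nrm R M.asIdeal ((D.F M).val (D.G M))

omit [IsNoetherianRing R] [Ring.KrullDimLE 1 R] in
theorem fact_eq_zero {L : Type u} [CommRing L] [IsLocalRing L] {π z : L} (hu : ¬IsUnit π) (hz : IsUnit z)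
    (F : Fact π z) : F.e = 0 := by
  by_contra hne
  rw [F.fac] at hz
  exact hu ((isUnit_pow_iff hne).1 (isUnit_of_mul_isUnit_right hz))

omit [IsNoetherianRing R] [Ring.KrullDimLE 1 R] in
theorem Dat.val_units [Fintype (MaximalSpectrum B)] (D : Dat B x y) (hx : IsUnit x) (hy : IsUnit y) : D.val = 1 := by
  refine Finset.prod_eq_one fun M _ => ?_
  by_cases hu : IsUnit (D.π M)
  · rw [Fact.val_of_isUnit hu, map_one]
  · rw [Fact.val, Fact.expr, fact_eq_zero hu (hx.map _) (D.F M), fact_eq_zero hu (hy.map _) (D.G M)]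
    simp

omit [IsNoetherianRing R] [Ring.KrullDimLE 1 R] in
theorem Dat.val_ne_zero [Fintype (MaximalSpectrum B)] (D : Dat B x y) : D.val ≠ 0 :=
  Finset.prod_ne_zero_iff.2 fun M _ => nrm_ne_zero M.asIdeal (Fact.val_ne_zero _ _)

section push

variable [Fintype (MaximalSpectrum B)]

omit [IsNoetherianRing R] [Ring.KrullDimLE 1 R] in
theorem Dat.val_eq_of_common (D E : Dat B x y)
    (γ : ∀ M : MaximalSpectrum B, Localization.AtPrime M.asIdeal)
    (hγ : ∀ M, γ M ∈ nonZeroDivisors (Localization.AtPrime M.asIdeal))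
    (P : ∀ M, Fact (γ M) (D.π M)) (P' : ∀ M, Fact (γ M) (E.π M)) : D.val = E.val := by
  refine Finset.prod_congr rfl fun M _ => ?_
  rw [← Fact.val_push (D.nzd M) (D.F M) (D.G M) (P M), ← Fact.val_push (E.nzd M) (E.F M) (E.G M) (P' M)]
  exact congrArg _ (Fact.val_congr (hγ M) _ _ _ _)

end push

variable {a : R} {Q : Type u} [CommRing Q] [Algebra R Q]

section map

variable {B' : Type u} [CommRing B'] [Algebra R B'] [Module.Finite R B']

/-- Pullback of data to a larger extension. -/
noncomputable def Dat.map (hQ : IsAmb Q a) (ι' : B' →ₐ[R] Q) (hι' : Function.Injective ι') (φ : B →ₐ[R] B')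
    (hφ : Function.Injective φ) (D : Dat B x y) : Dat B' x y where
  π M' := locMap φ M' (D.π (below φ M'))
  nzd M' := nzd_locMap hQ ι' hι' φ hφ M' (D.nzd _)
  F M' := ((D.F (below φ M')).map (locMap φ M')).cast (locMap_algebraMap' φ M' x)
  G M' := ((D.G (below φ M')).map (locMap φ M')).cast (locMap_algebraMap' φ M' y)

theorem Dat.val_map [Fintype (MaximalSpectrum B)] [Fintype (MaximalSpectrum B')] (hQ : IsAmb Q a) (ι' : B' →ₐ[R] Q)
    (hι' : Function.Injective ι') (φ : B →ₐ[R] B') (hφ : Function.Injective φ) (D : Dat B x y) :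
    (D.map hQ ι' hι' φ hφ).val = D.val := by
  have := nrm_fiber hQ ι' hι' φ hφ D.π D.nzd (fun M => (D.F M).expr (D.G M))
  refine Eq.trans ?_ this
  refine Finset.prod_congr rfl fun M' _ => ?_
  rw [← Fact.expr_map]
  rfl

end map

omit [Module.Finite R B] [IsNoetherianRing R] [Ring.KrullDimLE 1 R] in
/-- The inclusion into a subalgebra containing the range. -/
theorem exists_into {ι : B →ₐ[R] Q} (hι : Function.Injective ι) {T : Subalgebra R Q} (h : ι.range ≤ T) :
    ∃ φ : B →ₐ[R] T, Function.Injective φ ∧ ∀ z, (φ z : Q) = ι z :=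
  ⟨(Subalgebra.inclusion h).comp ι.rangeRestrict, fun p q hpq => hι (congrArg Subtype.val hpq : _), fun _ => rfl⟩

theorem range_fg {ι : B →ₐ[R] Q} (hι : Function.Injective ι) : ι.range.toSubmodule.FG :=
  Module.Finite.iff_fg.1 (Module.Finite.equiv (AlgEquiv.ofInjective ι hι).toLinearEquiv)

/-- Two families of parameters become powers of one family after an extension. -/
theorem exists_refinement (hQ : IsAmb Q a) {T₀ : Subalgebra R Q} (hT₀ : T₀.toSubmodule.FG)
    (π π' : ∀ M : MaximalSpectrum T₀, Localization.AtPrime M.asIdeal)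
    (hπ : ∀ M, π M ∈ nonZeroDivisors (Localization.AtPrime M.asIdeal))
    (hπ' : ∀ M, π' M ∈ nonZeroDivisors (Localization.AtPrime M.asIdeal)) :
    ∃ (T : Subalgebra R Q) (hle : T₀ ≤ T), T.toSubmodule.FG ∧ ∀ M' : MaximalSpectrum T,
      ∀ (_ : Module.Finite R T₀) (_ : Module.Finite R T),
      ∃ γ ∈ nonZeroDivisors (Localization.AtPrime M'.asIdeal),
        Nonempty (Fact γ (locMap (Subalgebra.inclusion hle) M' (π (below _ M')))) ∧
        Nonempty (Fact γ (locMap (Subalgebra.inclusion hle) M' (π' (below _ M')))) := by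
  classical
  have : Module.Finite R T₀ := Module.Finite.iff_fg.2 hT₀
  have := finite_maximalSpectrum (R := R) (S := T₀)
  have := Fintype.ofFinite (MaximalSpectrum T₀)
  choose g hg hga _ using fun M => exists_lift hQ T₀.val Subtype.val_injective M.asIdeal (hπ M)
  choose g' hg' hga' _ using fun M => exists_lift hQ T₀.val Subtype.val_injective M.asIdeal (hπ' M)
  set G : Finset Q := (univ.image fun M => (g M : Q)) ∪ (univ.image fun M => (g' M : Q))
  have hG : ∀ z ∈ G, z ∈ T₀ ∧ IsUnit z := fun z hz => by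
    rcases Finset.mem_union.1 hz with hz | hz <;> obtain ⟨M, -, rfl⟩ := Finset.mem_image.1 hz
    exacts [⟨(g M).2, hg M⟩, ⟨(g' M).2, hg' M⟩]
  obtain ⟨T, hle, hT, hb⟩ := hQ.exists_local_base T₀ hT₀ G hG
  refine ⟨T, hle, hT, fun M' _ _ => ?_⟩
  obtain ⟨γ, hγ, hfac⟩ := hb M'.asIdeal
  set φ := Subalgebra.inclusion hle
  refine ⟨γ, hγ, ?_, ?_⟩
  · obtain ⟨⟨u, e, he⟩⟩ := hfac _ (Finset.mem_union_left _ (Finset.mem_image_of_mem (fun M => (g M : Q)) (mem_univ (below φ M'))))
    obtain ⟨v, hv⟩ := hga (below φ M')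
    have hv' : π (below φ M') = algebraMap T₀ _ (g (below φ M')) * ((v⁻¹ : (Localization.AtPrime (below φ M').asIdeal)ˣ) : Localization.AtPrime (below φ M').asIdeal) := by
      rw [← hv, Units.mul_inv_cancel_right]
    refine ⟨⟨u * Units.map (locMap φ M').toMonoidHom v⁻¹, e, ?_⟩⟩
    rw [hv', map_mul, locMap_algebraMap, Units.val_mul, mul_right_comm, ← he]
    rfl
  · obtain ⟨⟨u, e, he⟩⟩ := hfac _ (Finset.mem_union_right _ (Finset.mem_image_of_mem (fun M => (g' M : Q)) (mem_univ (below φ M'))))
    obtain ⟨v, hv⟩ := hga' (below φ M')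
    have hv' : π' (below φ M') = algebraMap T₀ _ (g' (below φ M')) * ((v⁻¹ : (Localization.AtPrime (below φ M').asIdeal)ˣ) : Localization.AtPrime (below φ M').asIdeal) := by
      rw [← hv, Units.mul_inv_cancel_right]
    refine ⟨⟨u * Units.map (locMap φ M').toMonoidHom v⁻¹, e, ?_⟩⟩
    rw [hv', map_mul, locMap_algebraMap, Units.val_mul, mul_right_comm, ← he]
    rfl

variable {B' : Type u} [CommRing B'] [Algebra R B'] [Module.Finite R B']

/-- Independence of choices. -/
theorem Dat.val_eq [Fintype (MaximalSpectrum B)] [Fintype (MaximalSpectrum B')] (hQ : IsAmb Q a)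
    (ι : B →ₐ[R] Q) (hι : Function.Injective ι) (ι' : B' →ₐ[R] Q) (hι' : Function.Injective ι')
    (D : Dat B x y) (D' : Dat B' x y) : D.val = D'.val := by
  set T₀ := ι.range ⊔ ι'.range
  have hT₀ : T₀.toSubmodule.FG := fg_sup (range_fg hι) (range_fg hι')
  have : Module.Finite R T₀ := Module.Finite.iff_fg.2 hT₀
  have := finite_maximalSpectrum (R := R) (S := T₀)
  have := Fintype.ofFinite (MaximalSpectrum T₀)
  obtain ⟨φ, hφ, -⟩ := exists_into hι (T := T₀) le_sup_left
  obtain ⟨φ', hφ', -⟩ := exists_into hι' (T := T₀) le_sup_right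
  let E := D.map hQ T₀.val Subtype.val_injective φ hφ
  let E' := D'.map hQ T₀.val Subtype.val_injective φ' hφ'
  rw [← Dat.val_map hQ T₀.val Subtype.val_injective φ hφ D, ← Dat.val_map hQ T₀.val Subtype.val_injective φ' hφ' D']
  obtain ⟨T, hle, hT, hγ⟩ := exists_refinement hQ hT₀ E.π E'.π E.nzd E'.nzd
  have : Module.Finite R T := Module.Finite.iff_fg.2 hT
  have := finite_maximalSpectrum (R := R) (S := T)
  have := Fintype.ofFinite (MaximalSpectrum T)
  choose γ hγ' hP hP' using fun M' => hγ M' ‹_› ‹_›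
  have hi : Function.Injective (Subalgebra.inclusion hle) := Subalgebra.inclusion_injective hle
  rw [← Dat.val_map hQ T.val Subtype.val_injective _ hi E, ← Dat.val_map hQ T.val Subtype.val_injective _ hi E']
  exact Dat.val_eq_of_common _ _ γ hγ' (fun M => (hP M).some) fun M => (hP' M).some

/-! ### Comparison with `CycAlg.TameData` -/

/-- Data from tame data. -/
def datOf (D : CycAlg.TameData R x y) : Dat D.B x y :=
  ⟨D.π, D.π_mem, fun q => ⟨D.u₁ q, D.e₁ q, D.fac₁ q⟩, fun q => ⟨D.u₂ q, D.e₂ q, D.fac₂ q⟩⟩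

omit [IsNoetherianRing R] [Ring.KrullDimLE 1 R] in
theorem value_eq (D : CycAlg.TameData R x y) [Module.Finite R D.B] [Fintype (MaximalSpectrum D.B)] :
    D.value = (datOf D).val := by
  rw [CycAlg.TameData.value, finprod_eq_prod_of_fintype]
  refine Finset.prod_congr rfl fun q _ => ?_
  rw [Fact.val, map_pow]
  rfl

theorem value_units (D : CycAlg.TameData R x y) (hx : IsUnit x) (hy : IsUnit y) : D.value = 1 := by
  have := D.isFinExt.2.1
  have := finite_maximalSpectrum (R := R) (S := D.B)
  have := Fintype.ofFinite (MaximalSpectrum D.B)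
  rw [value_eq, Dat.val_units _ hx hy]

theorem exists_embed_of_killed (hQ : IsAmb Q a) (hB : CycAlg.IsFinExt R B (maximalIdeal R))
    (hreg : ∀ z : B, algebraMap R B a * z = 0 → z = 0) : ∃ ι : B →ₐ[R] Q, Function.Injective ι := by
  obtain ⟨hinj, -, n, hn⟩ := hB
  have hmem : a ^ n ∈ maximalIdeal R ^ n := Ideal.pow_mem_pow hQ.mem n
  choose r hr using fun z : B => hn _ hmem z
  set an := algebraMap R Q a ^ n with han
  obtain ⟨w, hw⟩ := (hQ.unit.pow n)
  have hreg' : ∀ (k : ℕ) (z : B), algebraMap R B a ^ k * z = 0 → z = 0 := by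
    intro k
    induction k with
    | zero => simp
    | succ k ih => intro z hz; exact ih z (hreg _ (by rw [← mul_assoc, ← pow_succ', hz]))
  let f : B → Q := fun z => ((w⁻¹ : Qˣ) : Q) * algebraMap R Q (r z)
  have key : ∀ (z : B) (s : R), algebraMap R B a ^ n * z = algebraMap R B s → r z = s := fun z s h => by
    refine hinj ?_
    rw [hr z, Algebra.smul_def, map_pow, h]
  have hrz : ∀ z, algebraMap R B (r z) = algebraMap R B a ^ n * z := fun z => by rw [hr z, Algebra.smul_def, map_pow]
  have hc : ∀ s : R, f (algebraMap R B s) = algebraMap R Q s := fun s => by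
    simp only [f]
    rw [key _ (a ^ n * s) (by rw [map_mul, map_pow]), map_mul, map_pow, ← hw, Units.inv_mul_cancel_left]
  let ι : B →ₐ[R] Q :=
    { toFun := f
      map_one' := by have := hc 1; rwa [map_one, map_one] at this
      map_zero' := by have := hc 0; rwa [map_zero, map_zero] at this
      map_add' := fun p q => by
        simp only [f]
        rw [key (p + q) (r p + r q) (by rw [map_add, hrz, hrz, mul_add]), map_add, mul_add]
      map_mul' := fun p q => by
        simp only [f]
        have h1 : a ^ n * r (p * q) = r p * r q := hinj (by rw [map_mul, map_mul, map_pow, hrz, hrz, hrz]; ring)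
        refine (Units.isUnit w).mul_left_cancel ((Units.isUnit w).mul_left_cancel ?_)
        calc (w : Q) * (w * (((w⁻¹ : Qˣ) : Q) * algebraMap R Q (r (p * q))))
            = w * algebraMap R Q (r (p * q)) := by rw [Units.mul_inv_cancel_left]
          _ = algebraMap R Q (r p) * algebraMap R Q (r q) := by rw [hw, ← map_pow, ← map_mul, h1, map_mul]
          _ = (w * ((w⁻¹ : Qˣ) : Q)) * (w * ((w⁻¹ : Qˣ) : Q)) * (algebraMap R Q (r p) * algebraMap R Q (r q)) := by
            rw [Units.mul_inv]; ring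
          _ = _ := by ring
      commutes' := hc }
  refine ⟨ι, fun p q h => ?_⟩
  have h' : r p = r q := hQ.inj ((Units.isUnit w⁻¹).mul_left_cancel h)
  exact sub_eq_zero.1 (hreg' n _ (by rw [mul_sub, ← hrz, ← hrz, h', sub_self]))

theorem exists_embed (hQ : IsAmb Q a) (D : CycAlg.TameData R x y) (hxy : a = x ∨ a = y) :
    ∃ ι : D.B →ₐ[R] Q, Function.Injective ι := by
  have : Module.Finite R D.B := D.isFinExt.2.1
  refine exists_embed_of_killed hQ D.isFinExt fun z hz => ?_
  by_contra hne
  have htop : (Submodule.colon (⊥ : Ideal D.B) {z}) ≠ ⊤ := fun h => hne (by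
    have := (Ideal.eq_top_iff_one _).1 h
    rwa [Submodule.mem_colon_singleton, one_smul, Submodule.mem_bot] at this)
  obtain ⟨N, hN, hle⟩ := Ideal.exists_le_maximal _ htop
  have h0 : algebraMap D.B (Localization.AtPrime N) z * algebraMap R (Localization.AtPrime N) a = 0 := by
    rw [IsScalarTower.algebraMap_apply R D.B, ← map_mul, mul_comm, hz, map_zero]
  have ha : algebraMap R (Localization.AtPrime N) a ∈ nonZeroDivisors (Localization.AtPrime N) := by
    have h1 := D.π_mem ⟨N, hN⟩
    rcases hxy with rfl | rfl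
    · rw [D.fac₁ ⟨N, hN⟩]; exact mul_mem (Units.isUnit _).mem_nonZeroDivisors (pow_mem h1 _)
    · rw [D.fac₂ ⟨N, hN⟩]; exact mul_mem (Units.isUnit _).mem_nonZeroDivisors (pow_mem h1 _)
  obtain ⟨u, hu⟩ := (IsLocalization.map_eq_zero_iff N.primeCompl _ _).1 ((mem_nonZeroDivisors_iff_right.1 ha) _ h0)
  exact u.2 (hle (Submodule.mem_colon_singleton.2 (by rw [smul_eq_mul]; exact hu)))

/-- Tame data from data in an embedded finite extension. -/
noncomputable def toTameData (hQ : IsAmb Q a) {T : Subalgebra R Q} (hT : T.toSubmodule.FG) (E : Dat T x y) :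
    CycAlg.TameData R x y where
  B := T
  isFinExt := hQ.isFinExt hT
  isLocalHom q :=
    have : Module.Finite R T := Module.Finite.iff_fg.2 hT
    isLocalHom_atPrime q.asIdeal
  π := E.π
  π_mem := E.nzd
  u₁ q := (E.F q).u
  u₂ q := (E.G q).u
  e₁ q := (E.F q).e
  e₂ q := (E.G q).e
  fac₁ q := (E.F q).fac
  fac₂ q := (E.G q).fac

/-- The tame symbol is the value of any data in an embedded finite extension. -/
theorem tameSymbol_eq_val [Fintype (MaximalSpectrum B)] (hQ : IsAmb Q a) (hx : x ∈ nonZeroDivisors R)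
    (hy : y ∈ nonZeroDivisors R) (ι : B →ₐ[R] Q) (hι : Function.Injective ι) (E : Dat B x y) :
    CycAlg.tameSymbol R x y = E.val := by
  by_cases hu : IsUnit x ∧ IsUnit y
  · rw [Dat.val_units E hu.1 hu.2, CycAlg.tameSymbol]
    split_ifs with h
    · exact value_units _ hu.1 hu.2
    · rfl
  obtain ⟨c, hc, hcxy⟩ : ∃ c ∈ maximalIdeal R, c = x ∨ c = y := by
    simp only [not_and_or] at hu
    rcases hu with h | h
    exacts [⟨x, h, Or.inl rfl⟩, ⟨y, h, Or.inr rfl⟩]
  have hcn : c ∈ nonZeroDivisors R := by rcases hcxy with rfl | rfl <;> assumption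
  have hQc : IsAmb Q c :=
    { mem := hc
      nzd := hcn
      inj := hQ.inj
      unit := hQ.isUnit_of_nzd hcn
      clear := fun z => by
        obtain ⟨k, r, hr⟩ := hQ.clear z
        obtain ⟨n, hn⟩ := exists_pow_le_span (pow_mem hQ.nzd k)
        obtain ⟨d, hd⟩ := Ideal.mem_span_singleton'.1 (hn (Ideal.pow_mem_pow hc n))
        exact ⟨n, d * r, by rw [← map_pow, ← hd, map_mul, map_pow, map_mul, mul_assoc, hr]⟩ }
  set T₀ := ι.range
  have hT₀ : T₀.toSubmodule.FG := range_fg hι
  have : Module.Finite R T₀ := Module.Finite.iff_fg.2 hT₀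
  obtain ⟨φ, hφ, -⟩ := exists_into hι (T := T₀) le_rfl
  let E₀ := E.map hQ T₀.val Subtype.val_injective φ hφ
  rw [CycAlg.tameSymbol, dif_pos ⟨toTameData hQ hT₀ E₀⟩]
  generalize Classical.choice (⟨toTameData hQ hT₀ E₀⟩ : Nonempty _) = D
  obtain ⟨j, hj⟩ := exists_embed hQc D hcxy
  have := D.isFinExt.2.1
  have := finite_maximalSpectrum (R := R) (S := D.B)
  have := Fintype.ofFinite (MaximalSpectrum D.B)
  rw [value_eq]
  exact Dat.val_eq hQ j hj ι hι _ _

theorem tameSymbol_units (hx : IsUnit x) (hy : IsUnit y) : CycAlg.tameSymbol R x y = 1 := by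
  rw [CycAlg.tameSymbol]
  split_ifs with h
  · exact value_units _ hx hy
  · rfl

/-- Any two choices of tame data have the same value. -/
theorem tameData_value_eq (hx : x ∈ nonZeroDivisors R) (hy : y ∈ nonZeroDivisors R)
    (D D' : CycAlg.TameData R x y) : D.value = D'.value := by
  by_cases hu : IsUnit x ∧ IsUnit y
  · rw [value_units D hu.1 hu.2, value_units D' hu.1 hu.2]
  obtain ⟨c, hc, hcxy⟩ : ∃ c ∈ maximalIdeal R, c = x ∨ c = y := by
    simp only [not_and_or] at hu
    rcases hu with h | h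
    exacts [⟨x, h, Or.inl rfl⟩, ⟨y, h, Or.inr rfl⟩]
  have hcn : c ∈ nonZeroDivisors R := by rcases hcxy with rfl | rfl <;> assumption
  have hQ : IsAmb (Localization.Away c) c := isAmb_away hcn hc
  obtain ⟨j, hj⟩ := exists_embed hQ D hcxy
  obtain ⟨j', hj'⟩ := exists_embed hQ D' hcxy
  have := D.isFinExt.2.1
  have := D'.isFinExt.2.1
  have := finite_maximalSpectrum (R := R) (S := D.B)
  have := Fintype.ofFinite (MaximalSpectrum D.B)
  have := finite_maximalSpectrum (R := R) (S := D'.B)
  have := Fintype.ofFinite (MaximalSpectrum D'.B)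
  rw [value_eq, value_eq]
  exact Dat.val_eq hQ j hj j' hj' _ _

end Groth.MilnorKLambda.Amb
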