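import Groth.Agent.MilnorKLambda.Tame1.Base
import Mathlib.RingTheory.LocalProperties.Basic
import Mathlib.RingTheory.SimpleModule.Basic

/-!
# Lengths over a semilocal finite algebra
-/

set_option autoImplicit false
universe u v

open IsLocalRing Finset

namespace Groth.MilnorKLambda.Amb

variable {R : Type u} [CommRing R] {S : Type u} [CommRing S] [Algebra R S]

/-- The length over the localisation of a quotient by an element. -/
theorem lq_quot_span (M : Ideal S) [M.IsMaximal] (g : S) :
    Per.lq M (S ⧸ Ideal.span {g}) = Ring.ord (Localization.AtPrime M) (algebraMap S (Localization.AtPrime M) g) := by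
  let L := Localization.AtPrime M
  let f := (Ideal.span {g}).toLocalizedQuotient' L M.primeCompl (Algebra.linearMap S L)
  have e := ((IsLocalizedModule.iso M.primeCompl f).extendScalarsOfIsLocalization M.primeCompl L).length_eq
  rw [Per.lq, e, Ring.ord]
  refine (Submodule.quotEquivOfEq _ _ ?_).length_eq
  rw [Ideal.localized'_eq_map, Ideal.map_span, Set.image_singleton]

theorem lq_simple (M P : Ideal S) [M.IsMaximal] [P.IsMaximal] :
    Per.lq M (S ⧸ P) = if M = P then 1 else 0 := by
  split_ifs with h
  · subst h; exact Per.lq_quot_self M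
  · refine Per.lq_eq_zero_of_notMem M fun hmem => h ?_
    rw [Module.support_eq_zeroLocus, Ideal.annihilator_quotient] at hmem
    exact (Ideal.IsMaximal.eq_of_le ‹P.IsMaximal› (Ideal.IsMaximal.ne_top ‹M.IsMaximal›) hmem).symm

variable [Fintype (MaximalSpectrum S)]

theorem length_decomp_aux (X : Type u) [AddCommGroup X] [Module S X] (hX : IsFiniteLength S X) :
    ∀ [Module R X] [IsScalarTower R S X], Module.length R X =
      ∑ M : MaximalSpectrum S, Module.length R (S ⧸ M.asIdeal) * Per.lq M.asIdeal X := by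
  classical
  induction hX with
  | of_subsingleton =>
    intro _ _
    rw [Module.length_eq_zero, Finset.sum_eq_zero fun M _ => ?_]
    rw [Per.lq_eq_zero_of_notMem _ (by simp [Module.support_eq_empty]), mul_zero]
  | @of_simple_quotient X _ _ N _ _ ih =>
    intro _ _
    have e1 := Module.length_eq_add_of_exact (N.subtype.restrictScalars R) (N.mkQ.restrictScalars R)
      N.injective_subtype N.mkQ_surjective (LinearMap.exact_subtype_mkQ N)
    have e2 : ∀ M : MaximalSpectrum S, Per.lq M.asIdeal X = Per.lq M.asIdeal N + Per.lq M.asIdeal (X ⧸ N) :=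
      fun M => Per.lq_add _ N.injective_subtype N.mkQ_surjective (LinearMap.exact_subtype_mkQ N)
    obtain ⟨P, hP, ⟨e⟩⟩ := isSimpleModule_iff_quot_maximal.1 ‹IsSimpleModule S (X ⧸ N)›
    rw [e1, @ih _ _, (e.restrictScalars R).length_eq]
    simp only [e2, mul_add, Finset.sum_add_distrib]
    congr 1
    rw [Finset.sum_eq_single (⟨P, hP⟩ : MaximalSpectrum S)]
    · rw [Per.lq_congr P e, Per.lq_quot_self, mul_one]
    · intro M _ hM
      rw [Per.lq_congr _ e, lq_simple, if_neg fun h => hM (MaximalSpectrum.ext h), mul_zero]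
    · exact fun h => absurd (Finset.mem_univ _) h

/-- `length_R (S/gS) = ∑ [S/M : R] ord_{S_M} g`. -/
theorem length_quot_decomp (g : S) (hg : Module.length R (S ⧸ Ideal.span {g}) ≠ ⊤) :
    Module.length R (S ⧸ Ideal.span {g}) = ∑ M : MaximalSpectrum S,
      Module.length R (S ⧸ M.asIdeal) * Ring.ord (Localization.AtPrime M.asIdeal) (algebraMap S _ g) := by
  rw [Module.length_ne_top_iff, isFiniteLength_iff_isNoetherian_isArtinian] at hg
  rw [length_decomp_aux _ (isFiniteLength_iff_isNoetherian_isArtinian.2
    ⟨isNoetherian_of_tower (S := S) R hg.1, isArtinian_of_tower (S := S) R hg.2⟩)]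
  exact Finset.sum_congr rfl fun M _ => by rw [lq_quot_span]

omit [Fintype (MaximalSpectrum S)] in
variable {Q : Type u} [CommRing Q] [Algebra R Q] in
theorem ell_eq_length (T : Subalgebra R Q) {g : Q} (hg : g ∈ T) :
    ell T g = Module.length R (T ⧸ Ideal.span {(⟨g, hg⟩ : T)}) := by
  let e : T.toSubmodule ≃ₗ[R] T := Subalgebra.toSubmoduleEquiv T
  have he : ((T.toSubmodule.map (LinearMap.mulLeft R g)).submoduleOf T.toSubmodule).map e.toLinearMap =
      (Ideal.span {(⟨g, hg⟩ : T)}).restrictScalars R := by
    ext x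
    simp only [Submodule.mem_map, Submodule.restrictScalars_mem, Ideal.mem_span_singleton', Submodule.mem_comap]
    constructor
    · rintro ⟨⟨y, hy⟩, ⟨z, hz, hzy⟩, rfl⟩
      refine ⟨⟨z, hz⟩, Subtype.ext ?_⟩
      change z * g = y
      rw [mul_comm]; exact hzy
    · rintro ⟨⟨z, hz⟩, rfl⟩
      exact ⟨⟨z * g, T.mul_mem hz hg⟩, ⟨z, hz, mul_comm g z⟩, rfl⟩
  exact (Submodule.Quotient.equiv _ _ e he).length_eq.trans
    (Submodule.Quotient.restrictScalarsEquiv R _).length_eq

end Groth.MilnorKLambda.Amb
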