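import Groth.Agent.MilnorKLambda.Tame1.Value
import Mathlib.LinearAlgebra.Determinant
import Mathlib.LinearAlgebra.TensorProduct.Quotient
import Mathlib.RingTheory.Flat.Stability
import Mathlib.RingTheory.Flat.Localization
import Mathlib.RingTheory.TensorProduct.Quotient

/-!
# Determinants of multiplications and lengths at the maximal ideals
-/

set_option autoImplicit false
universe u

open IsLocalRing TensorProduct

namespace Groth.MilnorKLambda.Amb

attribute [local instance] isLocalHom_atPrime

theorem det_conj_equiv {k V W : Type u} [Field k] [AddCommGroup V] [Module k V] [AddCommGroup W] [Module k W]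
    (e : V ≃ₗ[k] W) (f : V →ₗ[k] V) (g : W →ₗ[k] W) (h : ∀ v, e (f v) = g (e v)) : LinearMap.det f = LinearMap.det g := by
  have : g = e.toLinearMap ∘ₗ f ∘ₗ e.symm.toLinearMap := LinearMap.ext fun w => by simp [h]
  rw [this, LinearMap.det_conj]

theorem toNat_add' {a b : ℕ∞} (ha : a ≠ ⊤) (hb : b ≠ ⊤) : (a + b).toNat = a.toNat + b.toNat :=
  ENat.toNat_add ha hb

variable {R : Type u} [CommRing R] [IsLocalRing R] {T : Type u} [CommRing T] [Algebra R T] [Module.Finite R T]

/-- The length after localising at a maximal ideal. -/
noncomputable def locLen (P : Ideal T) [P.IsPrime] (V : Type u) [AddCommGroup V] [Module T V] : ℕ∞ :=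
  Module.length (Localization.AtPrime P) (Localization.AtPrime P ⊗[T] V)

omit [IsLocalRing R] [Module.Finite R T] in
theorem locLen_exact (P : Ideal T) [P.IsPrime] {U V W : Type u} [AddCommGroup U] [Module T U] [AddCommGroup V]
    [Module T V] [AddCommGroup W] [Module T W] (f : U →ₗ[T] V) (g : V →ₗ[T] W) (hf : Function.Injective f)
    (hg : Function.Surjective g) (h : Function.Exact f g) : locLen P V = locLen P U + locLen P W := by
  let L := Localization.AtPrime P
  have : Module.Flat T L := IsLocalization.flat L P.primeCompl
  exact Module.length_eq_add_of_exact (AlgebraTensorModule.lTensor L L f) (AlgebraTensorModule.lTensor L L g)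
    (Module.Flat.lTensor_preserves_injective_linearMap f hf) (LinearMap.lTensor_surjective L hg) (lTensor_exact L h hg)

omit [IsLocalRing R] [Module.Finite R T] in
theorem locLen_quot (P : Ideal T) [P.IsPrime] (J : Ideal T) :
    locLen P (T ⧸ J) = Module.length (Localization.AtPrime P)
      (Localization.AtPrime P ⧸ J.map (algebraMap T (Localization.AtPrime P))) :=
  (Algebra.TensorProduct.quotIdealMapEquivTensorQuot (Localization.AtPrime P) J).toLinearEquiv.length_eq.symm

omit [IsLocalRing R] [Module.Finite R T] in
theorem locLen_congr (P : Ideal T) [P.IsPrime] {U V : Type u} [AddCommGroup U] [Module T U] [AddCommGroup V]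
    [Module T V] (e : U ≃ₗ[T] V) : locLen P U = locLen P V :=
  (AlgebraTensorModule.congr (LinearEquiv.refl (Localization.AtPrime P) (Localization.AtPrime P)) e).length_eq

omit [IsLocalRing R] [Module.Finite R T] in
theorem locLen_subsingleton (P : Ideal T) [P.IsPrime] (U : Type u) [AddCommGroup U] [Module T U] [Subsingleton U] :
    locLen P U = 0 := Module.length_eq_zero

omit [IsLocalRing R] [Module.Finite R T] in
theorem locLen_maximal_self (P : Ideal T) [P.IsMaximal] : locLen P (T ⧸ P) = 1 := by
  rw [locLen_quot, Localization.AtPrime.map_eq_maximalIdeal, Module.length_eq_one_iff,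
    isSimpleModule_iff_isCoatom, ← Ideal.isMaximal_def]
  exact maximalIdeal.isMaximal _

omit [IsLocalRing R] [Module.Finite R T] in
theorem locLen_maximal_ne (P Q : Ideal T) [P.IsPrime] [hQ : Q.IsMaximal] (hP : P.IsMaximal) (h : Q ≠ P) :
    locLen P (T ⧸ Q) = 0 := by
  obtain ⟨q, hq, hqP⟩ := Set.not_subset.1 fun hs : (Q : Set T) ⊆ P => h (hQ.eq_of_le hP.ne_top hs)
  have : Q.map (algebraMap T (Localization.AtPrime P)) = ⊤ := Ideal.eq_top_of_isUnit_mem _ (Ideal.mem_map_of_mem _ hq)
    ((IsLocalization.AtPrime.isUnit_to_map_iff _ P q).2 hqP)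
  rw [locLen_quot, this]
  exact Module.length_eq_zero

variable [Fintype (MaximalSpectrum T)]

theorem det_eq_prod_aux (x : T) : ∀ (n : ℕ) (V : Type u) [AddCommGroup V] [Module R V] [Module T V] [IsScalarTower R T V]
    [Module (ResidueField R) V] [IsScalarTower R (ResidueField R) V] [Module.Finite (ResidueField R) V],
    Module.finrank (ResidueField R) V ≤ n → ∀ (f : V →ₗ[ResidueField R] V), (∀ v, f v = x • v) →
      (∀ P : MaximalSpectrum T, locLen P.asIdeal V ≠ ⊤) ∧
      LinearMap.det f = ∏ P : MaximalSpectrum T, nrm R P.asIdeal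
        (residue _ (algebraMap T (Localization.AtPrime P.asIdeal) x)) ^ (locLen P.asIdeal V).toNat := by
  classical
  intro n
  induction n with
  | zero =>
    intro V _ _ _ _ _ _ _ hV f hf
    have : Subsingleton V := Module.finrank_zero_iff.1 (Nat.le_zero.1 hV)
    refine ⟨fun P => by rw [locLen_subsingleton]; exact ENat.zero_ne_top, ?_⟩
    rw [LinearMap.det_eq_one_of_finrank_eq_zero (Nat.le_zero.1 hV), Finset.prod_eq_one fun P _ => ?_]
    rw [locLen_subsingleton, ENat.toNat_zero, pow_zero]
  | succ n ih =>
    intro V _ _ _ _ _ _ _ hV f hf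
    rcases subsingleton_or_nontrivial V with hs | hnt
    · exact ih V ((Module.finrank_zero_of_subsingleton).le.trans (Nat.zero_le _)) f hf
    have : Module.Finite R V := Module.Finite.trans (ResidueField R) V
    have : Module.Finite T V := Module.Finite.of_restrictScalars_finite R T V
    obtain ⟨W, hW, -⟩ := (eq_top_or_exists_le_coatom (⊥ : Submodule T V)).resolve_left bot_ne_top
    have hsimple : IsSimpleModule T (V ⧸ W) := isSimpleModule_iff_isCoatom.2 hW
    obtain ⟨P₀, hP₀, ⟨e⟩⟩ := isSimpleModule_iff_quot_maximal.1 hsimple
    -- the residue field vector spaces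
    have hsmul : ∀ (c : ResidueField R) (v : V) (r : R), residue R r = c → c • v = algebraMap R T r • v := by
      rintro c v r rfl
      rw [algebraMap_smul, ← IsScalarTower.algebraMap_smul (ResidueField R) r v]
      rfl
    let W' : Submodule (ResidueField R) V :=
      { W.toAddSubmonoid with
        smul_mem' := fun c v hv => by
          obtain ⟨r, hr⟩ := residue_surjective c
          rw [hsmul c v r hr]
          exact W.smul_mem _ hv }
    have hle : W' ≤ W'.comap f := fun v hv => by
      change f v ∈ W
      rw [hf]; exact W.smul_mem _ hv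
    rw [LinearMap.det_eq_det_mul_det W' f hle]
    have hWV : Module.finrank (ResidueField R) W' < Module.finrank (ResidueField R) V :=
      Submodule.finrank_lt fun h => hW.1 (Submodule.eq_top_iff'.2 fun v => (h ▸ Submodule.mem_top : v ∈ W'))
    let : Module T W' := inferInstanceAs (Module T W)
    let : Module R W' := Submodule.module' W'
    have : IsScalarTower R T W' := ⟨fun r t v => Subtype.ext (smul_assoc r t (v : V))⟩
    have : IsScalarTower R (ResidueField R) W' := ⟨fun r t v => Subtype.ext (smul_assoc r t (v : V))⟩
    obtain ⟨hWtop, hWdet⟩ := ih W' (Nat.le_of_lt_succ (hWV.trans_le hV)) (f.restrict hle) fun v => Subtype.ext (hf v)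
    have hex : ∀ P : MaximalSpectrum T, locLen P.asIdeal V = locLen P.asIdeal W' +
        if P₀ = P.asIdeal then 1 else 0 := fun P => by
      rw [locLen_exact P.asIdeal W.subtype W.mkQ W.subtype_injective W.mkQ_surjective
        (LinearMap.exact_subtype_mkQ W), locLen_congr P.asIdeal e]
      refine congrArg₂ _ rfl ?_
      split_ifs with h
      · have := P.isMaximal
        subst h
        exact locLen_maximal_self _
      · exact locLen_maximal_ne _ _ P.isMaximal h
    have htop : ∀ P : MaximalSpectrum T, (if P₀ = P.asIdeal then 1 else 0 : ℕ∞) ≠ ⊤ := fun P => by split_ifs <;> simp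
    refine ⟨fun P => by rw [hex P]; exact WithTop.add_ne_top.2 ⟨hWtop P, htop P⟩, ?_⟩
    let M₀ : MaximalSpectrum T := ⟨P₀, hP₀⟩
    simp only [hex, fun P => toNat_add' (hWtop P) (htop P), pow_add, Finset.prod_mul_distrib]
    rw [hWdet]
    congr 1
    rw [Finset.prod_eq_single M₀ (fun P _ hP => by
      rw [if_neg fun h => hP (MaximalSpectrum.ext h.symm), ENat.toNat_zero, pow_zero])
      (fun h => absurd (Finset.mem_univ _) h), if_pos rfl, ENat.toNat_one, pow_one]
    -- multiplication on the simple quotient
    let K := ResidueField (Localization.AtPrime P₀)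
    have hb := P₀.bijective_algebraMap_quotient_residueField
    let φ : (V ⧸ W') → K := fun v => algebraMap (T ⧸ P₀) K (e v)
    have hφ : Function.Bijective φ := hb.comp e.bijective
    let E : (V ⧸ W') ≃ₗ[ResidueField R] K :=
      LinearEquiv.ofBijective
        { toFun := φ
          map_add' := fun v w => by simp only [φ]; rw [← map_add, ← map_add]; rfl
          map_smul' := fun c v => by
            obtain ⟨r, hr⟩ := residue_surjective c
            induction v using Submodule.Quotient.induction_on with | _ v => ?_
            change algebraMap (T ⧸ P₀) K (e (W.mkQ (c • v))) = c • algebraMap (T ⧸ P₀) K (e (W.mkQ v))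
            rw [hsmul c v r hr, map_smul, map_smul, Algebra.smul_def, map_mul, ← hr, Algebra.smul_def,
              ← IsScalarTower.algebraMap_apply, ResidueField.algebraMap_residue]
            rfl } hφ
    rw [det_conj_equiv E _ (LinearMap.mulLeft (ResidueField R) (residue _ (algebraMap T (Localization.AtPrime P₀) x))) ?_]
    · exact (Algebra.norm_apply (ResidueField R) _).symm
    intro v
    induction v using Submodule.Quotient.induction_on with | _ v => ?_
    change algebraMap (T ⧸ P₀) K (e (W.mkQ (f v))) = _ * algebraMap (T ⧸ P₀) K (e (W.mkQ v))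
    rw [hf, map_smul, map_smul, Algebra.smul_def, map_mul, ← IsScalarTower.algebraMap_apply]
    rfl

/-- The determinant of multiplication by `x`. -/
theorem det_eq_prod (x : T) (V : Type u) [AddCommGroup V] [Module R V] [Module T V] [IsScalarTower R T V]
    [Module (ResidueField R) V] [IsScalarTower R (ResidueField R) V] [Module.Finite (ResidueField R) V]
    (f : V →ₗ[ResidueField R] V) (hf : ∀ v, f v = x • v) :
    LinearMap.det f = ∏ P : MaximalSpectrum T, nrm R P.asIdeal
      (residue _ (algebraMap T (Localization.AtPrime P.asIdeal) x)) ^ (locLen P.asIdeal V).toNat :=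
  (det_eq_prod_aux x _ V le_rfl f hf).2

end Groth.MilnorKLambda.Amb
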