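import Groth.Prelude.Def_Tame
import Mathlib.RingTheory.Ideal.Quotient.Operations
import Mathlib.Tactic.Ring
import Mathlib.Tactic.LinearCombination
import Mathlib.Tactic.FieldSimp

/-!
# Factorisations through one element of a local ring
-/

set_option autoImplicit false
universe u

open IsLocalRing

namespace Groth.MilnorKLambda.Amb

variable {L : Type u} [CommRing L] [IsLocalRing L]

/-- A factorisation `x = u π^e`. -/
structure Fact (π x : L) where
  u : Lˣ
  e : ℕ
  fac : x = (u : L) * π ^ e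

namespace Fact

variable {π x y z : L}

/-- The residue of the unit. -/
noncomputable def res (F : Fact π x) : ResidueField L := residue L (F.u : L)

theorem res_ne_zero (F : Fact π x) : F.res ≠ 0 := (residue_ne_zero_iff_isUnit _).2 F.u.isUnit

/-- product -/
def mul (F : Fact π x) (G : Fact π y) : Fact π (x * y) :=
  ⟨F.u * G.u, F.e + G.e, by conv_lhs => rw [F.fac, G.fac]
                            rw [Units.val_mul, pow_add]; ring⟩

/-- change of parameter -/
def push (F : Fact π x) {ρ : L} (P : Fact ρ π) : Fact ρ x :=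
  ⟨F.u * P.u ^ F.e, P.e * F.e, by rw [Units.val_mul, Units.val_pow_eq_pow_val, pow_mul, mul_assoc, ← mul_pow, ← P.fac, ← F.fac]⟩

/-- map -/
def map {L' : Type u} [CommRing L'] (φ : L →+* L') (F : Fact π x) : Fact (φ π) (φ x) :=
  ⟨Units.map φ.toMonoidHom F.u, F.e, by conv_lhs => rw [F.fac]
                                        simp⟩

theorem eq_of_not_isUnit (hπ : π ∈ nonZeroDivisors L) (hu : ¬ IsUnit π) (F G : Fact π x) :
    F.e = G.e ∧ F.u = G.u := by
  have key : ∀ (F G : Fact π x), F.e ≤ G.e → F.e = G.e ∧ F.u = G.u := by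
    intro F G h
    obtain ⟨d, hd⟩ := Nat.exists_eq_add_of_le h
    have h1 : (F.u : L) = G.u * π ^ d := by
      refine sub_eq_zero.1 ((mem_nonZeroDivisors_iff.1 (pow_mem hπ F.e)).2 _ ?_)
      rw [sub_mul, ← F.fac, mul_assoc, ← pow_add, add_comm d, ← hd, ← G.fac, sub_self]
    rcases Nat.eq_zero_or_pos d with rfl | hpos
    · exact ⟨by omega, Units.ext (by simpa using h1)⟩
    · exact absurd (isUnit_of_mul_isUnit_right (h1 ▸ F.u.isUnit : IsUnit ((G.u : L) * π ^ d))) fun h =>
        hu ((isUnit_pow_iff (by omega)).1 h)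
  rcases le_total F.e G.e with h | h
  · exact key F G h
  · exact ⟨(key G F h).1.symm, (key G F h).2.symm⟩

/-- `(-1)^(e₁e₂) u₁^e₂ u₂^(-e₁)` in the residue field. -/
noncomputable def expr (F : Fact π x) (G : Fact π y) : ResidueField L :=
  (-1) ^ (F.e * G.e) * F.res ^ G.e * (G.res ^ F.e)⁻¹

/-- The local tame value. -/
noncomputable def val (F : Fact π x) (G : Fact π y) : ResidueField L := F.expr G ^ (Ring.ord L π).toNat

theorem expr_ne_zero (F : Fact π x) (G : Fact π y) : F.expr G ≠ 0 :=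
  mul_ne_zero (mul_ne_zero (pow_ne_zero _ (neg_ne_zero.2 one_ne_zero)) (pow_ne_zero _ F.res_ne_zero))
    (inv_ne_zero (pow_ne_zero _ G.res_ne_zero))

theorem val_ne_zero (F : Fact π x) (G : Fact π y) : F.val G ≠ 0 := pow_ne_zero _ (F.expr_ne_zero G)

theorem val_of_isUnit (hu : IsUnit π) (F : Fact π x) (G : Fact π y) : F.val G = 1 := by
  rw [val, Ring.ord_of_isUnit hu, ENat.toNat_zero, pow_zero]

theorem val_congr (hπ : π ∈ nonZeroDivisors L) (F F' : Fact π x) (G G' : Fact π y) : F.val G = F'.val G' := by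
  by_cases hu : IsUnit π
  · rw [val_of_isUnit hu, val_of_isUnit hu]
  obtain ⟨h1, h2⟩ := eq_of_not_isUnit hπ hu F F'
  obtain ⟨h3, h4⟩ := eq_of_not_isUnit hπ hu G G'
  simp only [val, expr, res, h1, h2, h3, h4]

theorem expr_push (F : Fact π x) (G : Fact π y) {ρ : L} (P : Fact ρ π) :
    (F.push P).expr (G.push P) = F.expr G ^ P.e := by
  have h1 : (F.push P).res = F.res * P.res ^ F.e := by simp [res, push, map_mul, map_pow]
  have h2 : (G.push P).res = G.res * P.res ^ G.e := by simp [res, push, map_mul, map_pow]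
  have hs : ((-1 : ResidueField L) ^ (P.e * F.e * (P.e * G.e))) = ((-1) ^ (F.e * G.e)) ^ P.e := by
    rw [← pow_mul, neg_one_pow_eq_pow_mod_two, neg_one_pow_eq_pow_mod_two (n := F.e * G.e * P.e)]
    congr 1
    rw [show P.e * F.e * (P.e * G.e) = F.e * G.e * (P.e * P.e) by ring]
    simp [Nat.mul_mod, Nat.mod_two_eq_zero_or_one]
    rcases Nat.mod_two_eq_zero_or_one P.e with h | h <;> simp [h]
  change (-1 : ResidueField L) ^ (P.e * F.e * (P.e * G.e)) * (F.push P).res ^ (P.e * G.e) * ((G.push P).res ^ (P.e * F.e))⁻¹ = _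
  rw [hs, h1, h2, expr, mul_pow, mul_pow, ← pow_mul, ← pow_mul, mul_pow, mul_pow, inv_pow, ← pow_mul, ← pow_mul,
    ← pow_mul, ← pow_mul, show G.e * (P.e * F.e) = F.e * (P.e * G.e) by ring, mul_inv, mul_comm G.e P.e,
    mul_comm (F.e) P.e]
  have : P.res ^ (F.e * (P.e * G.e)) ≠ 0 := pow_ne_zero _ P.res_ne_zero
  field_simp

theorem val_push (hπ : π ∈ nonZeroDivisors L) (F : Fact π x) (G : Fact π y) {ρ : L} (P : Fact ρ π) :
    (F.push P).val (G.push P) = F.val G := by
  have hρ : ρ ^ P.e ∈ nonZeroDivisors L := by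
    have h := hπ
    rw [P.fac] at h
    exact (mul_mem_nonZeroDivisors.1 h).2
  by_cases hP : P.e = 0
  · have : IsUnit π := by
      have h := P.fac
      rw [hP, pow_zero, mul_one] at h
      exact h ▸ P.u.isUnit
    rw [val_of_isUnit this, val, expr_push, hP, pow_zero, one_pow]
  have hρ' : ρ ∈ nonZeroDivisors L := by
    obtain ⟨k, hk⟩ := Nat.exists_eq_succ_of_ne_zero hP
    rw [hk, pow_succ] at hρ
    exact (mul_mem_nonZeroDivisors.1 hρ).2
  rw [val, val, expr_push, ← pow_mul]
  congr 1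
  conv_rhs => rw [P.fac, Ring.ord_mul_of_isUnit_left P.u.isUnit, Ring.ord_pow hρ', nsmul_eq_mul, ENat.toNat_mul,
    ENat.toNat_coe]

theorem expr_mul_left (F : Fact π x) (F' : Fact π y) (G : Fact π z) :
    (F.mul F').expr G = F.expr G * F'.expr G := by
  simp only [expr, mul, res, Units.val_mul, map_mul, mul_pow, pow_add, add_mul, mul_inv]
  ring

theorem expr_swap_inv (F : Fact π x) (G : Fact π y) : F.expr G = (G.expr F)⁻¹ := by
  simp only [expr, mul_inv, inv_inv, ← inv_pow, inv_neg, inv_one, mul_comm G.e F.e]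
  ring

theorem val_mul_left (F : Fact π x) (F' : Fact π y) (G : Fact π z) :
    (F.mul F').val G = F.val G * F'.val G := by rw [val, val, val, expr_mul_left, mul_pow]

theorem val_swap_inv (F : Fact π x) (G : Fact π y) : F.val G = (G.val F)⁻¹ := by
  rw [val, val, expr_swap_inv, inv_pow]

theorem neg_one_pow_sq (e : ℕ) : (-1 : ResidueField L) ^ (e * e) = (-1) ^ e := by
  rw [neg_one_pow_eq_pow_mod_two, neg_one_pow_eq_pow_mod_two (n := e)]
  rcases Nat.mod_two_eq_zero_or_one e with h | h <;> simp [Nat.mul_mod, h]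

theorem val_self (F : Fact π x) : F.val F = (-1) ^ (F.e * (Ring.ord L π).toNat) := by
  rw [val, expr, mul_assoc, mul_inv_cancel₀ (pow_ne_zero _ F.res_ne_zero), mul_one, neg_one_pow_sq, ← pow_mul]

theorem val_unit_left (F : Fact π x) (hF : F.e = 0) (G : Fact π y) :
    F.val G = residue L x ^ (G.e * (Ring.ord L π).toNat) := by
  have hx : F.res = residue L x := by
    conv_rhs => rw [F.fac, hF, pow_zero, mul_one]
    rfl
  rw [val, expr, hF, zero_mul, pow_zero, one_mul, pow_zero, inv_one, mul_one, ← pow_mul, hx]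

/-- Steinberg relation. -/
theorem steinberg (hπ : π ∈ nonZeroDivisors L) {a b : L} (A : Fact π a) (B : Fact π b) (C : Fact π (b - a)) :
    A.val C * B.val B = B.val C * A.val B := by
  by_cases hu : IsUnit π
  · simp only [val_of_isUnit hu]
  simp only [val, ← mul_pow]
  congr 1
  have hres : ∀ {w : L} {d : ℕ}, 0 < d → residue L (w * π ^ d) = 0 := fun {w d} hd => by
    rw [residue_eq_zero_iff]
    exact Ideal.mul_mem_left _ _ (Ideal.pow_mem_of_mem _ hu d hd)
  have cancel : ∀ {e : ℕ} {p q : L}, p * π ^ e = q * π ^ e → p = q := fun {e p q} h =>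
    sub_eq_zero.1 ((mem_nonZeroDivisors_iff.1 (pow_mem hπ e)).2 _ (by rw [sub_mul, h, sub_self]))
  have e0 : (C.u : L) * π ^ C.e = B.u * π ^ B.e - A.u * π ^ A.e := by rw [← C.fac, ← A.fac, ← B.fac]
  have hA := A.res_ne_zero
  have hB := B.res_ne_zero
  have hC := C.res_ne_zero
  have hm1 : ((-1 : ResidueField L)) ^ 2 = 1 := by ring
  rcases lt_trichotomy A.e B.e with hlt | heq | hlt
  · obtain ⟨d, hd⟩ := Nat.exists_eq_add_of_lt hlt
    let C' : Fact π (b - a) := ⟨(IsUnit.unit (a := (B.u : L) * π ^ (d + 1) - A.u) (by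
      rw [← residue_ne_zero_iff_isUnit, map_sub, hres (Nat.succ_pos d), zero_sub, neg_ne_zero]; exact hA)), A.e, by
      rw [IsUnit.unit_spec, sub_mul, mul_assoc, ← pow_add, add_comm _ A.e, show A.e + (d + 1) = B.e by omega,
        ← B.fac, ← A.fac]⟩
    obtain ⟨he, hu'⟩ := eq_of_not_isUnit hπ hu C C'
    have hr : C.res = -A.res := by
      simp only [res, hu', C', IsUnit.unit_spec, map_sub, hres (Nat.succ_pos d), zero_sub]
    simp only [expr, hr, he, C']
    rw [neg_pow A.res, neg_pow A.res, mul_inv, mul_inv, ← inv_pow (-1 : ResidueField L), ← inv_pow (-1 : ResidueField L), inv_neg,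
      inv_one, show ((-1 : ResidueField L)) ^ (B.e * B.e) = (-1) ^ B.e by
        rw [neg_one_pow_eq_pow_mod_two, neg_one_pow_eq_pow_mod_two (n := B.e)]; rcases Nat.mod_two_eq_zero_or_one B.e with h | h <;> simp [Nat.mul_mod, h],
      show ((-1 : ResidueField L)) ^ (A.e * A.e) = (-1) ^ A.e by
        rw [neg_one_pow_eq_pow_mod_two, neg_one_pow_eq_pow_mod_two (n := A.e)]; rcases Nat.mod_two_eq_zero_or_one A.e with h | h <;> simp [Nat.mul_mod, h]]
    field_simp
    ring_nf
    rw [neg_one_pow_eq_pow_mod_two, neg_one_pow_eq_pow_mod_two (n := A.e * B.e * 2), Nat.mul_mod_left, Nat.mul_mod_left]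
  · have hr : A.res ^ C.e * B.res ^ A.e = B.res ^ C.e * A.res ^ A.e := by
      have hle : A.e ≤ C.e := by
        by_contra hlt
        push Not at hlt
        obtain ⟨d, hd⟩ := Nat.exists_eq_add_of_lt hlt
        rw [← heq, ← sub_mul, hd, show C.e + d + 1 = (d + 1) + C.e by omega, pow_add _ (d + 1), ← mul_assoc] at e0
        exact hC (by rw [res, cancel e0, hres (Nat.succ_pos d)])
      rcases hle.eq_or_lt with he | hlt
      · rw [← he, mul_comm]
      · obtain ⟨d, hd⟩ := Nat.exists_eq_add_of_lt hlt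
        rw [← heq, ← sub_mul, hd, show A.e + d + 1 = (d + 1) + A.e by omega, pow_add _ (d + 1), ← mul_assoc] at e0
        have := congrArg (residue L) (cancel e0)
        rw [hres (Nat.succ_pos d), map_sub, eq_comm, sub_eq_zero] at this
        rw [res, res, this]
    simp only [expr, ← heq]
    field_simp
    linear_combination hr
  · obtain ⟨d, hd⟩ := Nat.exists_eq_add_of_lt hlt
    let C' : Fact π (b - a) := ⟨(IsUnit.unit (a := (B.u : L) - A.u * π ^ (d + 1)) (by
      rw [← residue_ne_zero_iff_isUnit, map_sub, hres (Nat.succ_pos d), sub_zero]; exact hB)), B.e, by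
      rw [IsUnit.unit_spec, sub_mul, mul_assoc, ← pow_add, add_comm _ B.e, show B.e + (d + 1) = A.e by omega,
        ← B.fac, ← A.fac]⟩
    obtain ⟨he, hu'⟩ := eq_of_not_isUnit hπ hu C C'
    have hr : C.res = B.res := by
      simp only [res, hu', C', IsUnit.unit_spec, map_sub, hres (Nat.succ_pos d), sub_zero]
    simp only [expr, hr, he, C']
    field_simp
    try ring

end Fact

end Groth.MilnorKLambda.Amb
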