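import Groth.Agent.MilnorKLambda.Tame1.DetLoc
import Mathlib.RingTheory.LocalRing.Length
import Mathlib.RingTheory.Flat.Stability
import Mathlib.LinearAlgebra.TensorProduct.RightExactness
import Mathlib.LinearAlgebra.Charpoly.BaseChange

/-!
# Residue fibres of a flat base change
-/

set_option autoImplicit false
universe u

open IsLocalRing TensorProduct

namespace Groth.MilnorKLambda.Amb

/-- Length of a quotient by an extended ideal along a flat local map. -/
theorem length_quot_map (L L' : Type u) [CommRing L] [IsLocalRing L] [CommRing L'] [IsLocalRing L'] [Algebra L L']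
    [Module.Flat L L'] [IsLocalHom (algebraMap L L')] (I : Ideal L) :
    Module.length L' (L' ⧸ I.map (algebraMap L L')) =
      Module.length L (L ⧸ I) * Module.length L' (L' ⧸ (maximalIdeal L).map (algebraMap L L')) := by
  rw [(Algebra.TensorProduct.quotIdealMapEquivTensorQuot L' I).toLinearEquiv.length_eq, IsLocalRing.length_baseChange]

theorem map_mk_maximal {R : Type u} [CommRing R] [IsLocalRing R] (a : Ideal R) (ha : a ≠ ⊤) [IsLocalRing (R ⧸ a)] :
    (maximalIdeal R).map (Ideal.Quotient.mk a) = maximalIdeal (R ⧸ a) := by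
  rcases Ideal.map_eq_top_or_isMaximal_of_surjective (Ideal.Quotient.mk a) Ideal.Quotient.mk_surjective
      (maximalIdeal.isMaximal R) with h | h
  · have hc := congrArg (Ideal.comap (Ideal.Quotient.mk a)) h
    rw [Ideal.comap_top, Ideal.comap_map_mk (IsLocalRing.le_maximalIdeal ha)] at hc
    exact absurd hc (maximalIdeal.isMaximal R).ne_top
  · exact IsLocalRing.eq_maximalIdeal h

/-- Length of the fibre when it is flat over a quotient of the base. -/
theorem length_fibre {R L : Type u} [CommRing R] [IsLocalRing R] [CommRing L] [IsLocalRing L] [Algebra R L]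
    [IsLocalHom (algebraMap R L)] (a : Ideal R) (ha : a ≠ ⊤) (I : Ideal L) (hI : I ≠ ⊤)
    (hle : a.map (algebraMap R L) ≤ I)
    (hflat : letI : Algebra (R ⧸ a) (L ⧸ I) := Ideal.Quotient.algebraQuotientOfLEComap (Ideal.map_le_iff_le_comap.1 hle)
      Module.Flat (R ⧸ a) (L ⧸ I)) :
    Module.length L (L ⧸ I) =
      Module.length R (R ⧸ a) * Module.length L (L ⧸ (I ⊔ (maximalIdeal R).map (algebraMap R L))) := by
  let : Algebra (R ⧸ a) (L ⧸ I) := Ideal.Quotient.algebraQuotientOfLEComap (Ideal.map_le_iff_le_comap.1 hle)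
  have : Module.Flat (R ⧸ a) (L ⧸ I) := hflat
  have : Nontrivial (R ⧸ a) := Ideal.Quotient.nontrivial_iff.2 ha
  have : Nontrivial (L ⧸ I) := Ideal.Quotient.nontrivial_iff.2 hI
  have : IsLocalRing (R ⧸ a) := IsLocalRing.of_surjective' _ Ideal.Quotient.mk_surjective
  have : IsLocalRing (L ⧸ I) := IsLocalRing.of_surjective' _ Ideal.Quotient.mk_surjective
  have hmk : ∀ r : R, algebraMap (R ⧸ a) (L ⧸ I) (Ideal.Quotient.mk a r) = Ideal.Quotient.mk I (algebraMap R L r) :=
    fun r => rfl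
  have : IsLocalHom (algebraMap (R ⧸ a) (L ⧸ I)) := ⟨fun z hz => by
    obtain ⟨r, rfl⟩ := Ideal.Quotient.mk_surjective z
    rw [hmk] at hz
    have hr : IsUnit (algebraMap R L r) := by
      by_contra h
      obtain ⟨y, hy⟩ := Ideal.Quotient.mk_surjective (hz.unit⁻¹ : (L ⧸ I)ˣ).1
      have h1 : algebraMap R L r * y - 1 ∈ I := by
        rw [← Ideal.Quotient.eq, map_mul, hy, map_one, IsUnit.mul_val_inv]
      refine (maximalIdeal.isMaximal L).ne_top ((Ideal.eq_top_iff_one _).2 ?_)
      rw [show (1 : L) = algebraMap R L r * y - (algebraMap R L r * y - 1) by ring]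
      exact sub_mem (Ideal.mul_mem_right _ _ h) (IsLocalRing.le_maximalIdeal hI h1)
    exact (isUnit_of_map_unit (algebraMap R L) r hr).map _⟩
  have h := length_quot_map (R ⧸ a) (L ⧸ I) ⊥
  rw [Ideal.map_bot, (Submodule.quotEquivOfEqBot ⊥ rfl).length_eq, (Submodule.quotEquivOfEqBot ⊥ rfl).length_eq,
    ← Module.length_eq_of_surjective (R := L ⧸ I) (S := L) (M := L ⧸ I) Ideal.Quotient.mk_surjective,
    ← Module.length_eq_of_surjective (R := R ⧸ a) (S := R) (M := R ⧸ a) Ideal.Quotient.mk_surjective] at h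
  rw [h]
  congr 1
  have hmax : (maximalIdeal (R ⧸ a)).map (algebraMap (R ⧸ a) (L ⧸ I)) =
      ((maximalIdeal R).map (algebraMap R L)).map (Ideal.Quotient.mk I) := by
    rw [← map_mk_maximal a ha, Ideal.map_map, Ideal.map_map]
    rfl
  rw [hmax, ← Module.length_eq_of_surjective (R := L ⧸ I) (S := L)
    (M := (L ⧸ I) ⧸ ((maximalIdeal R).map (algebraMap R L)).map (Ideal.Quotient.mk I)) Ideal.Quotient.mk_surjective]
  exact (DoubleQuot.quotQuotEquivQuotSupₐ L I ((maximalIdeal R).map (algebraMap R L))).toLinearEquiv.length_eq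

section fibre

variable {A A' T : Type u} [CommRing A] [IsLocalRing A] [CommRing A'] [Algebra A A'] [CommRing T] [Algebra A T]
  {F : Type u} [Field F] [Algebra A F] [Algebra (ResidueField A) F] [IsScalarTower A (ResidueField A) F]

/-- The base change of a residue field. -/
theorem exists_residue_tensor {𝔄 : Type u} [CommRing 𝔄] [Algebra A 𝔄] [Algebra A' 𝔄] [IsScalarTower A A' 𝔄]
    [Algebra (ResidueField A) 𝔄] [IsScalarTower A (ResidueField A) 𝔄] (h𝔄 : Function.Surjective (algebraMap A' 𝔄))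
    (π : T →ₐ[A] F) (hπ : Function.Surjective π) :
    ∃ φ : A' ⊗[A] T →ₐ[A'] 𝔄 ⊗[ResidueField A] F, Function.Surjective φ ∧ (∀ x, φ (1 ⊗ₜ x) = 1 ⊗ₜ π x) ∧
      RingHom.ker φ = (RingHom.ker (algebraMap A' 𝔄)).map (algebraMap A' (A' ⊗[A] T)) ⊔
        (RingHom.ker π).map (Algebra.TensorProduct.includeRight : T →ₐ[A] A' ⊗[A] T) := by
  have : CompatibleSMul A (ResidueField A) 𝔄 F := CompatibleSMul.of_algebraMap_surjective _ _ residue_surjective
  let e : 𝔄 ⊗[A] F ≃ₐ[A'] 𝔄 ⊗[ResidueField A] F :=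
    Algebra.TensorProduct.equivOfCompatibleSMul (ResidueField A) A A' 𝔄 F
  let φ₀ : A' ⊗[A] T →ₐ[A'] 𝔄 ⊗[A] F :=
    Algebra.TensorProduct.map (Algebra.ofId A' 𝔄) π
  have h1 : Function.Surjective φ₀ := TensorProduct.map_surjective (g := (IsScalarTower.toAlgHom A A' 𝔄).toLinearMap) (g' := π.toLinearMap) h𝔄 hπ
  have h2 : ∀ x, φ₀ (1 ⊗ₜ x) = 1 ⊗ₜ π x := fun x => by
    rw [Algebra.TensorProduct.map_tmul, map_one]
  have h3 : ∀ (a : 𝔄) (b : F), e (a ⊗ₜ b) = a ⊗ₜ b := fun a b => rfl
  have h4 : (φ₀ : A' ⊗[A] T → 𝔄 ⊗[A] F) = Algebra.TensorProduct.map (IsScalarTower.toAlgHom A A' 𝔄) π := by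
    refine funext fun z => ?_
    induction z with
    | zero => rw [map_zero, map_zero]
    | add p q hp hq => rw [map_add, map_add, hp, hq]
    | tmul p q => rw [Algebra.TensorProduct.map_tmul, Algebra.TensorProduct.map_tmul]; rfl
  refine ⟨(e : 𝔄 ⊗[A] F →ₐ[A'] 𝔄 ⊗[ResidueField A] F).comp φ₀, ?_, fun x => ?_, ?_⟩
  · rw [AlgHom.coe_comp]
    exact e.surjective.comp h1
  · rw [AlgHom.comp_apply, h2]
    exact h3 1 (π x)
  · have hk : RingHom.ker π = RingHom.ker π.toRingHom := rfl
    ext z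
    rw [RingHom.mem_ker, AlgHom.comp_apply]
    have hz : e (φ₀ z) = 0 ↔ φ₀ z = 0 := e.map_eq_zero_iff
    refine (hz.trans ?_)
    rw [congrFun h4 z, ← RingHom.mem_ker, Algebra.TensorProduct.map_ker (IsScalarTower.toAlgHom A A' 𝔄) π h𝔄 hπ]
    rfl

end fibre

/-- The norm as the determinant of the base change. -/
theorem det_mul_tmul {k k' F : Type u} [Field k] [Field k'] [Algebra k k'] [Field F] [Algebra k F] [Module.Finite k F]
    (z : F) (f : k' ⊗[k] F →ₗ[k'] k' ⊗[k] F) (hf : ∀ v, f v = ((1 : k') ⊗ₜ[k] z) * v) :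
    LinearMap.det f = algebraMap k k' (Algebra.norm k z) := by
  rw [show f = (LinearMap.mul k F z).baseChange k' from LinearMap.ext fun v => ?_, LinearMap.det_baseChange]
  · rw [Algebra.norm_apply]; rfl
  rw [hf]
  induction v with
  | zero => simp
  | add p q hp hq => rw [mul_add, hp, hq, map_add]
  | tmul p q => simp

end Groth.MilnorKLambda.Amb
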