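import Groth.Agent.MilnorKLambda.Tame1.FlatFibre
import Groth.Agent.MilnorKLambda.Tame1.Single

/-!
# The tame symbol under a flat local map
-/

set_option autoImplicit false
universe u

open IsLocalRing TensorProduct

namespace Groth.MilnorKLambda.Amb

attribute [local instance] isLocalHom_atPrime

/-- A localisation modulo an ideal is flat over what is flat below the quotient. -/
theorem flat_quot_localization {B G S L : Type u} [CommRing B] [CommRing G] [CommRing S] [CommRing L] [Algebra S G]
    [Module.Flat S G] (φ : B →+* G) (hφ : Function.Surjective φ) (C : Submonoid B) [Algebra B L] [IsLocalization C L]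
    (I : Ideal L) (hI : I = (RingHom.ker φ).map (algebraMap B L)) [Algebra S (L ⧸ I)]
    (h : ∀ (s : S) (b : B), φ b = algebraMap S G s → algebraMap S (L ⧸ I) s = Ideal.Quotient.mk I (algebraMap B L b)) :
    Module.Flat S (L ⧸ I) := by
  let ψ : G →+* L ⧸ I := RingHom.liftOfSurjective φ hφ ⟨(Ideal.Quotient.mk I).comp (algebraMap B L),
    fun b hb => (Ideal.Quotient.eq_zero_iff_mem).2 (hI ▸ Ideal.mem_map_of_mem _ hb)⟩
  have hψ : ∀ b, ψ (φ b) = Ideal.Quotient.mk I (algebraMap B L b) := fun b =>
    RingHom.liftOfRightInverse_comp_apply φ _ _ _ b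
  let : Algebra G (L ⧸ I) := ψ.toAlgebra
  have : IsLocalization (C.map φ.toMonoidHom) (L ⧸ I) :=
    { map_units := by
        rintro ⟨_, s, hs, rfl⟩
        change IsUnit (ψ (φ s))
        rw [hψ]
        exact (IsLocalization.map_units L (⟨s, hs⟩ : C)).map _
      surj := fun z => by
        obtain ⟨z, rfl⟩ := Ideal.Quotient.mk_surjective z
        obtain ⟨⟨b, s, hs⟩, hbs⟩ := IsLocalization.surj C z
        refine ⟨⟨φ b, ⟨φ s, s, hs, rfl⟩⟩, ?_⟩
        change Ideal.Quotient.mk I z * ψ (φ s) = ψ (φ b)
        rw [hψ, hψ, ← map_mul]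
        exact congrArg _ hbs
      exists_of_eq := fun {x y} hxy => by
        obtain ⟨b, rfl⟩ := hφ x
        obtain ⟨c, rfl⟩ := hφ y
        change ψ (φ b) = ψ (φ c) at hxy
        rw [hψ, hψ, Ideal.Quotient.eq, ← map_sub, hI] at hxy
        obtain ⟨s, hs, hsm⟩ := (IsLocalization.algebraMap_mem_map_algebraMap_iff C L _ _).1 hxy
        refine ⟨⟨φ s, s, hs, rfl⟩, ?_⟩
        rw [RingHom.mem_ker, map_mul, map_sub, mul_sub, sub_eq_zero] at hsm
        exact hsm }
  have : Module.Flat G (L ⧸ I) := IsLocalization.flat _ (C.map φ.toMonoidHom)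
  have : IsScalarTower S G (L ⧸ I) := IsScalarTower.of_algebraMap_eq fun s => by
    obtain ⟨b, hb⟩ := hφ (algebraMap S G s)
    rw [h s b hb, ← hb]
    exact (hψ b).symm
  exact Module.Flat.trans S G (L ⧸ I)

variable {A A' : Type u} [CommRing A] [IsLocalRing A] [CommRing A'] [IsLocalRing A'] [Algebra A A']
  [IsLocalHom (algebraMap A A')] {T : Type u} [CommRing T] [Algebra A T] [Module.Finite A T]

theorem under_eq (M : Ideal T) [M.IsMaximal] : M.comap (algebraMap A T) = maximalIdeal A := comap_eq_maximalIdeal (R := A) M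

theorem residueTower_ker (M : Ideal T) [M.IsMaximal] :
    RingHom.ker (IsScalarTower.toAlgHom A T (ResidueField (Localization.AtPrime M))) = M := by
  ext x
  rw [RingHom.mem_ker, IsScalarTower.toAlgHom_apply, IsScalarTower.algebraMap_apply T (Localization.AtPrime M),
    ResidueField.algebraMap_eq, residue_eq_zero_iff, IsLocalization.AtPrime.to_map_mem_maximal_iff (Localization.AtPrime M) M x]

/-- The fibre of a maximal ideal. -/
noncomputable def eFib (M : Ideal T) (P : MaximalSpectrum (A' ⊗[A] T)) : ℕ :=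
  (Module.length (Localization.AtPrime P.asIdeal) (Localization.AtPrime P.asIdeal ⧸
    (M.map (Algebra.TensorProduct.includeRight : T →ₐ[A] A' ⊗[A] T)).map
      (algebraMap (A' ⊗[A] T) (Localization.AtPrime P.asIdeal)))).toNat

theorem eFib_eq_zero (M : Ideal T) [hM : M.IsMaximal] (P : MaximalSpectrum (A' ⊗[A] T))
    (h : P.asIdeal.comap (Algebra.TensorProduct.includeRight : T →ₐ[A] A' ⊗[A] T) ≠ M) : eFib M P = 0 := by
  have hne : ¬ M.map (Algebra.TensorProduct.includeRight : T →ₐ[A] A' ⊗[A] T) ≤ P.asIdeal := fun hle =>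
    h (hM.eq_of_le (Ideal.comap_ne_top _ P.isMaximal.ne_top) (Ideal.map_le_iff_le_comap.1 hle)).symm
  obtain ⟨z, hz, hzP⟩ := Set.not_subset.1 hne
  have htop : (M.map (Algebra.TensorProduct.includeRight : T →ₐ[A] A' ⊗[A] T)).map
      (algebraMap (A' ⊗[A] T) (Localization.AtPrime P.asIdeal)) = ⊤ :=
    Ideal.eq_top_of_isUnit_mem _ (Ideal.mem_map_of_mem _ hz)
      ((IsLocalization.AtPrime.isUnit_to_map_iff _ P.asIdeal z).2 hzP)
  rw [eFib, htop, Module.length_eq_zero, ENat.toNat_zero]

theorem map_maximal_le (M : Ideal T) [M.IsMaximal] :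
    ((maximalIdeal A).map (algebraMap A A')).map (algebraMap A' (A' ⊗[A] T)) ≤
      M.map (Algebra.TensorProduct.includeRight : T →ₐ[A] A' ⊗[A] T) := by
  rw [Ideal.map_map, ← IsScalarTower.algebraMap_eq, ← under_eq M, Ideal.map_le_iff_le_comap]
  intro x hx
  rw [Ideal.mem_comap, ← (Algebra.TensorProduct.includeRight : T →ₐ[A] A' ⊗[A] T).commutes]
  exact Ideal.mem_map_of_mem _ hx

/-- Flatness of the fibre over the fibre of the base. -/
theorem eFib_eq (M : Ideal T) [M.IsMaximal] (P : MaximalSpectrum (A' ⊗[A] T)) :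
    eFib M P = (Module.length A' (A' ⧸ (maximalIdeal A).map (algebraMap A A'))).toNat *
      (Module.length (Localization.AtPrime P.asIdeal) (Localization.AtPrime P.asIdeal ⧸
        ((maximalIdeal A').map (algebraMap A' (A' ⊗[A] T)) ⊔
          M.map (Algebra.TensorProduct.includeRight : T →ₐ[A] A' ⊗[A] T)).map
            (algebraMap (A' ⊗[A] T) (Localization.AtPrime P.asIdeal)))).toNat := by
  set incl : T →ₐ[A] A' ⊗[A] T := Algebra.TensorProduct.includeRight
  set L := Localization.AtPrime P.asIdeal
  set J := M.map incl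
  by_cases h : J.map (algebraMap _ L) = ⊤
  · rw [eFib, Ideal.map_sup, h, sup_top_eq, Module.length_eq_zero, ENat.toNat_zero, mul_zero]
  set a := (maximalIdeal A).map (algebraMap A A')
  have hle : a ≤ Ideal.comap (algebraMap A' L) (J.map (algebraMap _ L)) := by
    rw [← Ideal.map_le_iff_le_comap, IsScalarTower.algebraMap_eq A' (A' ⊗[A] T) L, ← Ideal.map_map]
    exact Ideal.map_mono (map_maximal_le M)
  have ha : a ≠ ⊤ := fun htop => (maximalIdeal.isMaximal A').ne_top
    (top_le_iff.1 (htop ▸ Ideal.map_le_iff_le_comap.2 fun x hx => by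
      rw [Ideal.mem_comap, IsLocalRing.mem_maximalIdeal]
      exact fun hu => hx (isUnit_of_map_unit _ _ hu)))
  rw [eFib, length_fibre (R := A') a ha (J.map (algebraMap _ L)) h (Ideal.map_le_iff_le_comap.2 hle) ?_, ENat.toNat_mul,
    Ideal.map_sup, Ideal.map_map, ← IsScalarTower.algebraMap_eq, sup_comm]
  let : Algebra (ResidueField A) (A' ⧸ a) :=
    (Ideal.quotientMap a (algebraMap A A') Ideal.le_comap_map).toAlgebra
  have : IsScalarTower A (ResidueField A) (A' ⧸ a) := IsScalarTower.of_algebraMap_eq fun _ => rfl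
  obtain ⟨φ, hφ, hφ1, hker⟩ := exists_residue_tensor (A := A) (A' := A') (T := T) (𝔄 := A' ⧸ a)
    (F := ResidueField (Localization.AtPrime M)) Ideal.Quotient.mk_surjective
    (IsScalarTower.toAlgHom A T _) M.algebraMap_residueField_surjective
  have hk : RingHom.ker φ.toRingHom = J := by
    change RingHom.ker φ = J
    rw [hker, residueTower_ker, Ideal.Quotient.algebraMap_eq, Ideal.mk_ker, sup_eq_right]
    exact map_maximal_le M
  let : Algebra (A' ⧸ a) (L ⧸ J.map (algebraMap (A' ⊗[A] T) L)) :=
    Ideal.Quotient.algebraQuotientOfLEComap hle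
  refine flat_quot_localization φ.toRingHom hφ P.asIdeal.primeCompl _ (by rw [hk]) fun s b hb => ?_
  obtain ⟨s, rfl⟩ := Ideal.Quotient.mk_surjective s
  change Ideal.Quotient.mk _ (algebraMap A' L s) = _
  rw [Ideal.Quotient.eq, IsScalarTower.algebraMap_apply A' (A' ⊗[A] T) L, ← map_sub]
  refine Ideal.mem_map_of_mem _ ?_
  rw [← hk, RingHom.mem_ker, map_sub, hb, sub_eq_zero]
  exact φ.commutes s

open Classical in
/-- The residue norms over a maximal ideal. -/
theorem nrm_fibre_flat [Fintype (MaximalSpectrum (A' ⊗[A] T))] (M : Ideal T) [M.IsMaximal] (x : T) :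
    ∏ P : MaximalSpectrum (A' ⊗[A] T), nrm A' P.asIdeal
        (residue _ (algebraMap (A' ⊗[A] T) (Localization.AtPrime P.asIdeal) (1 ⊗ₜ x))) ^ eFib M P =
      ResidueField.map (algebraMap A A') (nrm A M (residue _ (algebraMap T (Localization.AtPrime M) x))) ^
        (Module.length A' (A' ⧸ (maximalIdeal A).map (algebraMap A A'))).toNat := by
  let F := ResidueField (Localization.AtPrime M)
  have := finite_residueField (R := A) M
  obtain ⟨φ, hφ, hφ1, hker⟩ := exists_residue_tensor (A := A) (A' := A') (T := T) (𝔄 := ResidueField A') (F := F)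
    residue_surjective (IsScalarTower.toAlgHom A T _) M.algebraMap_residueField_surjective
  rw [residueTower_ker, ResidueField.algebraMap_eq, IsLocalRing.ker_residue] at hker
  let : Algebra (A' ⊗[A] T) (ResidueField A' ⊗[ResidueField A] F) := φ.toRingHom.toAlgebra
  have : IsScalarTower A' (A' ⊗[A] T) (ResidueField A' ⊗[ResidueField A] F) :=
    IsScalarTower.of_algebraMap_eq fun r => (φ.commutes r).symm
  let f : ResidueField A' ⊗[ResidueField A] F →ₗ[ResidueField A'] ResidueField A' ⊗[ResidueField A] F :=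
    LinearMap.mulLeft (ResidueField A') ((1 : ResidueField A') ⊗ₜ[ResidueField A] algebraMap T F x)
  have hdet := det_eq_prod (R := A') (T := A' ⊗[A] T) (1 ⊗ₜ x) (ResidueField A' ⊗[ResidueField A] F) f fun v => by
    rw [Algebra.smul_def]
    change _ * v = φ (1 ⊗ₜ x) * v
    rw [hφ1]
    rfl
  rw [det_mul_tmul (algebraMap T F x) f fun v => rfl] at hdet
  have hlen : ∀ P : MaximalSpectrum (A' ⊗[A] T), (Module.length (Localization.AtPrime P.asIdeal)
      (Localization.AtPrime P.asIdeal ⧸ (RingHom.ker φ).map (algebraMap _ (Localization.AtPrime P.asIdeal)))) =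
        locLen P.asIdeal (ResidueField A' ⊗[ResidueField A] F) := fun P => by
    have e : ((A' ⊗[A] T) ⧸ RingHom.ker φ) ≃ₗ[A' ⊗[A] T]
        ResidueField A' ⊗[ResidueField A] F :=
      (Ideal.quotientKerAlgEquivOfSurjective (f := Algebra.ofId (A' ⊗[A] T) (ResidueField A' ⊗[ResidueField A] F)) hφ).toLinearEquiv
    rw [← locLen_congr P.asIdeal e, locLen_quot]
  have hk : (maximalIdeal A').map (algebraMap A' (A' ⊗[A] T)) ⊔
      M.map (Algebra.TensorProduct.includeRight : T →ₐ[A] A' ⊗[A] T) = RingHom.ker φ := hker.symm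
  have hlen' : ∀ P : MaximalSpectrum (A' ⊗[A] T), (Module.length (Localization.AtPrime P.asIdeal)
      (Localization.AtPrime P.asIdeal ⧸ ((maximalIdeal A').map (algebraMap A' (A' ⊗[A] T)) ⊔
      M.map (Algebra.TensorProduct.includeRight : T →ₐ[A] A' ⊗[A] T)).map (algebraMap _ (Localization.AtPrime P.asIdeal)))) =
        locLen P.asIdeal (ResidueField A' ⊗[ResidueField A] F) := fun P => by rw [hk]; exact hlen P
  simp only [eFib_eq M, hlen']
  rw [Finset.prod_congr rfl fun P _ => by rw [pow_mul'], Finset.prod_pow, ← hdet]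
  rfl

end Groth.MilnorKLambda.Amb

namespace Groth.MilnorKLambda.Amb

attribute [local instance] isLocalHom_atPrime

/-- The local factor above. -/
theorem fact_flat {A A' T : Type u} [CommRing A] [IsLocalRing A] [CommRing A'] [IsLocalRing A'] [Algebra A A']
    [IsLocalHom (algebraMap A A')] [Module.Flat A A'] [CommRing T] [Algebra A T] [Module.Finite A T]
    (M : Ideal T) [M.IsMaximal] (P : MaximalSpectrum (A' ⊗[A] T))
    (h : M = P.asIdeal.comap (Algebra.TensorProduct.includeRight : T →ₐ[A] A' ⊗[A] T)) {γ : Localization.AtPrime M}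
    (hγ : γ ∈ nonZeroDivisors (Localization.AtPrime M)) {a b : A}
    (F : Fact γ (algebraMap A (Localization.AtPrime M) a)) (G : Fact γ (algebraMap A (Localization.AtPrime M) b))
    (x : T) (hx : residue _ (algebraMap T (Localization.AtPrime M) x) = F.expr G) :
    ∃ γ' ∈ nonZeroDivisors (Localization.AtPrime P.asIdeal),
    ∃ (F' : Fact γ' (algebraMap A' (Localization.AtPrime P.asIdeal) (algebraMap A A' a)))
      (G' : Fact γ' (algebraMap A' (Localization.AtPrime P.asIdeal) (algebraMap A A' b))),
      F'.val G' = (residue _ (algebraMap (A' ⊗[A] T) (Localization.AtPrime P.asIdeal) (1 ⊗ₜ x)) ^ eFib M P) ^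
        (Ring.ord _ γ).toNat := by
  subst h
  let B := A' ⊗[A] T
  let incl : T →ₐ[A] B := Algebra.TensorProduct.includeRight
  let : Algebra T B := incl.toRingHom.toAlgebra
  have : Module.Flat T B := by
    let e : T ⊗[A] A' ≃ₗ[T] B :=
      { (Algebra.TensorProduct.comm A T A').toLinearEquiv.toAddEquiv with
        map_smul' := fun t z => by
          change Algebra.TensorProduct.comm A T A' (t • z) = incl t * Algebra.TensorProduct.comm A T A' z
          rw [Algebra.smul_def, map_mul, Algebra.TensorProduct.algebraMap_apply, Algebra.algebraMap_self, RingHom.id_apply,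
            Algebra.TensorProduct.comm_tmul]
          rfl }
    exact Module.Flat.of_linearEquiv e.symm
  set M := P.asIdeal.comap incl
  let L := Localization.AtPrime M
  let L' := Localization.AtPrime P.asIdeal
  let loc : L →+* L' := Localization.localRingHom M P.asIdeal incl.toRingHom rfl
  let : Algebra L L' := loc.toAlgebra
  have hloc : ∀ t : T, loc (algebraMap T L t) = algebraMap B L' (incl t) := fun t =>
    Localization.localRingHom_to_map _ _ _ _ t
  have : IsScalarTower T L L' := IsScalarTower.of_algebraMap_eq fun t => (hloc t).symm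
  have : Module.Flat B L' := IsLocalization.flat L' P.asIdeal.primeCompl
  have : Module.Flat T L' := Module.Flat.trans T B L'
  have : Module.Flat L L' := (Module.flat_iff_of_isLocalization L M.primeCompl L').2 inferInstance
  have : IsLocalHom loc := Localization.isLocalHom_localRingHom _ _ _ _
  have : IsLocalHom (algebraMap L L') := ‹IsLocalHom loc›
  have hnzd : loc γ ∈ nonZeroDivisors L' := by
    rw [← isRegular_iff_mem_nonZeroDivisors, ← isLeftRegular_iff_isRegular]
    exact IsSMulRegular.of_flat (S := L') (isRegular_iff_mem_nonZeroDivisors.2 hγ).left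
  have hcast : ∀ c : A, loc (algebraMap A L c) = algebraMap A' L' (algebraMap A A' c) := fun c => by
    rw [IsScalarTower.algebraMap_apply A T L, hloc, incl.commutes, IsScalarTower.algebraMap_apply A A' B,
      ← IsScalarTower.algebraMap_apply]
  refine ⟨loc γ, hnzd, (F.map loc).cast (hcast a), (G.map loc).cast (hcast b), ?_⟩
  change (F.map loc).expr (G.map loc) ^ (Ring.ord L' (loc γ)).toNat = _
  rw [Fact.expr_map, ← hx, ResidueField.map_residue, hloc, ← pow_mul]
  congr 1
  have hord : Ring.ord L' (loc γ) = Ring.ord L γ * Module.length L' (L' ⧸ (maximalIdeal L).map (algebraMap L L')) := by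
    rw [Ring.ord, Ring.ord, ← length_quot_map L L', Ideal.map_span, Set.image_singleton]
    rfl
  have hJ : (maximalIdeal L).map (algebraMap L L') = (M.map incl).map (algebraMap B L') := by
    rw [← Localization.AtPrime.map_eq_maximalIdeal, Ideal.map_map, ← IsScalarTower.algebraMap_eq,
      IsScalarTower.algebraMap_eq T B L', ← Ideal.map_map]
    rfl
  rw [hord, ENat.toNat_mul, mul_comm, hJ]
  rfl

open Classical in
/-- Invariance of the symbol under flat local maps. -/
theorem tameSymbol_flat {A A' : Type u} [CommRing A] [CommRing A'] [IsNoetherianRing A] [IsNoetherianRing A']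
    [IsLocalRing A] [IsLocalRing A'] [Algebra A A'] [IsLocalHom (algebraMap A A')] [Module.Flat A A']
    [Ring.KrullDimLE 1 A] [Ring.KrullDimLE 1 A'] {a b : A} (ha : a ∈ nonZeroDivisors A) (hb : b ∈ nonZeroDivisors A) :
    ResidueField.map (algebraMap A A') (CycAlg.tameSymbol A a b) ^
        (Module.length A' (A' ⧸ Ideal.map (algebraMap A A') (maximalIdeal A))).toNat =
      CycAlg.tameSymbol A' (algebraMap A A' a) (algebraMap A A' b) := by
  by_cases hu : IsUnit a ∧ IsUnit b
  · rw [tameSymbol_units hu.1 hu.2, tameSymbol_units (hu.1.map _) (hu.2.map _), map_one, one_pow]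
  obtain ⟨c, hc, hcn⟩ : ∃ c ∈ maximalIdeal A, c ∈ nonZeroDivisors A := by
    simp only [not_and_or] at hu
    rcases hu with h | h
    exacts [⟨a, h, ha⟩, ⟨b, h, hb⟩]
  have hreg : ∀ {r : A}, r ∈ nonZeroDivisors A → algebraMap A A' r ∈ nonZeroDivisors A' := fun {r} hr => by
    rw [← isRegular_iff_mem_nonZeroDivisors, ← isLeftRegular_iff_isRegular]
    exact IsSMulRegular.of_flat (S := A') (isRegular_iff_mem_nonZeroDivisors.2 hr).left
  set c' := algebraMap A A' c with hc'def
  have hc' : c' ∈ maximalIdeal A' := fun h => hc (isUnit_of_map_unit _ _ h)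
  have hQ : IsAmb (Localization.Away c) c := isAmb_away hcn hc
  have hQ' : IsAmb (Localization.Away c') c' := isAmb_away (hreg hcn) hc'
  obtain ⟨T, hT, hcommon⟩ := exists_common hQ {a, b} (by simp [ha, hb])
  have : Module.Finite A T := Module.Finite.iff_fg.2 hT
  have := finite_maximalSpectrum (R := A) (S := T)
  have := Fintype.ofFinite (MaximalSpectrum T)
  -- the extension upstairs
  obtain ⟨hinjT, -, n, hn⟩ := hQ.isFinExt hT
  let ι₁ : A →ₗ[A] T := Algebra.linearMap A T
  have hinj' : Function.Injective (algebraMap A' (A' ⊗[A] T)) := by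
    have h := Module.Flat.lTensor_preserves_injective_linearMap (M := A') ι₁ hinjT
    intro p q hpq
    have e : ∀ r : A', (LinearMap.lTensor A' ι₁) (r ⊗ₜ 1) = algebraMap A' (A' ⊗[A] T) r := fun r => by
      simp [ι₁, Algebra.TensorProduct.algebraMap_apply]
    exact (TensorProduct.rid A A').symm.injective (h (by rw [TensorProduct.rid_symm_apply,
      TensorProduct.rid_symm_apply, e, e, hpq]))
  have hregB : ∀ z : A' ⊗[A] T, algebraMap A' (A' ⊗[A] T) c' * z = 0 → z = 0 := by
    intro z hz
    have hcT : Function.Injective (LinearMap.lsmul A T c) := fun p q hpq => Subtype.ext (by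
      have := congrArg Subtype.val hpq
      simp only [LinearMap.lsmul_apply, Subalgebra.coe_smul, Algebra.smul_def] at this
      exact hQ.unit.mul_left_cancel this)
    refine Module.Flat.lTensor_preserves_injective_linearMap (M := A') (LinearMap.lsmul A T c) hcT ?_
    rw [map_zero, ← hz, hc'def, ← IsScalarTower.algebraMap_apply, ← Algebra.smul_def]
    clear hz
    induction z with
    | zero => rw [map_zero, smul_zero]
    | add p q hp hq => rw [map_add, hp, hq, smul_add]
    | tmul p q => rw [LinearMap.lTensor_tmul, LinearMap.lsmul_apply, TensorProduct.tmul_smul]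
  obtain ⟨N, hN⟩ := exists_pow_le_span (pow_mem (hreg hcn) n)
  have hkill : ∀ y ∈ maximalIdeal A' ^ N, ∀ z : A' ⊗[A] T, y • z ∈ (algebraMap A' (A' ⊗[A] T)).range := by
    intro y hy z
    obtain ⟨r, rfl⟩ := Ideal.mem_span_singleton'.1 (hN hy)
    induction z with
    | zero => rw [smul_zero]; exact zero_mem _
    | add p q hp hq => rw [smul_add]; exact add_mem hp hq
    | tmul p q =>
      obtain ⟨w, hw⟩ := hn _ (Ideal.pow_mem_pow hc n) q
      refine ⟨r * p * w • 1, ?_⟩
      rw [← map_pow (algebraMap A A'), mul_smul r, algebraMap_smul, ← TensorProduct.tmul_smul, ← hw, Algebra.algebraMap_eq_smul_one w,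
        ← TensorProduct.smul_tmul, Algebra.TensorProduct.algebraMap_apply, Algebra.algebraMap_self, RingHom.id_apply,
        TensorProduct.smul_tmul', smul_eq_mul]
      congr 1
      rw [Algebra.smul_def, Algebra.smul_def]
      ring
  obtain ⟨ι', hι'⟩ := exists_embed_of_killed hQ' ⟨hinj', inferInstance, N, hkill⟩ hregB
  have := finite_maximalSpectrum (R := A') (S := A' ⊗[A] T)
  have := Fintype.ofFinite (MaximalSpectrum (A' ⊗[A] T))
  choose γ hγ hf using fun M : MaximalSpectrum T => hcommon M.asIdeal
  let D : Dat T a b := ⟨γ, hγ, fun M => (hf M a (by simp)).some, fun M => (hf M b (by simp)).some⟩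
  choose x hx using fun M : MaximalSpectrum T => M.asIdeal.algebraMap_residueField_surjective ((D.F M).expr (D.G M))
  have hbelow : ∀ P : MaximalSpectrum (A' ⊗[A] T),
      (P.asIdeal.comap (Algebra.TensorProduct.includeRight : T →ₐ[A] A' ⊗[A] T)).IsMaximal := fun P => by
    have := P.isMaximal
    refine Ideal.isMaximal_of_isIntegral_of_isMaximal_comap (R := A) _ ?_
    change ((P.asIdeal.comap (Algebra.TensorProduct.includeRight : T →ₐ[A] A' ⊗[A] T)).comap
      (algebraMap A T)).IsMaximal
    rw [show (P.asIdeal.comap (Algebra.TensorProduct.includeRight : T →ₐ[A] A' ⊗[A] T)).comap (algebraMap A T) =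
      maximalIdeal A from ?_]
    · exact maximalIdeal.isMaximal A
    rw [show maximalIdeal A = (maximalIdeal A').comap (algebraMap A A') from Ideal.ext fun r => ⟨fun h hu => h (isUnit_of_map_unit _ _ hu), fun h hu => h (hu.map _)⟩, ← comap_eq_maximalIdeal (R := A') P.asIdeal, Ideal.comap_comap,
      ← IsScalarTower.algebraMap_eq]
    ext r
    simp only [Ideal.mem_comap, AlgHom.commutes]
  have hx' : ∀ M : MaximalSpectrum T, residue _ (algebraMap T (Localization.AtPrime M.asIdeal) (x M)) =
      (D.F M).expr (D.G M) := fun M => by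
    rw [← hx M]; rfl
  let bel : MaximalSpectrum (A' ⊗[A] T) → MaximalSpectrum T := fun P => ⟨_, hbelow P⟩
  choose γ' hγ' F' G' hval using fun P => fact_flat (bel P).asIdeal P rfl (hγ (bel P)) (D.F (bel P)) (D.G (bel P))
    (x (bel P)) (hx' (bel P))
  rw [tameSymbol_eq_val hQ ha hb T.val Subtype.val_injective D,
    tameSymbol_eq_val hQ' (hreg ha) (hreg hb) ι' hι' ⟨γ', hγ', F', G'⟩, Dat.val, Dat.val, map_prod, ← Finset.prod_pow,
    Finset.prod_congr (s₁ := (Finset.univ : Finset (MaximalSpectrum (A' ⊗[A] T)))) rfl fun P _ => (by rw [hval P, map_pow, map_pow]),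
    ← Finset.prod_fiberwise Finset.univ bel]
  refine Finset.prod_congr rfl fun M _ => ?_
  rw [show (D.F M).val (D.G M) = (D.F M).expr (D.G M) ^ (Ring.ord _ (γ M)).toNat from rfl, map_pow, map_pow, ← hx' M,
    pow_right_comm, ← nrm_fibre_flat, ← Finset.prod_pow]
  refine (Finset.prod_subset (Finset.filter_subset (fun P => bel P = M) Finset.univ) fun P _ hP => ?_).symm.trans
    (Finset.prod_congr rfl fun P hP => ?_)
  · rw [eFib_eq_zero M.asIdeal P fun h => hP (Finset.mem_filter.2 ⟨Finset.mem_univ _, MaximalSpectrum.ext h⟩), pow_zero,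
      one_pow]
  · obtain rfl := (Finset.mem_filter.1 hP).2
    rfl

end Groth.MilnorKLambda.Amb
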