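import Groth.Agent.MilnorKLambda.Tame1.Tensor
import Mathlib.RingTheory.Localization.AtPrime.Basic
import Mathlib.RingTheory.Spectrum.Maximal.Defs
import Mathlib.RingTheory.Noetherian.Basic
import Mathlib.RingTheory.Finiteness.Ideal
import Mathlib.RingTheory.Ideal.Colon
import Mathlib.Tactic.LinearCombination

/-!
# Gluing extensions given at finitely many maximal ideals
-/

set_option autoImplicit false
universe u

open TensorProduct

namespace Groth.MilnorKLambda.Amb

theorem exists_glue_at_maximal (A : Type u) [CommRing A] [IsNoetherianRing A] (r : ℕ) (m : Fin r → Ideal A)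
    [hm : ∀ i, (m i).IsMaximal] (hinj : Function.Injective m) (B : Fin r → Type u) [∀ i, CommRing (B i)]
    [∀ i, Algebra (Localization.AtPrime (m i)) (B i)]
    (hker : ∀ i, ∃ n : ℕ, ∀ x ∈ RingHom.ker (algebraMap (Localization.AtPrime (m i)) (B i)),
      ∀ y ∈ Ideal.map (algebraMap A (Localization.AtPrime (m i))) (m i) ^ n, y * x = 0)
    (hcoker : ∀ i, ∃ n : ℕ, ∀ y ∈ Ideal.map (algebraMap A (Localization.AtPrime (m i))) (m i) ^ n, ∀ b : B i,
      y • b ∈ (algebraMap (Localization.AtPrime (m i)) (B i)).range) :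
    ∃ (C : Type u) (_ : CommRing C) (_ : Algebra A C),
      (∀ i, Nonempty ((Localization.AtPrime (m i)) ⊗[A] C ≃ₐ[Localization.AtPrime (m i)] B i)) ∧
      (∃ n : ℕ, (∀ x ∈ RingHom.ker (algebraMap A C), ∀ y ∈ (⨅ i, m i) ^ n, y * x = 0) ∧
        (∀ y ∈ (⨅ i, m i) ^ n, ∀ c : C, y • c ∈ (algebraMap A C).range)) ∧
      ((∀ i, (algebraMap (Localization.AtPrime (m i)) (B i)).Finite) → (algebraMap A C).Finite) ∧
      ((∀ i, Function.Injective (algebraMap (Localization.AtPrime (m i)) (B i))) → Function.Injective (algebraMap A C)) ∧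
      ((∀ i, Function.Surjective (algebraMap (Localization.AtPrime (m i)) (B i))) → Function.Surjective (algebraMap A C)) := by
  classical
  let L := fun i => Localization.AtPrime (m i)
  let : ∀ i, Algebra A (B i) := fun i => ((algebraMap (L i) (B i)).comp (algebraMap A (L i))).toAlgebra
  have : ∀ i, IsScalarTower A (L i) (B i) := fun i => IsScalarTower.of_algebraMap_eq fun _ => rfl
  choose nk hnk using hker
  choose nc hnc using hcoker
  set I := ⨅ i, m i
  let Out := {p : MaximalSpectrum A // ∀ i, p.asIdeal ≠ m i}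
  have hI : ∀ i, I ≤ m i := fun i => iInf_le _ i
  -- elements of powers of `I` avoiding a given maximal ideal
  have hout : ∀ (p : Out) (k : ℕ), ∃ z ∈ I ^ k, z ∉ p.1.asIdeal := fun p k => by
    refine Set.not_subset.1 fun hsub => ?_
    have hle : ∏ i, m i ≤ p.1.asIdeal := (Ideal.prod_le_inf.trans (Finset.inf_univ_eq_iInf m).le).trans
      (p.1.isMaximal.isPrime.le_of_pow_le hsub)
    obtain ⟨i, -, hi⟩ := (Ideal.IsPrime.prod_le p.1.isMaximal.isPrime).1 hle
    exact p.2 i ((hm i).eq_of_le p.1.isMaximal.ne_top hi).symm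
  have hmax : ∀ (J : Ideal A), (∀ i, ∃ s ∈ J, s ∉ m i) → (∀ p : Out, ∃ s ∈ J, s ∉ p.1.asIdeal) → J = ⊤ := by
    intro J h1 h2
    by_contra hne
    obtain ⟨M, hM, hle⟩ := Ideal.exists_le_maximal J hne
    by_cases h : ∃ i, M = m i
    · obtain ⟨i, rfl⟩ := h
      obtain ⟨s, hs, hs'⟩ := h1 i
      exact hs' (hle hs)
    · push Not at h
      obtain ⟨s, hs, hs'⟩ := h2 ⟨⟨M, hM⟩, h⟩
      exact hs' (hle hs)
  -- the algebra
  let C : Subalgebra A ((∀ p : Out, Localization.AtPrime p.1.asIdeal) × ∀ i, B i) :=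
    { carrier := {c | ∃ k : ℕ, ∀ y ∈ I ^ k, ∃ x : A, y • c = algebraMap A ((∀ p : Out, Localization.AtPrime p.1.asIdeal) × ∀ i, B i) x}
      mul_mem' := by
        rintro c c' ⟨k, hk⟩ ⟨k', hk'⟩
        refine ⟨k + k', fun y hy => ?_⟩
        rw [pow_add] at hy
        refine Submodule.mul_induction_on hy (fun y1 h1 y2 h2 => ?_) fun p q ⟨x, hx⟩ ⟨x', hx'⟩ => ⟨x + x', by rw [add_smul, hx, hx', map_add]⟩
        obtain ⟨x, hx⟩ := hk y1 h1
        obtain ⟨x', hx'⟩ := hk' y2 h2
        exact ⟨x * x', by rw [map_mul, ← hx, ← hx', smul_mul_smul_comm]⟩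
      add_mem' := by
        rintro c c' ⟨k, hk⟩ ⟨k', hk'⟩
        refine ⟨k + k', fun y hy => ?_⟩
        obtain ⟨x, hx⟩ := hk y (Ideal.pow_le_pow_right (Nat.le_add_right k k') hy)
        obtain ⟨x', hx'⟩ := hk' y (Ideal.pow_le_pow_right (Nat.le_add_left k' k) hy)
        exact ⟨x + x', by rw [smul_add, hx, hx', map_add]⟩
      algebraMap_mem' := fun x => ⟨0, fun y _ => ⟨y * x, by rw [map_mul, Algebra.smul_def]⟩⟩ }
  -- injectivity up to elements outside `m i`
  have hsep : ∀ i (c : ((∀ p : Out, Localization.AtPrime p.1.asIdeal) × ∀ i, B i)), c ∈ C → c.2 i = 0 → ∃ s ∉ m i, s • c = 0 := by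
    intro i c hc hci
    obtain ⟨k, hk⟩ := hc
    choose x hx using hk
    have hz : ∀ y (hy : y ∈ I ^ k), ∀ z ∈ m i ^ nk i, ∃ s ∈ (m i).primeCompl, s * (z * x y hy) = 0 := by
      intro y hy z hz
      have h0 : algebraMap (L i) (B i) (algebraMap A (L i) (x y hy)) = 0 := by
        have := congrArg (fun c : ((∀ p : Out, Localization.AtPrime p.1.asIdeal) × ∀ i, B i) => c.2 i) (hx y hy)
        simp only [Prod.smul_snd, Pi.smul_apply, hci, smul_zero] at this
        exact this.symm
      have h := hnk i _ h0 (algebraMap A (L i) z) (by rw [← Ideal.map_pow]; exact Ideal.mem_map_of_mem _ hz)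
      rw [← map_mul] at h
      obtain ⟨⟨s, hs⟩, hs'⟩ := (IsLocalization.map_eq_zero_iff (m i).primeCompl (L i) _).1 h
      exact ⟨s, hs, hs'⟩
    let J : Submodule A A := m i ^ nk i * I ^ k
    have hJ : ∃ s ∈ (m i).primeCompl, ∀ j ∈ J, (s * j) • c = 0 := by
      obtain ⟨G, hG⟩ := IsNoetherian.noetherian J
      have hgen : ∀ j ∈ J, ∃ s ∈ (m i).primeCompl, (s * j) • c = 0 := by
        intro j hj
        refine Submodule.mul_induction_on hj (fun z hz' y hy => ?_) fun p q ⟨s, hs, h⟩ ⟨s', hs', h'⟩ => ?_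
        · obtain ⟨s, hs, h⟩ := hz y hy z hz'
          refine ⟨s, hs, ?_⟩
          rw [show s * (z * y) = (s * z) * y by ring, mul_smul, hx y hy, Algebra.smul_def, ← map_mul,
            show s * z * x y hy = s * (z * x y hy) by ring, h, map_zero]
        · refine ⟨s * s', mul_mem hs hs', ?_⟩
          rw [show s * s' * (p + q) = s' * (s * p) + s * (s' * q) by ring, add_smul, mul_smul, mul_smul _ (s' * q), h, h',
            smul_zero, smul_zero, add_zero]
      choose s hs hs' using fun g : G => hgen g (hG.le (Submodule.subset_span g.2))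
      refine ⟨∏ g, s g, prod_mem fun g _ => hs g, fun j hj => ?_⟩
      rw [← hG] at hj
      induction hj using Submodule.span_induction with
      | mem g hg =>
        rw [← Finset.prod_erase_mul _ _ (Finset.mem_univ (⟨g, hg⟩ : G)), mul_assoc, mul_smul]
        exact (hs' ⟨g, hg⟩).symm ▸ smul_zero _
      | zero => rw [mul_zero, zero_smul]
      | add p q _ _ hp hq => rw [mul_add, add_smul, hp, hq, add_zero]
      | smul a p _ hp => rw [smul_eq_mul, mul_left_comm, mul_smul, hp, smul_zero]
    obtain ⟨s, hs, hsJ⟩ := hJ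
    have hw : ∀ j, ∃ w ∉ m i, j ≠ i → w • (s • c).2 j = 0 := by
      intro j
      by_cases hji : j = i
      · exact ⟨1, fun h => (hm i).ne_top ((Ideal.eq_top_iff_one _).2 h), fun h => absurd hji h⟩
      obtain ⟨w, hw, hwi⟩ := Set.not_subset.1 (fun h : (m j : Set A) ⊆ m i => hji (hinj ((hm j).eq_of_le (hm i).ne_top h)))
      have hu : ∀ l, ∃ u : A, u ∉ m j ∧ (l ≠ j → u ∈ m l) := fun l => by
        by_cases hl : l = j
        · exact ⟨1, fun h => (hm j).ne_top ((Ideal.eq_top_iff_one _).2 h), fun h => absurd hl h⟩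
        · obtain ⟨u, hu, huj⟩ := Set.not_subset.1 (fun h : (m l : Set A) ⊆ m j => hl (hinj ((hm l).eq_of_le (hm j).ne_top h)))
          exact ⟨u, huj, fun _ => hu⟩
      choose u hu1 hu2 using hu
      set U := ∏ l, u l
      have hUj : U ∉ m j := fun h => by
        obtain ⟨l, -, hl⟩ := ((hm j).isPrime.prod_mem_iff).1 h; exact hu1 l hl
      have hwI : w * U ∈ I := by
        simp only [I, Submodule.mem_iInf]
        intro l
        by_cases hl : l = j
        · subst hl; exact Ideal.mul_mem_right _ _ hw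
        · exact Ideal.mul_mem_left _ _ (Ideal.mem_of_dvd _ (Finset.dvd_prod_of_mem u (Finset.mem_univ l)) (hu2 l hl))
      obtain ⟨z, hz, hzj⟩ := Set.not_subset.1 (fun h : (m i : Set A) ⊆ m j => hji (hinj ((hm i).eq_of_le (hm j).ne_top h)).symm)
      refine ⟨w ^ k, fun h => hwi ((hm i).isPrime.mem_of_pow_mem k h), fun _ => ?_⟩
      have h := congrArg (fun c : ((∀ p : Out, Localization.AtPrime p.1.asIdeal) × ∀ i, B i) => c.2 j) (hsJ (z ^ nk i * (w * U) ^ k)
        (Ideal.mul_mem_mul (Ideal.pow_mem_pow hz _) (Ideal.pow_mem_pow hwI _)))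
      rw [show s * (z ^ nk i * (w * U) ^ k) = (z ^ nk i * U ^ k) * (w ^ k * s) by ring, mul_smul] at h
      simp only [Prod.smul_snd, Prod.snd_zero, Pi.smul_apply, Pi.zero_apply] at h ⊢
      have hunit : IsUnit (algebraMap A (B j) (z ^ nk i * U ^ k)) := by
        rw [IsScalarTower.algebraMap_apply A (L j) (B j)]
        refine ((IsLocalization.AtPrime.isUnit_to_map_iff (L j) (m j) _).2 fun hmem => ?_).map _
        rcases (hm j).isPrime.mem_or_mem hmem with h | h
        exacts [hzj ((hm j).isPrime.mem_of_pow_mem _ h), hUj ((hm j).isPrime.mem_of_pow_mem _ h)]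
      rw [Algebra.smul_def, mul_smul] at h
      exact hunit.mul_right_eq_zero.1 h
    choose w hw1 hw2 using hw
    refine ⟨(∏ j, w j) * s, fun h => ((hm i).isPrime.mem_or_mem h).elim (fun h => ?_) hs, ?_⟩
    · obtain ⟨j, -, hj⟩ := ((hm i).isPrime.prod_mem_iff).1 h; exact hw1 j hj
    refine Prod.ext (funext fun p => ?_) (funext fun j => ?_)
    · obtain ⟨y, hy, hyp⟩ := hout p k
      obtain ⟨z, hz, hzp⟩ := Set.not_subset.1 (fun h : (m i : Set A) ⊆ p.1.asIdeal => p.2 i ((hm i).eq_of_le p.1.isMaximal.ne_top h).symm)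
      have h := congrArg (fun c : ((∀ p : Out, Localization.AtPrime p.1.asIdeal) × ∀ i, B i) => c.1 p) (hsJ (z ^ nk i * y) (Ideal.mul_mem_mul (Ideal.pow_mem_pow hz _) hy))
      rw [mul_comm s, mul_smul] at h
      simp only [Prod.smul_fst, Prod.fst_zero, Pi.smul_apply, Pi.zero_apply] at h ⊢
      have hunit : IsUnit (algebraMap A (Localization.AtPrime p.1.asIdeal) (z ^ nk i * y)) :=
        (IsLocalization.AtPrime.isUnit_to_map_iff _ p.1.asIdeal _).2 fun hmem =>
          (p.1.isMaximal.isPrime.mem_or_mem hmem).elim (fun h => hzp (p.1.isMaximal.isPrime.mem_of_pow_mem _ h)) hyp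
      rw [Algebra.smul_def] at h
      rw [mul_smul, hunit.mul_right_eq_zero.1 h, smul_zero]
    · simp only [Prod.smul_snd, Prod.snd_zero, Pi.smul_apply, Pi.zero_apply]
      by_cases hji : j = i
      · subst hji; rw [hci, smul_zero]
      · have h := hw2 j hji
        simp only [Prod.smul_snd, Pi.smul_apply] at h
        rw [← Finset.prod_erase_mul _ _ (Finset.mem_univ j), mul_assoc, mul_smul, mul_smul (w j), h, smul_zero]
  -- surjectivity up to elements outside `m i`
  have hlift : ∀ i (b : B i), ∃ s ∈ (m i).primeCompl, ∃ c ∈ C, c.2 i = algebraMap A (B i) s * b := by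
    intro i b
    obtain ⟨G, hG⟩ := IsNoetherian.noetherian (m i ^ nc i)
    have hsolve : ∀ y : G, ∃ q : A × (m i).primeCompl,
        algebraMap A (B i) (q.2 : A) * ((y : A) • b) = algebraMap A (B i) q.1 := fun y => by
      obtain ⟨x, hx⟩ := hnc i (algebraMap A (L i) (y : A))
        (by rw [← Ideal.map_pow]; exact Ideal.mem_map_of_mem _ (hG.le (Submodule.subset_span y.2))) b
      obtain ⟨q, hq⟩ := IsLocalization.surj (m i).primeCompl x
      refine ⟨q, ?_⟩
      rw [algebraMap_smul] at hx
      rw [← hx, IsScalarTower.algebraMap_apply A (L i) (B i) q.1, ← hq, map_mul, mul_comm,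
        ← IsScalarTower.algebraMap_apply]
    choose q hq using hsolve
    let σ : A := ∏ y, ((q y).2 : A)
    have hσ : σ ∈ (m i).primeCompl := prod_mem fun y _ => (q y).2.2
    let α : G → A := fun y => (∏ z ∈ Finset.univ.erase y, ((q z).2 : A)) * (q y).1
    have hα : ∀ y : G, algebraMap A (B i) (α y) = algebraMap A (B i) ((y : A) * σ) * b := fun y => by
      simp only [α, σ]
      rw [map_mul, ← hq y, ← Finset.prod_erase_mul _ _ (Finset.mem_univ y), map_mul, map_mul, Algebra.smul_def]
      ring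
    obtain ⟨H, hH⟩ := IsNoetherian.noetherian (m i ^ nk i)
    have hrel : ∀ (y y' : G) (z z' : H), ∃ s ∈ (m i).primeCompl, s * ((z : A) * (z' : A) * (α y * y' - α y' * y)) = 0 := by
      intro y y' z z'
      have h0 : algebraMap (L i) (B i) (algebraMap A (L i) ((z' : A) * (α y * y' - α y' * y))) = 0 := by
        rw [← IsScalarTower.algebraMap_apply, map_mul, map_sub, map_mul _ (α y), map_mul _ (α y'), hα, hα, map_mul, map_mul]; ring
      have h := hnk i _ h0 (algebraMap A (L i) (z : A))
        (by rw [← Ideal.map_pow]; exact Ideal.mem_map_of_mem _ (hH.le (Submodule.subset_span z.2)))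
      rw [← map_mul] at h
      obtain ⟨⟨s, hs⟩, hs'⟩ := (IsLocalization.map_eq_zero_iff (m i).primeCompl (L i) _).1 h
      exact ⟨s, hs, by rw [show (z : A) * z' * (α y * y' - α y' * y) = z * (z' * (α y * y' - α y' * y)) by ring]; exact hs'⟩
    choose ρ hρ hρ' using hrel
    let τ : A := ∏ y, ∏ y', ∏ z, ∏ z', ρ y y' z z'
    have hτ : τ ∈ (m i).primeCompl := prod_mem fun y _ => prod_mem fun y' _ => prod_mem fun z _ => prod_mem fun z' _ => hρ y y' z z'
    have hτ' : ∀ (y y' : G) (z z' : H), τ * ((z : A) * z' * (α y * y' - α y' * y)) = 0 := fun y y' z z' => by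
      obtain ⟨d, hd⟩ := (((Finset.dvd_prod_of_mem (ρ y y' z) (Finset.mem_univ z')).trans
        (Finset.dvd_prod_of_mem (fun z => ∏ z', ρ y y' z z') (Finset.mem_univ z))).trans
        (Finset.dvd_prod_of_mem (fun y' => ∏ z, ∏ z', ρ y y' z z') (Finset.mem_univ y'))).trans
        (Finset.dvd_prod_of_mem (fun y => ∏ y', ∏ z, ∏ z', ρ y y' z z') (Finset.mem_univ y))
      rw [show τ = ρ y y' z z' * d from hd, mul_comm (ρ y y' z z'), mul_assoc, hρ', mul_zero]
    let g : G × H → A := fun l => (l.1 : A) * (l.2 : A)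
    let β : G × H → A := fun l => τ * α l.1 * (l.2 : A)
    have hgβ : ∀ l l', g l * β l' = g l' * β l := fun l l' => by
      have := hτ' l'.1 l.1 l.2 l'.2
      simp only [g, β]
      linear_combination this
    have havoid : ∀ (M : Ideal A), M.IsMaximal → M ≠ m i → ∃ l, g l ∉ M := by
      intro M hM hne
      obtain ⟨z, hz, hzM⟩ := Set.not_subset.1 (fun h : (m i : Set A) ⊆ M => hne ((hm i).eq_of_le hM.ne_top h).symm)
      have pick : ∀ (n : ℕ) (S : Finset A), Submodule.span A (S : Set A) = m i ^ n → ∃ y : S, (y : A) ∉ M := fun n S hS => by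
        by_contra hc
        push Not at hc
        exact hzM (hM.isPrime.mem_of_pow_mem n (Submodule.span_le.2 (fun y hy => hc ⟨y, hy⟩)
          (hS.ge (Ideal.pow_mem_pow hz n))))
      obtain ⟨y, hy⟩ := pick _ G hG
      obtain ⟨w, hw⟩ := pick _ H hH
      exact ⟨(y, w), fun h => (hM.isPrime.mem_or_mem h).elim hy hw⟩
    choose lp hlp using fun p : Out => havoid p.1.asIdeal p.1.isMaximal (p.2 i)
    have hlj' : ∀ j, ∃ v : B j, (j = i → True) ∧ (j ≠ i → ∀ l, algebraMap A (B j) (g l) * v = algebraMap A (B j) (β l)) := by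
      intro j
      by_cases hji : j = i
      · exact ⟨0, fun _ => trivial, fun h => absurd hji h⟩
      obtain ⟨l₀, hl₀⟩ := havoid (m j) (hm j) fun h => hji (hinj h)
      have hu : IsUnit (algebraMap A (B j) (g l₀)) := by
        rw [IsScalarTower.algebraMap_apply A (L j) (B j)]
        exact ((IsLocalization.AtPrime.isUnit_to_map_iff (L j) (m j) _).2 hl₀).map _
      refine ⟨((hu.unit⁻¹ : (B j)ˣ) : B j) * algebraMap A (B j) (β l₀), fun _ => trivial, fun _ l => hu.mul_left_cancel ?_⟩
      rw [mul_left_comm, ← mul_assoc _ _ (algebraMap A (B j) (β l₀)), IsUnit.mul_val_inv, one_mul, ← map_mul, ← map_mul,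
        hgβ]
    choose vj _ hvj using hlj'
    have hup : ∀ p : Out, IsUnit (algebraMap A (Localization.AtPrime p.1.asIdeal) (g (lp p))) := fun p =>
      (IsLocalization.AtPrime.isUnit_to_map_iff _ p.1.asIdeal _).2 (hlp p)
    let c : ((∀ p : Out, Localization.AtPrime p.1.asIdeal) × ∀ i, B i) := (fun p => ((hup p).unit⁻¹ : (Localization.AtPrime p.1.asIdeal)ˣ).1 * algebraMap A _ (β (lp p)),
      Function.update vj i (algebraMap A (B i) (τ * σ) * b))
    refine ⟨τ * σ, mul_mem hτ hσ, c, ⟨nc i + nk i, fun y hy => ?_⟩, Function.update_self _ _ _⟩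
    have hc : ∀ l, g l • c = algebraMap A ((∀ p : Out, Localization.AtPrime p.1.asIdeal) × ∀ i, B i) (β l) := fun l => by
      refine Prod.ext (funext fun p => (hup p).mul_left_cancel ?_) (funext fun j => ?_)
      · simp only [Prod.smul_fst, Pi.smul_apply, c]
        rw [Algebra.smul_def]
        change _ = algebraMap A _ (g (lp p)) * algebraMap A (Localization.AtPrime p.1.asIdeal) (β l)
        rw [mul_left_comm, ← mul_assoc _ _ (algebraMap A _ (β (lp p))), IsUnit.mul_val_inv, one_mul, ← map_mul, ← map_mul,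
          hgβ]
      · simp only [Prod.smul_snd, Pi.smul_apply, c]
        rw [Algebra.smul_def]
        change _ = algebraMap A (B j) (β l)
        by_cases hji : j = i
        · subst hji
          rw [Function.update_self]
          simp only [g, β]
          rw [map_mul _ (τ * α l.1), map_mul _ τ (α l.1), hα, map_mul, map_mul, map_mul]
          ring
        · rw [Function.update_of_ne hji]; exact hvj j hji l
    have hy' : y ∈ Ideal.span (Set.range g) := by
      have h1 : I ^ (nc i + nk i) ≤ Submodule.span A (G : Set A) * Submodule.span A (H : Set A) := by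
        rw [hG, hH, pow_add]
        exact Ideal.mul_mono (Ideal.pow_right_mono (hI i) _) (Ideal.pow_right_mono (hI i) _)
      refine (h1.trans ?_) hy
      rw [Submodule.span_mul_span]
      refine Ideal.span_mono ?_
      rintro _ ⟨u, hu, v, hv, rfl⟩
      exact ⟨(⟨u, hu⟩, ⟨v, hv⟩), rfl⟩
    clear hy
    induction hy' using Submodule.span_induction with
    | mem w hw => obtain ⟨l, rfl⟩ := hw; exact ⟨β l, hc l⟩
    | zero => exact ⟨0, by rw [zero_smul, map_zero]⟩
    | add u v _ _ hu hv => obtain ⟨x, hx⟩ := hu; obtain ⟨x', hx'⟩ := hv; exact ⟨x + x', by rw [add_smul, hx, hx', map_add]⟩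
    | smul a u _ hu => obtain ⟨x, hx⟩ := hu; exact ⟨a * x, by rw [smul_eq_mul, mul_smul, hx, Algebra.smul_def, map_mul]⟩
  refine ⟨C, inferInstance, inferInstance, fun i => ?_, ?_, ?_, ?_, ?_⟩
  · let ψ : C →ₐ[A] B i := ((Pi.evalAlgHom A B i).comp (AlgHom.snd A _ _)).comp C.val
    refine tensor_equiv_of_localized (m i).primeCompl (L i) ψ (fun b => ?_) fun c hc => ?_
    · obtain ⟨s, hs, c, hc, hcb⟩ := hlift i b
      exact ⟨s, hs, ⟨c, hc⟩, hcb⟩
    · obtain ⟨s, hs, h⟩ := hsep i c.1 c.2 hc
      exact ⟨s, hs, Subtype.ext (by rw [MulMemClass.coe_mul, Subalgebra.coe_algebraMap, ← Algebra.smul_def]; exact h)⟩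
  · refine ⟨(Finset.univ.sup nc) + Finset.univ.sup nk, fun x hx y hy => ?_, fun y hy c => ?_⟩
    · have hx0 : algebraMap A ((∀ p : Out, Localization.AtPrime p.1.asIdeal) × ∀ i, B i) x = 0 := congrArg Subtype.val hx
      have h := hmax ((⊥ : Ideal A).colon {y * x}) (fun i => ?_) (fun p => ?_)
      · have := (Ideal.eq_top_iff_one _).1 h
        rwa [Submodule.mem_colon_singleton, one_smul, Submodule.mem_bot] at this
      · have hyi : algebraMap A (L i) y ∈ Ideal.map (algebraMap A (L i)) (m i) ^ nk i := by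
          rw [← Ideal.map_pow]
          exact Ideal.mem_map_of_mem _ (Ideal.pow_right_mono (hI i) _ (Ideal.pow_le_pow_right
            ((Finset.le_sup (Finset.mem_univ i)).trans (Nat.le_add_left _ _)) hy))
        have h := hnk i _ (congrArg (fun c : ((∀ p : Out, Localization.AtPrime p.1.asIdeal) × ∀ i, B i) => c.2 i) hx0 : algebraMap (L i) (B i) (algebraMap A (L i) x) = 0) _ hyi
        rw [← map_mul] at h
        obtain ⟨⟨s, hs⟩, hs'⟩ := (IsLocalization.map_eq_zero_iff (m i).primeCompl (L i) _).1 h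
        exact ⟨s, Submodule.mem_colon_singleton.2 (by rw [smul_eq_mul]; exact hs'), hs⟩
      · obtain ⟨⟨s, hs⟩, hs'⟩ := (IsLocalization.map_eq_zero_iff p.1.asIdeal.primeCompl
          (Localization.AtPrime p.1.asIdeal) _).1 (congrArg (fun c : ((∀ p : Out, Localization.AtPrime p.1.asIdeal) × ∀ i, B i) => c.1 p) hx0)
        refine ⟨s, Submodule.mem_colon_singleton.2 ?_, hs⟩
        rw [smul_eq_mul, Submodule.mem_bot, mul_left_comm, show s * x = 0 from hs', mul_zero]
    · have h := hmax ((LinearMap.range (Algebra.linearMap A C)).colon {y • c}) (fun i => ?_) (fun p => ?_)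
      · have := (Ideal.eq_top_iff_one _).1 h
        rwa [Submodule.mem_colon_singleton, one_smul] at this
      · obtain ⟨x, hx⟩ := hnc i (algebraMap A (L i) y) (by
          rw [← Ideal.map_pow]
          exact Ideal.mem_map_of_mem _ (Ideal.pow_right_mono (hI i) _ (Ideal.pow_le_pow_right
            ((Finset.le_sup (Finset.mem_univ i)).trans (Nat.le_add_right _ _)) hy))) (c.1.2 i)
        rw [algebraMap_smul] at hx
        obtain ⟨⟨a, s, hs⟩, has⟩ := IsLocalization.surj (m i).primeCompl x
        have hzero : ((s • y • c.1) - algebraMap A ((∀ p : Out, Localization.AtPrime p.1.asIdeal) × ∀ i, B i) a).2 i = 0 := by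
          simp only [Prod.snd_sub, Prod.smul_snd, Pi.sub_apply, Pi.smul_apply]
          change s • y • c.1.2 i - algebraMap A (B i) a = 0
          rw [← hx, IsScalarTower.algebraMap_apply A (L i) (B i) a, ← has, Algebra.smul_def, map_mul,
            IsScalarTower.algebraMap_apply A (L i) (B i) s, mul_comm, sub_self]
        obtain ⟨r', hr', hr⟩ := hsep i _ (C.sub_mem (C.smul_mem (C.smul_mem c.2 y) s) (C.algebraMap_mem a)) hzero
        rw [smul_sub, sub_eq_zero] at hr
        refine ⟨r' * s, Submodule.mem_colon_singleton.2 ⟨r' * a, Subtype.ext ?_⟩,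
          fun h => ((hm i).isPrime.mem_or_mem h).elim hr' hs⟩
        rw [Algebra.linearMap_apply, Subalgebra.coe_algebraMap, map_mul, ← Algebra.smul_def]
        simp only [Subalgebra.coe_smul, mul_smul]
        exact hr.symm
      · obtain ⟨k, hk⟩ := c.2
        obtain ⟨z, hz, hzp⟩ := hout p k
        obtain ⟨x, hx⟩ := hk z hz
        refine ⟨z, Submodule.mem_colon_singleton.2 ⟨y * x, Subtype.ext ?_⟩, hzp⟩
        rw [Algebra.linearMap_apply, Subalgebra.coe_algebraMap, map_mul, ← hx, ← Algebra.smul_def]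
        simp only [Subalgebra.coe_smul, smul_comm z y]
  · intro hfin
    choose G hG using fun i => (RingHom.finite_algebraMap.1 (hfin i)).fg_top
    choose s hs c hc hcb using fun i (b : G i) => hlift i (b : B i)
    let Z : Submodule A C := Submodule.span A (insert 1 (⋃ i, Set.range fun b : G i => (⟨c i b, hc i b⟩ : C)))
    rw [RingHom.finite_algebraMap, Module.finite_def]
    suffices hZ : Z = ⊤ by
      rw [← hZ]
      exact Submodule.fg_span ((Set.finite_iUnion fun i => Set.finite_range _).insert _)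
    refine Submodule.eq_top_iff'.2 fun d => ?_
    have h1 : ∀ a : A, algebraMap A C a ∈ Z := fun a => by
      rw [Algebra.algebraMap_eq_smul_one]; exact Z.smul_mem a (Submodule.subset_span (Set.mem_insert _ _))
    have h := hmax (Z.colon {d}) (fun i => ?_) (fun p => ?_)
    · have := (Ideal.eq_top_iff_one _).1 h
      rwa [Submodule.mem_colon_singleton, one_smul] at this
    · have hd : d.1.2 i ∈ Submodule.span (L i) (G i : Set (B i)) := by rw [hG i]; exact Submodule.mem_top
      have key : ∀ v ∈ Submodule.span (L i) (G i : Set (B i)),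
          ∃ s ∈ (m i).primeCompl, ∃ e ∈ Z, e.1.2 i = algebraMap A (B i) s * v := by
        intro v hv
        induction hv using Submodule.span_induction with
        | mem v hv =>
          exact ⟨_, hs i ⟨v, hv⟩, _, Submodule.subset_span (Set.mem_insert_of_mem _
            (Set.mem_iUnion.2 ⟨i, ⟨v, hv⟩, rfl⟩)), hcb i ⟨v, hv⟩⟩
        | zero => exact ⟨1, one_mem _, 0, Z.zero_mem, by simp⟩
        | add u v _ _ hu hv =>
          obtain ⟨s, hs, e, he, h⟩ := hu; obtain ⟨s', hs', e', he', h'⟩ := hv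
          refine ⟨s * s', mul_mem hs hs', s' • e + s • e', Z.add_mem (Z.smul_mem _ he) (Z.smul_mem _ he'), ?_⟩
          simp only [Subalgebra.coe_smul, AddMemClass.coe_add, Prod.snd_add, Prod.smul_snd, Pi.add_apply, Pi.smul_apply, h, h']
          simp only [Algebra.smul_def, map_mul]
          ring
        | smul l v _ hv =>
          obtain ⟨s, hs, e, he, h⟩ := hv
          obtain ⟨a, ⟨t, ht⟩, rfl⟩ := IsLocalization.exists_mk'_eq (m i).primeCompl l
          refine ⟨t * s, mul_mem ht hs, a • e, Z.smul_mem _ he, ?_⟩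
          simp only [Subalgebra.coe_smul, Prod.smul_snd, Pi.smul_apply, h]
          simp only [Algebra.smul_def, map_mul,
            IsScalarTower.algebraMap_apply A (L i) (B i) a, IsScalarTower.algebraMap_apply A (L i) (B i) t,
            ← IsLocalization.mk'_spec (L i) a ⟨t, ht⟩]
          ring
      obtain ⟨s, hs, e, he, h⟩ := key _ hd
      obtain ⟨r', hr', hr⟩ := hsep i (s • d.1 - e.1) (C.sub_mem (C.smul_mem d.2 s) e.2) (by
        simp only [Prod.snd_sub, Prod.smul_snd, Pi.sub_apply, Pi.smul_apply, h]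
        rw [Algebra.smul_def, sub_self])
      rw [smul_sub, sub_eq_zero] at hr
      refine ⟨r' * s, Submodule.mem_colon_singleton.2 ?_, fun h => ((hm i).isPrime.mem_or_mem h).elim hr' hs⟩
      rw [show (r' * s) • d = r' • e from Subtype.ext (by simp only [Subalgebra.coe_smul, mul_smul]; exact hr)]
      exact Z.smul_mem _ he
    · obtain ⟨k, hk⟩ := d.2
      obtain ⟨z, hz, hzp⟩ := hout p k
      obtain ⟨x, hx⟩ := hk z hz
      refine ⟨z, Submodule.mem_colon_singleton.2 ?_, hzp⟩
      rw [show z • d = algebraMap A C x from Subtype.ext hx]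
      exact h1 x
  · intro hinjB
    refine (injective_iff_map_eq_zero _).2 fun x hx => ?_
    have hx0 : algebraMap A ((∀ p : Out, Localization.AtPrime p.1.asIdeal) × ∀ i, B i) x = 0 := congrArg Subtype.val hx
    have h := hmax ((⊥ : Ideal A).colon {x}) (fun i => ?_) (fun p => ?_)
    · have := (Ideal.eq_top_iff_one _).1 h
      rwa [Submodule.mem_colon_singleton, one_smul, Submodule.mem_bot] at this
    · have h : algebraMap A (L i) x = 0 := hinjB i ((congrArg (fun c : ((∀ p : Out, Localization.AtPrime p.1.asIdeal) × ∀ i, B i) => c.2 i) hx0).trans (map_zero _).symm)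
      obtain ⟨⟨s, hs⟩, hs'⟩ := (IsLocalization.map_eq_zero_iff (m i).primeCompl (L i) _).1 h
      exact ⟨s, Submodule.mem_colon_singleton.2 hs', hs⟩
    · obtain ⟨⟨s, hs⟩, hs'⟩ := (IsLocalization.map_eq_zero_iff p.1.asIdeal.primeCompl
        (Localization.AtPrime p.1.asIdeal) _).1 (congrArg (fun c : ((∀ p : Out, Localization.AtPrime p.1.asIdeal) × ∀ i, B i) => c.1 p) hx0)
      exact ⟨s, Submodule.mem_colon_singleton.2 hs', hs⟩
  · intro hsurjB d
    have h := hmax ((LinearMap.range (Algebra.linearMap A C)).colon {d}) (fun i => ?_) (fun p => ?_)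
    · have := (Ideal.eq_top_iff_one _).1 h
      rwa [Submodule.mem_colon_singleton, one_smul] at this
    · obtain ⟨x, hx⟩ := hsurjB i (d.1.2 i)
      obtain ⟨⟨a, s, hs⟩, has⟩ := IsLocalization.surj (m i).primeCompl x
      have hzero : (s • d.1 - algebraMap A ((∀ p : Out, Localization.AtPrime p.1.asIdeal) × ∀ i, B i) a).2 i = 0 := by
        simp only [Prod.snd_sub, Prod.smul_snd, Pi.sub_apply, Pi.smul_apply]
        change s • d.1.2 i - algebraMap A (B i) a = 0
        rw [← hx, IsScalarTower.algebraMap_apply A (L i) (B i) a, ← has, Algebra.smul_def, map_mul,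
          IsScalarTower.algebraMap_apply A (L i) (B i) s, mul_comm, sub_self]
      obtain ⟨r', hr', hr⟩ := hsep i _ (C.sub_mem (C.smul_mem d.2 s) (C.algebraMap_mem a)) hzero
      rw [smul_sub, sub_eq_zero] at hr
      refine ⟨r' * s, Submodule.mem_colon_singleton.2 ⟨r' * a, Subtype.ext ?_⟩,
        fun h => ((hm i).isPrime.mem_or_mem h).elim hr' hs⟩
      rw [Algebra.linearMap_apply, Subalgebra.coe_algebraMap, map_mul, ← Algebra.smul_def]
      simp only [Subalgebra.coe_smul, mul_smul]
      exact hr.symm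
    · obtain ⟨k, hk⟩ := d.2
      obtain ⟨z, hz, hzp⟩ := hout p k
      obtain ⟨x, hx⟩ := hk z hz
      exact ⟨z, Submodule.mem_colon_singleton.2 ⟨x, Subtype.ext hx.symm⟩, hzp⟩

end Groth.MilnorKLambda.Amb
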