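import Groth.Agent.MilnorKLambda.Tame1.Bound
import Groth.Agent.MilnorKLambda.Tame1.Decomp
import Groth.Agent.MilnorKLambda.Tame1.Fac
import Mathlib.RingTheory.Norm.Transitivity
import Mathlib.RingTheory.LocalRing.ResidueField.Ideal
import Mathlib.RingTheory.Ideal.MinimalPrime.Localization

/-!
# Localisations of a finite extension at its maximal ideals
-/

set_option autoImplicit false
universe u

open IsLocalRing Finset

namespace Groth.MilnorKLambda.Amb

theorem krullDimLE_one_of_finite (R : Type u) [CommRing R] [Ring.KrullDimLE 1 R] (B : Type u) [CommRing B]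
    [Algebra R B] [Module.Finite R B] : Ring.KrullDimLE 1 B := by
  refine Ring.KrullDimLE.mk₁ fun I hI => ?_
  by_contra hcon
  push Not at hcon
  obtain ⟨hmin, hmax⟩ := hcon
  obtain ⟨P, hP, hPI⟩ := Ideal.exists_minimalPrimes_le (bot_le : ⊥ ≤ I)
  have hne : P < I := hPI.lt_of_ne fun h => hmin (h ▸ hP)
  have : P.IsPrime := hP.1.1
  have hlt := Ideal.IsIntegral.comap_lt_comap (R := R) hne
  rcases Ring.krullDimLE_one_iff.1 ‹_› (I.comap (algebraMap R B)) (hI.comap _) with h | h
  · exact absurd (h.2 ⟨this.comap _, bot_le⟩ hlt.le) (not_le_of_gt hlt)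
  · exact hmax (Ideal.isMaximal_of_isIntegral_of_isMaximal_comap I h)

variable {R : Type u} [CommRing R] [IsNoetherianRing R] [IsLocalRing R] [Ring.KrullDimLE 1 R]
  {B : Type u} [CommRing B] [Algebra R B] [Module.Finite R B]

omit [IsNoetherianRing R] [Ring.KrullDimLE 1 R] in
theorem comap_eq_maximalIdeal (M : Ideal B) [M.IsMaximal] : M.comap (algebraMap R B) = maximalIdeal R :=
  eq_maximalIdeal (Ideal.isMaximal_comap_of_isIntegral_of_isMaximal M)

omit [IsNoetherianRing R] [Ring.KrullDimLE 1 R] in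
theorem isLocalHom_atPrime (M : Ideal B) [M.IsMaximal] :
    IsLocalHom (algebraMap R (Localization.AtPrime M)) := by
  refine ⟨fun r hr => ?_⟩
  by_contra hc
  rw [IsScalarTower.algebraMap_apply R B, IsLocalization.AtPrime.isUnit_to_map_iff (Localization.AtPrime M) M] at hr
  exact hr ((Ideal.mem_comap (f := algebraMap R B)).1 (comap_eq_maximalIdeal (R := R) M ▸ hc))

variable {a : R} {Q : Type u} [CommRing Q] [Algebra R Q] (hQ : IsAmb Q a) (ι : B →ₐ[R] Q)
  (hι : Function.Injective ι)
include hQ hι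

omit [Module.Finite R B] [IsNoetherianRing R] [Ring.KrullDimLE 1 R] hQ in
theorem nzd_of_isUnit {g : B} (hg : IsUnit (ι g)) : g ∈ nonZeroDivisors B :=
  mem_nonZeroDivisors_iff_right.2 fun x hx => hι (by
    rw [map_zero]; exact hg.mul_left_eq_zero.1 (by rw [← map_mul, hx, map_zero]))

theorem isUnit_of_nzd' {g : B} (hg : g ∈ nonZeroDivisors B) : IsUnit (ι g) := by
  have := krullDimLE_one_of_finite R B
  have hrad : algebraMap R B a ∈ (Ideal.span {g}).radical := by
    rw [Ideal.radical_eq_sInf, Submodule.mem_sInf]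
    rintro P ⟨hgP, hP⟩
    rcases Ring.krullDimLE_one_iff.1 this P hP with h | h
    · exact absurd hg (notMem_nonZeroDivisors_of_mem_mem_minimalPrimes (hgP (Ideal.mem_span_singleton_self g)) h)
    · exact (Ideal.mem_comap (f := algebraMap R B)).1 (by rw [comap_eq_maximalIdeal P]; exact hQ.mem)
  obtain ⟨k, hk⟩ := hrad
  obtain ⟨c, hc⟩ := Ideal.mem_span_singleton'.1 hk
  refine isUnit_of_mul_isUnit_right (x := ι c) ?_
  rw [← map_mul, hc, map_pow, AlgHom.commutes]
  exact hQ.unit.pow k

omit [Ring.KrullDimLE 1 R] [IsNoetherianRing R] in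
theorem nzd_algebraMap_atPrime (M : Ideal B) [M.IsMaximal] {g : B} (hg : IsUnit (ι g)) :
    algebraMap B (Localization.AtPrime M) g ∈ nonZeroDivisors (Localization.AtPrime M) := by
  refine mem_nonZeroDivisors_iff_right.2 fun y hy => ?_
  obtain ⟨⟨x, s⟩, hxs⟩ := IsLocalization.surj M.primeCompl y
  have h0 : algebraMap B (Localization.AtPrime M) (x * g) = 0 := by
    rw [map_mul, ← hxs, mul_right_comm, hy, zero_mul]
  obtain ⟨t, ht⟩ := (IsLocalization.map_eq_zero_iff M.primeCompl _ _).1 h0
  have : (t : B) * x = 0 := (mem_nonZeroDivisors_iff_right.1 (nzd_of_isUnit ι hι hg)) _ (by rw [mul_assoc]; exact ht)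
  have hx0 : algebraMap B (Localization.AtPrime M) x = 0 := (IsLocalization.map_eq_zero_iff M.primeCompl _ _).2 ⟨t, this⟩
  simp only [hx0] at hxs
  exact (IsLocalization.map_units (Localization.AtPrime M) s).mul_left_eq_zero.1 hxs

/-- A nonzerodivisor of a local ring of `B` comes, up to a unit, from an element of `B` invertible in `Q`
lying in no other maximal ideal. -/
theorem exists_lift (M : Ideal B) [M.IsMaximal] {π : Localization.AtPrime M}
    (hπ : π ∈ nonZeroDivisors (Localization.AtPrime M)) :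
    ∃ g : B, IsUnit (ι g) ∧ Associated π (algebraMap B _ g) ∧ ∀ N : Ideal B, N.IsMaximal → N ≠ M → g ∉ N := by
  classical
  have : IsNoetherianRing B := Algebra.FiniteType.isNoetherianRing R B
  have hdimB := krullDimLE_one_of_finite R B
  have : IsNoetherianRing (Localization.AtPrime M) := IsLocalization.isNoetherianRing M.primeCompl _ inferInstance
  have hdimL : Ring.KrullDimLE 1 (Localization.AtPrime M) := by
    refine Ring.KrullDimLE.mk₁ fun P hP => ?_
    rcases Ring.krullDimLE_one_iff.1 hdimB (P.comap (algebraMap B _)) (hP.comap _) with h | h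
    · refine Or.inl ⟨⟨hP, bot_le⟩, fun P' hP' hle => ?_⟩
      have := h.2 ⟨hP'.1.comap _, bot_le⟩ (Ideal.comap_mono hle)
      rw [← IsLocalization.map_comap M.primeCompl _ P, ← IsLocalization.map_comap M.primeCompl _ P']
      exact Ideal.map_mono this
    · right
      have hle : P.comap (algebraMap B (Localization.AtPrime M)) ≤ M := fun x hx => by
        by_contra hxM
        exact hP.ne_top (Ideal.eq_top_of_isUnit_mem _ hx ((IsLocalization.AtPrime.isUnit_to_map_iff _ M x).2 hxM))
      have he : P = maximalIdeal (Localization.AtPrime M) := by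
        rw [← IsLocalization.map_comap M.primeCompl _ P,
          show P.under B = M from h.eq_of_le (Ideal.IsMaximal.ne_top ‹_›) hle,
          Localization.AtPrime.map_eq_maximalIdeal]
      rw [he]; exact maximalIdeal.isMaximal _
  have hunitA : IsUnit (ι (algebraMap R B a)) := by rw [AlgHom.commutes]; exact hQ.unit
  have hamem : algebraMap B (Localization.AtPrime M) (algebraMap R B a) ∈ maximalIdeal _ := by
    rw [IsLocalization.AtPrime.to_map_mem_maximal_iff (Localization.AtPrime M) M]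
    exact (Ideal.mem_comap (f := algebraMap R B)).1 (by rw [comap_eq_maximalIdeal M]; exact hQ.mem)
  obtain ⟨n, hn⟩ := exists_pow_le_span hπ
  obtain ⟨⟨g₀, s⟩, hg₀⟩ := IsLocalization.surj M.primeCompl π
  set A' := algebraMap R B a
  have hπd : π ∣ algebraMap B (Localization.AtPrime M) A' ^ n := Ideal.mem_span_singleton.1 (hn (Ideal.pow_mem_pow hamem n))
  have := finite_maximalSpectrum (R := R) (S := B)
  have := Fintype.ofFinite (MaximalSpectrum B)
  let J : Ideal B := ⨅ N : MaximalSpectrum B, N.asIdeal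
  have hJrad : J ≤ (Ideal.span {A' ^ (n + 1)}).radical := by
    rw [Ideal.radical_eq_sInf]
    refine le_sInf fun P hP => ?_
    rcases Ring.krullDimLE_one_iff.1 hdimB P hP.2 with h | h
    · exact absurd (pow_mem (nzd_of_isUnit ι hι hunitA) (n + 1))
        (notMem_nonZeroDivisors_of_mem_mem_minimalPrimes (hP.1 (Ideal.mem_span_singleton_self _)) h)
    · exact iInf_le _ (⟨P, h⟩ : MaximalSpectrum B)
  obtain ⟨K, hK⟩ := Ideal.exists_pow_le_of_le_radical_of_fg hJrad (IsNoetherian.noetherian J)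
  have hcop : Pairwise (Function.onFun IsCoprime fun N : MaximalSpectrum B => N.asIdeal ^ (K + 1)) :=
    fun N N' hne => IsCoprime.pow (Ideal.isCoprime_iff_sup_eq.2
      (N.isMaximal.coprime_of_ne N'.isMaximal fun h => hne (MaximalSpectrum.ext h)))
  obtain ⟨g, hg⟩ := Ideal.exists_forall_sub_mem_ideal hcop (Pi.single (⟨M, ‹_›⟩ : MaximalSpectrum B) (g₀ - 1) + 1)
  have hgM : g - g₀ ∈ M ^ (K + 1) := by simpa using hg ⟨M, ‹_›⟩
  have hgN : ∀ N : Ideal B, N.IsMaximal → N ≠ M → g ∉ N := fun N hN hne hgmem => by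
    have := hg ⟨N, hN⟩
    rw [Pi.add_apply, Pi.single_eq_of_ne (fun h => hne (congrArg MaximalSpectrum.asIdeal h)), zero_add, Pi.one_apply] at this
    refine hN.ne_top (Ideal.eq_top_of_isUnit_mem _ (?_ : (1 : B) ∈ N) isUnit_one)
    have h2 := N.sub_mem hgmem (Ideal.pow_le_self (by omega) this)
    rwa [sub_sub_cancel] at h2
  obtain ⟨t, htM, ht⟩ : ∃ t ∉ M, ∀ N : MaximalSpectrum B, N.asIdeal ≠ M → t ∈ N.asIdeal := by
    choose t ht1 ht2 using fun N : MaximalSpectrum B => (show N.asIdeal ≠ M → ∃ x ∈ N.asIdeal, x ∉ M from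
      fun h => Set.not_subset.1 fun hsub => h (N.isMaximal.eq_of_le (Ideal.IsMaximal.ne_top ‹_›) hsub))
    refine ⟨∏ N : {N : MaximalSpectrum B // N.asIdeal ≠ M}, t N.1 N.2, fun h => ?_, fun N hN => ?_⟩
    · obtain ⟨N, -, hN⟩ := ((Ideal.IsMaximal.isPrime ‹_›).prod_mem_iff).1 h
      exact ht2 N.1 N.2 hN
    · exact Ideal.mem_of_dvd _ (Finset.dvd_prod_of_mem _ (Finset.mem_univ ⟨N, hN⟩)) (ht1 N hN)
  have hloc : (g - g₀) * t ^ (K + 1) ∈ Ideal.span {A' ^ (n + 1)} := by
    have hmul : M * Ideal.span {t} ≤ J := by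
      rw [Ideal.mul_le]
      intro x hx y hy
      simp only [J, Submodule.mem_iInf]
      intro N
      by_cases hN : N.asIdeal = M
      · exact Ideal.mul_mem_right _ _ (hN ▸ hx)
      · exact Ideal.mul_mem_left _ _ (Ideal.mem_of_dvd _ (Ideal.mem_span_singleton.1 hy) (ht N hN))
    refine hK (Ideal.pow_le_pow_right (Nat.le_succ K) (Ideal.pow_right_mono hmul (K + 1) ?_))
    rw [mul_pow, Ideal.span_singleton_pow]
    exact Ideal.mul_mem_mul hgM (Ideal.mem_span_singleton_self _)
  set f := algebraMap B (Localization.AtPrime M)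
  have hunit : ∀ {x : B}, x ∉ M → IsUnit (f x) := fun hx => (IsLocalization.AtPrime.isUnit_to_map_iff _ M _).2 hx
  obtain ⟨c, hc⟩ := Ideal.mem_span_singleton'.1 hloc
  obtain ⟨d, hd⟩ := hπd
  have htK : IsUnit (f t ^ (K + 1)) := (hunit htM).pow _
  obtain ⟨w, hw⟩ := htK
  -- `g = g₀ + π * (element of the maximal ideal)`
  have hfg : f g = f g₀ + π * (d * f A' * f c * ((w⁻¹ : (Localization.AtPrime M)ˣ) : Localization.AtPrime M)) := by
    have := congrArg f hc
    rw [map_mul, map_mul, map_sub, map_pow, map_pow, ← hw, pow_succ] at this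
    rw [show π * (d * f A' * f c * ((w⁻¹ : (Localization.AtPrime M)ˣ) : Localization.AtPrime M)) =
      f c * ((π * d) * f A') * ((w⁻¹ : (Localization.AtPrime M)ˣ) : Localization.AtPrime M) by ring, ← hd, this,
      Units.mul_inv_cancel_right, add_sub_cancel]
  have hassoc : Associated π (f g) := by
    have hu : IsUnit (f (s : B) + d * f A' * f c * ((w⁻¹ : (Localization.AtPrime M)ˣ) : Localization.AtPrime M)) := by
      rw [← residue_ne_zero_iff_isUnit, map_add, (residue_eq_zero_iff _).2
        (Ideal.mul_mem_right _ _ (Ideal.mul_mem_right _ _ (Ideal.mul_mem_left _ d hamem))), add_zero,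
        residue_ne_zero_iff_isUnit]
      exact IsLocalization.map_units _ s
    refine ⟨hu.unit, ?_⟩
    rw [IsUnit.unit_spec, mul_add, hg₀, hfg]
  refine ⟨g, isUnit_of_nzd' hQ ι hι (mem_nonZeroDivisors_iff_right.2 fun x hx => ?_), hassoc, hgN⟩
  have hzero : ∀ (N : Ideal B) [N.IsMaximal], algebraMap B (Localization.AtPrime N) x = 0 := by
    intro N hN
    have hx' : algebraMap B (Localization.AtPrime N) x * algebraMap B (Localization.AtPrime N) g = 0 := by
      rw [← map_mul, hx, map_zero]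
    by_cases hNM : N = M
    · subst hNM
      obtain ⟨v, hv⟩ := hassoc
      exact (mem_nonZeroDivisors_iff_right.1 (mul_mem_nonZeroDivisors.2 ⟨hπ, v.isUnit.mem_nonZeroDivisors⟩)) _ (by rw [hv]; exact hx')
    · exact ((IsLocalization.AtPrime.isUnit_to_map_iff _ N g).2 (hgN N hN hNM)).mul_left_eq_zero.1 hx'
  by_contra hne
  have htop : (Submodule.colon (⊥ : Ideal B) {x}) ≠ ⊤ := fun h => hne (by
    have := (Ideal.eq_top_iff_one _).1 h
    rwa [Submodule.mem_colon_singleton, one_smul, Submodule.mem_bot] at this)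
  obtain ⟨N, hN, hle⟩ := Ideal.exists_le_maximal _ htop
  obtain ⟨u, hu⟩ := (IsLocalization.map_eq_zero_iff N.primeCompl _ _).1 (hzero N)
  exact u.2 (hle (Submodule.mem_colon_singleton.2 (by rw [smul_eq_mul]; exact hu)))

/-- `length B/gB` does not depend on the finite extension. -/
theorem length_quot_eq_ell {g : B} (hg : IsUnit (ι g)) (T : Subalgebra R Q) (hT : T.toSubmodule.FG)
    (hle : ι.range ≤ T) : Module.length R (B ⧸ Ideal.span {g}) = ell T (ι g) := by
  have hrg : ι.range.toSubmodule.FG := Module.Finite.iff_fg.1 (Module.Finite.equiv (AlgEquiv.ofInjective ι hι).toLinearEquiv)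
  rw [← hQ.ell_eq (g := ι g) hle hT ⟨g, rfl⟩ hg, ell_eq_length (g := ι g) ι.range ⟨g, rfl⟩]
  refine (Ideal.quotientEquivAlg _ _ (AlgEquiv.ofInjective ι hι) ?_).toLinearEquiv.length_eq
  rw [Ideal.map_span, Set.image_singleton]
  rfl

theorem length_quot_ne_top {g : B} (hg : IsUnit (ι g)) : Module.length R (B ⧸ Ideal.span {g}) ≠ ⊤ := by
  have hrg : ι.range.toSubmodule.FG := Module.Finite.iff_fg.1 (Module.Finite.equiv (AlgEquiv.ofInjective ι hι).toLinearEquiv)
  rw [length_quot_eq_ell hQ ι hι hg _ hrg le_rfl]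
  exact hQ.ell_ne_top hrg ⟨g, rfl⟩ hg

end Groth.MilnorKLambda.Amb
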