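import Mathlib.RingTheory.Localization.BaseChange
import Mathlib.RingTheory.TensorProduct.Maps

/-!
# Recognising a localisation of an algebra
-/

set_option autoImplicit false
universe u

open TensorProduct

namespace Groth.MilnorKLambda.Amb

/-- An algebra map which is surjective and injective up to the submonoid identifies the localisation. -/
theorem tensor_equiv_of_localized {A : Type u} [CommRing A] (S : Submonoid A) (L : Type u) [CommRing L] [Algebra A L]
    [IsLocalization S L] {C : Type u} [CommRing C] [Algebra A C] {B : Type u} [CommRing B] [Algebra L B]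
    [Algebra A B] [IsScalarTower A L B] (ψ : C →ₐ[A] B)
    (hs : ∀ y : B, ∃ s ∈ S, ∃ c : C, ψ c = algebraMap A B s * y)
    (hi : ∀ c : C, ψ c = 0 → ∃ s ∈ S, algebraMap A C s * c = 0) :
    Nonempty (L ⊗[A] C ≃ₐ[L] B) := by
  have : IsLocalizedModule S ψ.toLinearMap := by
    refine ⟨fun s => ?_, fun y => ?_, fun {c c'} h => ?_⟩
    · rw [Module.End.isUnit_iff]
      have hu : IsUnit (algebraMap A B s) := by
        rw [IsScalarTower.algebraMap_apply A L B]; exact (IsLocalization.map_units L s).map _
      refine ⟨fun p q hpq => hu.mul_left_cancel ?_, fun y => ⟨((hu.unit⁻¹ : Bˣ) : B) * y, ?_⟩⟩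
      · simpa [Algebra.smul_def] using hpq
      · simp only [Module.algebraMap_end_apply, Algebra.smul_def]
        rw [← mul_assoc, IsUnit.mul_val_inv, one_mul]
    · obtain ⟨s, hs, c, hc⟩ := hs y
      exact ⟨⟨c, ⟨s, hs⟩⟩, by rw [Submonoid.smul_def, Algebra.smul_def]; exact hc.symm⟩
    · obtain ⟨s, hs, hc⟩ := hi (c - c') (by rw [map_sub, sub_eq_zero]; exact h)
      refine ⟨⟨s, hs⟩, ?_⟩
      rw [Submonoid.smul_def, Submonoid.smul_def, Algebra.smul_def, Algebra.smul_def, ← sub_eq_zero, ← mul_sub, hc]
  let e := (IsLocalizedModule.isBaseChange S L ψ.toLinearMap).equiv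
  let φ : L ⊗[A] C →ₐ[L] B := Algebra.TensorProduct.lift (Algebra.ofId L B) ψ fun _ _ => Commute.all _ _
  have hφ : (φ : L ⊗[A] C → B) = e := by
    funext z
    induction z using TensorProduct.induction_on with
    | zero => simp
    | tmul l c =>
      rw [IsBaseChange.equiv_tmul, Algebra.TensorProduct.lift_tmul, Algebra.smul_def]
      rfl
    | add p q hp hq => rw [map_add, map_add, hp, hq]
  exact ⟨AlgEquiv.ofBijective φ (by rw [hφ]; exact e.bijective)⟩

end Groth.MilnorKLambda.Amb
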