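import Groth.Agent.MilnorKLambda.Tame1.CoBase

/-!
# Norm products over the maximal ideals of a finite extension
-/

set_option autoImplicit false
universe u

open IsLocalRing Finset

namespace Groth.MilnorKLambda.Amb

variable {R : Type u} [CommRing R] [IsNoetherianRing R] [IsLocalRing R] [Ring.KrullDimLE 1 R]
  {B : Type u} [CommRing B] [Algebra R B] [Module.Finite R B]

attribute [local instance] isLocalHom_atPrime

omit [IsNoetherianRing R] [Ring.KrullDimLE 1 R] in
theorem finite_residueField (M : Ideal B) [M.IsMaximal] :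
    Module.Finite (ResidueField R) (ResidueField (Localization.AtPrime M)) := by
  have : Module.Finite R (ResidueField (Localization.AtPrime M)) :=
    Module.Finite.of_surjective ((IsScalarTower.toAlgHom R B (ResidueField (Localization.AtPrime M))).toLinearMap)
      (M.algebraMap_residueField_surjective)
  exact Module.Finite.of_restrictScalars_finite R _ _

/-- Degree of the residue field at `M`. -/
noncomputable def deg (R : Type u) [CommRing R] [IsLocalRing R] {B : Type u} [CommRing B] [Algebra R B]
    [Module.Finite R B] (M : Ideal B) [M.IsMaximal] : ℕ :=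
  Module.finrank (ResidueField R) (ResidueField (Localization.AtPrime M))

omit [IsNoetherianRing R] [Ring.KrullDimLE 1 R] in
theorem deg_pos (M : Ideal B) [M.IsMaximal] : 0 < deg R M :=
  have := finite_residueField (R := R) M
  Module.finrank_pos

omit [IsNoetherianRing R] [Ring.KrullDimLE 1 R] in
theorem length_quot_maximal (M : Ideal B) [M.IsMaximal] : Module.length R (B ⧸ M) = (deg R M : ℕ∞) := by
  have := finite_residueField (R := R) M
  have e : (B ⧸ M) ≃ₐ[R] ResidueField (Localization.AtPrime M) :=
    AlgEquiv.ofBijective (IsScalarTower.toAlgHom R (B ⧸ M) _) M.bijective_algebraMap_quotient_residueField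
  rw [e.toLinearEquiv.length_eq, Module.length_eq_of_surjective (R := ResidueField R) (S := R)
    IsLocalRing.residue_surjective, Module.length_eq_finrank]
  rfl

/-- Norm from a residue field of `B` to that of `R`. -/
noncomputable def nrm (R : Type u) [CommRing R] [IsLocalRing R] {B : Type u} [CommRing B] [Algebra R B]
    [Module.Finite R B] (M : Ideal B) [M.IsMaximal] :
    ResidueField (Localization.AtPrime M) →* ResidueField R :=
  Algebra.norm (ResidueField R)

omit [IsNoetherianRing R] [Ring.KrullDimLE 1 R] in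
theorem nrm_algebraMap (M : Ideal B) [M.IsMaximal] (x : ResidueField R) :
    nrm R M (algebraMap (ResidueField R) _ x) = x ^ deg R M := Algebra.norm_algebraMap x

omit [IsNoetherianRing R] [Ring.KrullDimLE 1 R] in
theorem nrm_ne_zero (M : Ideal B) [M.IsMaximal] {x : ResidueField (Localization.AtPrime M)} (hx : x ≠ 0) :
    nrm R M x ≠ 0 := by
  have := finite_residueField (R := R) M
  exact Algebra.norm_ne_zero_iff.2 hx

theorem toNat_sum {α : Type*} (s : Finset α) (f : α → ℕ∞) (h : ∀ i ∈ s, f i ≠ ⊤) :
    (∑ i ∈ s, f i).toNat = ∑ i ∈ s, (f i).toNat := by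
  have : ∑ i ∈ s, f i = ((∑ i ∈ s, (f i).toNat : ℕ) : ℕ∞) := by
    rw [Nat.cast_sum]; exact Finset.sum_congr rfl fun i hi => (ENat.natCast_toNat (h i hi)).symm
  rw [this, ENat.toNat_coe]

variable [Fintype (MaximalSpectrum B)] {a : R} {Q : Type u} [CommRing Q] [Algebra R Q]

open Classical in
theorem length_quot_sum (hQ : IsAmb Q a) (ι : B →ₐ[R] Q) (hι : Function.Injective ι) {g : B} (hg : IsUnit (ι g)) :
    (Module.length R (B ⧸ Ideal.span {g})).toNat = ∑ M : MaximalSpectrum B,
      deg R M.asIdeal * (Ring.ord (Localization.AtPrime M.asIdeal) (algebraMap B _ g)).toNat := by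
  have htop := length_quot_ne_top hQ ι hι hg
  have h := length_quot_decomp (R := R) g htop
  rw [h] at htop ⊢
  rw [toNat_sum _ _ fun M hM hc => htop (by
    rw [← Finset.add_sum_erase _ _ hM, hc, top_add])]
  exact Finset.sum_congr rfl fun M _ => by rw [ENat.toNat_mul, length_quot_maximal, ENat.toNat_coe]

section fiber

variable {B' : Type u} [CommRing B'] [Algebra R B'] [Module.Finite R B'] [Fintype (MaximalSpectrum B')]

omit [IsNoetherianRing R] [IsLocalRing R] [Ring.KrullDimLE 1 R] [Fintype (MaximalSpectrum B)] [Fintype (MaximalSpectrum B')] in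
theorem comap_isMaximal_alg (φ : B →ₐ[R] B') (M' : MaximalSpectrum B') : (M'.asIdeal.comap φ).IsMaximal := by
  have := M'.isMaximal
  exact Ideal.isMaximal_comap_of_isIntegral_of_isMaximal' φ.toRingHom (fun x =>
    RingHom.IsIntegral.tower_top (algebraMap R B) φ.toRingHom (fun y => by
      rw [AlgHom.toRingHom_eq_coe, AlgHom.comp_algebraMap]
      exact Algebra.IsIntegral.isIntegral y) x) M'.asIdeal

/-- The maximal ideal below. -/
noncomputable def below (φ : B →ₐ[R] B') (M' : MaximalSpectrum B') : MaximalSpectrum B :=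
  ⟨M'.asIdeal.comap φ, comap_isMaximal_alg φ M'⟩

/-- The map of local rings. -/
noncomputable def locMap (φ : B →ₐ[R] B') (M' : MaximalSpectrum B') :
    Localization.AtPrime (below φ M').asIdeal →+* Localization.AtPrime M'.asIdeal :=
  Localization.localRingHom _ _ φ.toRingHom rfl

instance (φ : B →ₐ[R] B') (M' : MaximalSpectrum B') : IsLocalHom (locMap φ M') :=
  Localization.isLocalHom_localRingHom _ _ _ _

omit [IsNoetherianRing R] [IsLocalRing R] [Ring.KrullDimLE 1 R] [Fintype (MaximalSpectrum B)] [Fintype (MaximalSpectrum B')] in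
theorem locMap_algebraMap (φ : B →ₐ[R] B') (M' : MaximalSpectrum B') (x : B) :
    locMap φ M' (algebraMap B _ x) = algebraMap B' _ (φ x) := Localization.localRingHom_to_map _ _ _ _ x

omit [IsNoetherianRing R] [IsLocalRing R] [Ring.KrullDimLE 1 R] [Fintype (MaximalSpectrum B)] [Fintype (MaximalSpectrum B')] in
theorem locMap_algebraMap' (φ : B →ₐ[R] B') (M' : MaximalSpectrum B') (x : R) :
    locMap φ M' (algebraMap R _ x) = algebraMap R _ x := by
  rw [IsScalarTower.algebraMap_apply R B (Localization.AtPrime (below φ M').asIdeal), locMap_algebraMap, φ.commutes,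
    ← IsScalarTower.algebraMap_apply]

omit [IsNoetherianRing R] [Ring.KrullDimLE 1 R] [Fintype (MaximalSpectrum B)] [Fintype (MaximalSpectrum B')] in
theorem nrm_map (φ : B →ₐ[R] B') (M' : MaximalSpectrum B') :
    ∃ f : ℕ, deg R M'.asIdeal = f * deg R (below φ M').asIdeal ∧
      ∀ x, nrm R M'.asIdeal (ResidueField.map (locMap φ M') x) = nrm R (below φ M').asIdeal x ^ f := by
  set K := ResidueField (Localization.AtPrime (below φ M').asIdeal)
  set K' := ResidueField (Localization.AtPrime M'.asIdeal)
  let : Algebra K K' := (ResidueField.map (locMap φ M')).toAlgebra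
  have : IsScalarTower (ResidueField R) K K' := by
    refine IsScalarTower.of_algebraMap_eq fun x => ?_
    obtain ⟨r, rfl⟩ := residue_surjective x
    rw [RingHom.algebraMap_toAlgebra, ResidueField.algebraMap_residue, ResidueField.algebraMap_residue,
      ResidueField.map_residue, locMap_algebraMap']
  have := finite_residueField (R := R) (below φ M').asIdeal
  have := finite_residueField (R := R) M'.asIdeal
  have : Module.Finite K K' := Module.Finite.of_restrictScalars_finite (ResidueField R) K K'
  refine ⟨Module.finrank K K', ?_, fun x => ?_⟩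
  · exact (Module.finrank_mul_finrank (ResidueField R) K K').symm.trans (mul_comm _ _)
  · change Algebra.norm (ResidueField R) (algebraMap K K' x) = Algebra.norm (ResidueField R) x ^ _
    rw [← Algebra.norm_norm (R := ResidueField R) (S := K), Algebra.norm_algebraMap, map_pow]

omit [Fintype (MaximalSpectrum B)] [Fintype (MaximalSpectrum B')] in
theorem nzd_locMap (hQ : IsAmb Q a) (ι' : B' →ₐ[R] Q) (hι' : Function.Injective ι') (φ : B →ₐ[R] B')
    (hφ : Function.Injective φ) (M' : MaximalSpectrum B') {π : Localization.AtPrime (below φ M').asIdeal}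
    (hπ : π ∈ nonZeroDivisors (Localization.AtPrime (below φ M').asIdeal)) :
    locMap φ M' π ∈ nonZeroDivisors (Localization.AtPrime M'.asIdeal) := by
  obtain ⟨g, hg, ⟨v, hv⟩, -⟩ := exists_lift hQ (ι'.comp φ) (hι'.comp hφ) _ hπ
  have h := nzd_algebraMap_atPrime hQ ι' hι' M'.asIdeal (g := φ g) hg
  rw [← locMap_algebraMap, ← hv, map_mul] at h
  exact (mul_mem_nonZeroDivisors.1 h).1

open Classical in
/-- Pulling a factor back to a larger extension. -/
theorem nrm_fiber (hQ : IsAmb Q a) (ι' : B' →ₐ[R] Q) (hι' : Function.Injective ι') (φ : B →ₐ[R] B')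
    (hφ : Function.Injective φ) (π : ∀ M : MaximalSpectrum B, Localization.AtPrime M.asIdeal)
    (hπ : ∀ M, π M ∈ nonZeroDivisors (Localization.AtPrime M.asIdeal))
    (x : ∀ M : MaximalSpectrum B, ResidueField (Localization.AtPrime M.asIdeal)) :
    ∏ M' : MaximalSpectrum B', nrm R M'.asIdeal
        (ResidueField.map (locMap φ M') (x (below φ M')) ^ (Ring.ord _ (locMap φ M' (π (below φ M')))).toNat) =
      ∏ M : MaximalSpectrum B, nrm R M.asIdeal (x M ^ (Ring.ord _ (π M)).toNat) := by
  choose f hf hf' using nrm_map (R := R) φ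
  set ν : MaximalSpectrum B' → ℕ := fun M' => (Ring.ord _ (locMap φ M' (π (below φ M')))).toNat
  have key : ∀ M : MaximalSpectrum B, ∑ M' ∈ univ.filter (fun M' => below φ M' = M), f M' * ν M' =
      (Ring.ord _ (π M)).toNat := by
    intro M
    obtain ⟨g, hg, hassoc, hgN⟩ := exists_lift hQ (ι'.comp φ) (hι'.comp hφ) M.asIdeal (hπ M)
    have hlen : Module.length R (B ⧸ Ideal.span {g}) = Module.length R (B' ⧸ Ideal.span {φ g}) := by
      have hT : ι'.range.toSubmodule.FG :=
        Module.Finite.iff_fg.1 (Module.Finite.equiv (AlgEquiv.ofInjective ι' hι').toLinearEquiv)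
      rw [length_quot_eq_ell hQ (ι'.comp φ) (hι'.comp hφ) hg ι'.range hT
          (by rintro _ ⟨z, rfl⟩; exact ⟨φ z, rfl⟩), length_quot_eq_ell hQ ι' hι' (g := φ g) hg ι'.range hT le_rfl]
      rfl
    have hs := length_quot_sum hQ (ι'.comp φ) (hι'.comp hφ) hg
    rw [hlen, length_quot_sum hQ ι' hι' (g := φ g) hg] at hs
    rw [Finset.sum_eq_single (a := M) (s := univ) (f := fun N : MaximalSpectrum B =>
      deg R N.asIdeal * (Ring.ord (Localization.AtPrime N.asIdeal) (algebraMap B _ g)).toNat)] at hs
    rotate_left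
    · intro N _ hN
      rw [Ring.ord_of_isUnit ((IsLocalization.AtPrime.isUnit_to_map_iff _ N.asIdeal g).2
        (hgN _ N.isMaximal fun h => hN (MaximalSpectrum.ext h))), ENat.toNat_zero, mul_zero]
    · exact fun h => absurd (mem_univ _) h
    rw [← Finset.sum_filter_add_sum_filter_not univ (fun M' => below φ M' = M)] at hs
    rw [Finset.sum_eq_zero (s := univ.filter fun M' => ¬below φ M' = M), add_zero,
      ← Ring.ord_eq_of_associated hassoc] at hs
    swap
    · intro M' hM'
      rw [Ring.ord_of_isUnit ((IsLocalization.AtPrime.isUnit_to_map_iff _ M'.asIdeal (φ g)).2 fun hc => ?_),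
        ENat.toNat_zero, mul_zero]
      exact hgN (below φ M').asIdeal (below φ M').isMaximal (fun h => (Finset.mem_filter.1 hM').2 (MaximalSpectrum.ext h)) hc
    refine Nat.eq_of_mul_eq_mul_left (deg_pos (R := R) M.asIdeal) ?_
    rw [← hs, Finset.mul_sum]
    refine Finset.sum_congr rfl fun M' hM' => ?_
    obtain rfl : below φ M' = M := (Finset.mem_filter.1 hM').2
    rw [hf M', ← locMap_algebraMap φ M' g, ← Ring.ord_eq_of_associated (hassoc.map (locMap φ M'))]
    ring
  rw [← Finset.prod_fiberwise univ (below φ) (fun M' => nrm R M'.asIdeal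
    (ResidueField.map (locMap φ M') (x (below φ M')) ^ ν M'))]
  refine Finset.prod_congr rfl fun M _ => ?_
  rw [map_pow, ← key M, ← Finset.prod_pow_eq_pow_sum]
  refine Finset.prod_congr rfl fun M' hM' => ?_
  obtain rfl : below φ M' = M := (Finset.mem_filter.1 hM').2
  rw [map_pow, hf', ← pow_mul]

end fiber

end Groth.MilnorKLambda.Amb
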